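import Cfsg.Agent.Lib.PF.Defs8
import Cfsg.Agent.Lib.PF.Defs
import Cfsg.Agent.Lib.ZQ.DefsFT

/-!
# Definitions for Peterfalvi, Sections 8-14

Group-theoretic vocabulary is that of `Cfsg.Lib.BG` (`𝐍 𝐂 𝐅 𝐎`, `g ⋆ H`, `SD`, `DP`, `Nml`, `Frob`,
`Chief`, `Cj`, `UniqMax`, `[Sz G]`).  See `docs/PF.md`.
-/

set_option autoImplicit false
set_option linter.unusedVariables false

namespace Cfsg.Lib.BG.Z.PF

open Subgroup
open Cfsg.Lib.PF
open scoped Cfsg.Lib.Transfer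

export Cfsg.Lib.PF (NormedTI)

variable {G : Type*} [Group G]

/-- The Dade isometry relative to `(A₀(M), M, G)` (Coq `FT_Dade0`). -/
noncomputable abbrev ftDade (M : Subgroup G) : (G → ℂ) →ₗ[ℂ] (G → ℂ) :=
  dade (ftA0 M) M (supportR M)

/-- The Dade isometry relative to `(M_F^#, M, G)` (Coq `FT_DadeF`). -/
noncomputable abbrev ftDadeF (M : Subgroup G) : (G → ℂ) →ₗ[ℂ] (G → ℂ) :=
  dade (sharp 𝐇(M)) M (supportR M)

/-- `Ã` for a subset `A` of `A₀(M)`. -/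
abbrev ftSupp (M : Subgroup G) (A : Set G) : Set G := dadeSupport A (supportR M)

/-- Peterfalvi, Hypotheses (9.2), (9.4) and (9.6): `H/H₀` is a chief factor of `M` of order `p ^ q`
not centralized by `U`. -/
structure PCore (M U W₁ W₂ H₀ : Subgroup G) (p : ℕ) : Prop where
  ftp : FTP M U W₁ W₂
  notV : ¬ IsOfTypeV M
  chief : Chief M H₀ 𝐇(M)
  cent_le : 𝐇(M) ⊓ 𝐂(U) ≤ H₀
  prime : p.Prime
  index : H₀.relIndex 𝐇(M) = p ^ Nat.card W₁

variable [Finite G]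

end Cfsg.Lib.BG.Z.PF
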