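import Cfsg.Agent.Lib.PF.Defs12
import Cfsg.Agent.Lib.ZQ.Defs8

/-!
# Definitions for Peterfalvi, Sections 12-14
-/

set_option autoImplicit false
set_option linter.unusedVariables false

namespace Cfsg.Lib.BG.Z.PF

open Subgroup
open Cfsg.Lib.PF
open scoped Cfsg.Lib.Transfer

variable {G : Type*} [Group G] [Finite G]

/-- `ψ` is orthogonal to the sets `R(χ)` of Peterfalvi (12.2)(b), i.e. to the irreducible
constituents of all `(φ - φ̄)^τ`, `φ ∈ Irr L`, `L_F ≰ ker φ`. -/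
def OrthI (L : Subgroup G) (ψ : G → ℂ) : Prop :=
  ∀ φ ∈ Irr L, ¬ 𝐇(L) ≤ cfker φ → ∀ ξ ∈ Irr (⊤ : Subgroup G),
    cfdot ⊤ (ftDade L (φ - star φ)) ξ ≠ 0 → cfdot ⊤ ψ ξ = 0

/-- The data of Peterfalvi (13.19), (14.3), (14.10): a maximal subgroup `L` of type I, an isometry
`τ₁` extending the Dade isometry and a character `φ` induced from a linear character of `L_F`. -/
structure RefI (L : Subgroup G) (τ₁ : (G → ℂ) →ₗ[ℂ] (G → ℂ)) (φ : G → ℂ) : Prop where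
  max : Mx L
  typeI : TypeI L
  coh : CoherentWith L ⊤ (seqIndD 𝐇(L) L 𝐇(L) ⊥) (ftDadeF L) τ₁
  mem : φ ∈ seqIndD 𝐇(L) L 𝐇(L) ⊥
  deg_eq : φ 1 = 𝐇(L).relIndex L

end Cfsg.Lib.BG.Z.PF
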