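import Cfsg.Agent.Lib.PF.Sec10Bridge
import Cfsg.Agent.Lib.ZQ.Sec9Coh
import Cfsg.Agent.Lib.ZB.Max

/-!
# Peterfalvi (10.2), (10.3), (10.5) (first part), (10.9), (10.11): types III, IV, V

`calS = seqIndD ⁅M, M⁆ M ⁅M, M⁆ ⊥`, `τ = ftDade M`.
-/

set_option autoImplicit false
set_option linter.unusedVariables false

namespace Cfsg.Lib.BG.Z.PF

open Subgroup
open Cfsg.Lib.PF
open scoped Cfsg.Lib.Transfer

variable {G : Type*} [Group G] [Finite G] [Sz G] {M U W₁ W₂ : Subgroup G} {d n : ℕ} {δ : ℤ}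
  {ζ : G → ℂ} {S₁ : Finset (G → ℂ)} {τ₁ : (G → ℂ) →ₗ[ℂ] (G → ℂ)}

namespace FTP

variable (h : FTP M U W₁ W₂)
include h

theorem der2_lt : ⁅⁅M, M⁆, ⁅M, M⁆⁆ < ⁅M, M⁆ := by
  have h1 : (⊥ : Subgroup G) < ⁅M, M⁆ :=
    bot_lt_iff_ne_bot.2 (ne_bot_mono h.primeTI.ne₂ h.primeTI.W₂_le)
  simpa using commutator_sup_lt (sub_mmax_sol h.max (der_le M)) h1 (Nml.bot _).norm

/-- An irreducible member of `S` is orthogonal to the `μ_ij`. -/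
theorem cfdot_mu2_of_irr {H N : Subgroup G} (hζ : ζ ∈ seqIndD ⁅M, M⁆ M H N) (hζi : ζ ∈ Irr M)
    (i : LChar W₁) (j : LChar W₂) : cfdot M (mu2 M W₁ W₂ i j) ζ = 0 := by
  obtain ⟨θ, hθ, -, -, rfl⟩ := mem_seqIndD.1 hζ
  rcases h.primeTI.eq_chij_or_ind_mem_Irr hθ with ⟨k, rfl⟩ | ⟨-, hne⟩
  · rw [h.primeTI.ind_chij] at hζi
    exact absurd hζi (h.primeTI.muj_not_mem_Irr k)
  · exact Irr.cfdot_ne (h.primeTI.mu2_mem_Irr i j) hζi (hne i j).symm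

theorem cfdot_muj_of_irr {H N : Subgroup G} (hζ : ζ ∈ seqIndD ⁅M, M⁆ M H N) (hζi : ζ ∈ Irr M)
    (j : LChar W₂) : cfdot M (muj M W₁ W₂ j) ζ = 0 := by
  rw [muj, cfdot_sum_left]
  exact Finset.sum_eq_zero fun i _ => h.cfdot_mu2_of_irr hζ hζi i j

/-- The characters in `S(N)`, `M'' ≤ N`, are irreducible of degree `w₁` (from (10.2)). -/
theorem mem_Irr_of_der2_le {N : Subgroup G} (hN : ⁅⁅M, M⁆, ⁅M, M⁆⁆ ≤ N)
    (hζ : ζ ∈ seqIndD ⁅M, M⁆ M ⁅M, M⁆ N) : ζ ∈ Irr M ∧ ζ 1 = Nat.card W₁ := by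
  have hp := h.primeTI
  refine ⟨?_, by rw [SeqInd.apply_one_of_commutator_le (der_le M) hN hζ, hp.relIndex_eq]⟩
  obtain ⟨θ, hθ, h1, h2, rfl⟩ := mem_seqIndD.1 hζ
  rcases hp.eq_chij_or_ind_mem_Irr hθ with ⟨j, rfl⟩ | ⟨hi, -⟩
  · have h3 := (hp.le_cfker_chij_iff j (der_le _) (Nml.der_self M).der.norm).1 (hN.trans h1)
    obtain rfl : j = 1 := MonoidHom.ext fun w => Units.ext (by
      simpa using h3 w w.2 (TypeP.W₂_le_der2 h.P w.2))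
    rw [hp.chij_one, cfker_cf1] at h2
    exact absurd le_rfl h2
  · exact hi

/-- Peterfalvi (10.2). -/
theorem exists_ref_irr : ∃ ζ ∈ seqIndD ⁅M, M⁆ M ⁅M, M⁆ ⁅⁅M, M⁆, ⁅M, M⁆⁆,
    ζ ∈ Irr M ∧ ζ 1 = Nat.card W₁ := by
  obtain ⟨ζ, hζ⟩ := SeqInd.nonempty (L := M) (der_le M) (Nml.der_self M).norm le_rfl h.der2_lt
    (Nml.der_self _).norm
  exact ⟨ζ, hζ, h.mem_Irr_of_der2_le le_rfl hζ⟩

/-- Peterfalvi (10.3). -/
theorem exists_consts345 (h2 : ¬ IsOfTypeII M) : ∃ d δ n, Consts345 M W₁ W₂ d δ n := by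
  have hp := h.primeTI
  obtain ⟨j₀, hj₀, -⟩ := h.cycTI.exists_LChar_ne 1 1
  have hi₀ := hp.mu2_mem_Irr 1 j₀
  have key : ∀ j, j ≠ 1 → mu2 M W₁ W₂ 1 j 1 = mu2 M W₁ W₂ 1 j₀ 1 ∧
      pdelta M W₁ W₂ j = pdelta M W₁ W₂ j₀ := fun j hj => by
    obtain ⟨u, rfl, -⟩ := exists_autL_eq_of_prime (h.W₂_prime_of_not_typeII h2) hj₀ hj
      one_ne_zero (Nat.coprime_one_right _)
    refine ⟨?_, hp.pdelta_autL j₀ u⟩
    have h1 := congrFun (hp.comp_mu2 1 j₀ u) 1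
    rw [autL_one] at h1
    rw [← h1]
    exact ZI.comp_apply_one (Irr.mem_ZI hi₀) u
  have hd : 1 < deg (mu2 M W₁ W₂ 1 j₀) := by
    by_contra hd
    have h1 : deg (mu2 M W₁ W₂ 1 j₀) = 1 := by have := Irr.deg_pos hi₀; omega
    have h3 := (Irr.isChar hi₀).commutator_le_cfker (by rw [Irr.apply_one hi₀, h1, Nat.cast_one])
    obtain ⟨i, e⟩ := (hp.le_cfker_iff_eq_mu2 hi₀).1 h3
    exact hj₀ ((hp.mu2_inj _ _ _ _).1 e).2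
  obtain ⟨n, hn⟩ := hp.dvd_deg_mu2_sub 1 j₀
  have hw : (0 : ℤ) < Nat.card W₁ := by exact_mod_cast Nat.card_pos
  have hn0 : 0 ≤ n := by
    by_contra hn0
    have : (Nat.card W₁ : ℤ) * n < 0 := mul_neg_of_pos_of_neg hw (not_le.1 hn0)
    rcases pdelta_eq M W₁ W₂ j₀ with e | e <;> omega
  refine ⟨deg (mu2 M W₁ W₂ 1 j₀), pdelta M W₁ W₂ j₀, n.toNat, fun i j hj => ?_,
    fun j hj => (key j hj).2, hd, ?_⟩
  · rw [hp.mu2_apply_one i 1, (key j hj).1, Irr.apply_one hi₀]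
  · rw [hn, Int.toNat_of_nonneg hn0, mul_comm]

/-- `n` is even and positive. -/
theorem two_le_ratio (hc : Consts345 M W₁ W₂ d δ n) : 2 ≤ n := by
  obtain ⟨j, hj, -⟩ := h.cycTI.exists_LChar_ne 1 1
  have hd : Odd d := by
    rw [← deg_of_eq (hc.deg_eq 1 j hj)]
    exact (mFT_odd M).of_dvd_nat (Irr.deg_dvd_card (h.primeTI.mu2_mem_Irr 1 j))
  have h1 := hc.one_lt
  have h2 := hc.ratio
  obtain ⟨a, ha⟩ := hd
  obtain ⟨b, hb⟩ := h.cycTI.odd₁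
  rw [hb] at h2
  by_contra hn
  have : n = 0 ∨ n = 1 := by omega
  rcases this with rfl | rfl <;> rcases hc.sign hj with rfl | rfl <;> push_cast at h2 <;> omega

theorem bridge345_mem_ZI (hζi : ζ ∈ Irr M) (i : LChar W₁) (j : LChar W₂) :
    bridge345 M W₁ W₂ δ n ζ i j ∈ ZI M :=
  sub_mem (sub_mem (Irr.mem_ZI (h.primeTI.mu2_mem_Irr i j))
    (Submodule.smul_mem _ _ (Irr.mem_ZI (h.primeTI.mu2_mem_Irr i 1))))
    (nsmul_mem (Irr.mem_ZI hζi) n)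

/-- The scalar product of `α_ij` with an irreducible member of `S`. -/
theorem cfdot_bridge345_irr {ξ : G → ℂ} (hξ : ξ ∈ seqIndD ⁅M, M⁆ M ⁅M, M⁆ ⊥) (hξi : ξ ∈ Irr M)
    (i : LChar W₁) (j : LChar W₂) :
    cfdot M (bridge345 M W₁ W₂ δ n ζ i j) ξ = -n * cfdot M ζ ξ := by
  simp [-zsmul_eq_mul, -nsmul_eq_mul, bridge345, h.cfdot_mu2_of_irr hξ hξi]

open Classical in
theorem cfdot_bridge345_muj (hζ : ζ ∈ seqIndD ⁅M, M⁆ M ⁅M, M⁆ ⊥) (hζi : ζ ∈ Irr M)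
    (i : LChar W₁) (j k : LChar W₂) : cfdot M (bridge345 M W₁ W₂ δ n ζ i j) (muj M W₁ W₂ k) =
      (if j = k then 1 else 0) - δ * if 1 = k then 1 else 0 := by
  simp [-zsmul_eq_mul, -nsmul_eq_mul, bridge345, h.primeTI.cfdot_mu2_muj,
    cfdot_symm_zero (h.cfdot_muj_of_irr hζ hζi k)]

theorem Z0_mem_CFon_ftA0 (h2 : ¬ IsOfTypeII M) {α : G → ℂ}
    (hα : α ∈ Z0 (seqIndD ⁅M, M⁆ M ⁅M, M⁆ ⊥)) : α ∈ CFon M (ftA0 M) :=
  CFon.mono (h.prDade_der h2).A_subset (SeqInd.Z0_mem_CFon (Nml.der_self M).norm subset_rfl hα)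

/-- The image of a combination of irreducible members of `S` vanishes on `V`. -/
theorem map_apply_cycV (h2 : ¬ IsOfTypeII M) (hS : ConjSub S₁ (seqIndD ⁅M, M⁆ M ⁅M, M⁆ ⊥))
    (hi : S₁ ⊆ Irr M) (hcoh : CoherentWith M ⊤ S₁ (ftDade M) τ₁) {β : G → ℂ} (hβ : β ∈ ZS S₁)
    {v : G} (hv : v ∈ cycV W₁ W₂) : τ₁ β v = 0 :=
  h.cycTI.eq_zero_of_orth_eta (ZI.mem_CF (hcoh.map_mem_ZI hβ)) (fun i j =>
    ZS.cfdot_map_left_eq_zero (fun ξ hξ => (h.prDade_der h2).cfdot_map_eta hS hcoh hξ (hi hξ)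
      (SeqInd.star_ne (der_le M) (Nml.der_self M).norm (mFT_odd M) le_rfl (hS.sub hξ)) i j) hβ) v hv

variable (h2 : ¬ IsOfTypeII M) (hc : Consts345 M W₁ W₂ d δ n)
  (hζ : ζ ∈ seqIndD ⁅M, M⁆ M ⁅M, M⁆ ⊥) (hζi : ζ ∈ Irr M) (hζ1 : ζ 1 = Nat.card W₁)
  (i : LChar W₁) {j : LChar W₂} (hj : j ≠ 1)
include h2 hc hζ hζi hζ1 hj

/-- Peterfalvi (10.5), first part. -/
theorem bridge345_mem_CFon : bridge345 M W₁ W₂ δ n ζ i j ∈ CFon M (ftA0 M) := by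
  have hp := h.primeTI
  have hD := h.prDade_der h2
  have hCF := ZI.mem_CF (h.bridge345_mem_ZI (δ := δ) (n := n) hζi i j)
  refine mem_CFon_of hCF fun x hx hxA => ?_
  by_cases hK : x ∈ ⁅M, M⁆
  · obtain rfl : x = 1 := by
      by_contra h1
      exact hxA (hD.A_subset ⟨hK, h1⟩)
    simp [bridge345, hc.deg_eq i j hj, hp.mu2_one_apply_one, hζ1, hc.ratio_cast]
  · rcases hp.mem_classSupp_of_not_mem hx hK with h1 | ⟨w, hw, g, hg, rfl⟩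
    · exact absurd (hD.classSupp_subset h1) hxA
    · have hw₂ : w ∉ W₂ := fun h1 => hw.2 (by
        have : w ∈ W₁ ⊓ W₂ := ⟨hw.1, h1⟩
        rwa [h.cycTI.disj] at this)
      have hwK : w ∉ ⁅M, M⁆ := fun h1 => hw₂ (hp.inf_sup_eq ▸
        (⟨h1, mem_sup_left hw.1⟩ : w ∈ ⁅M, M⁆ ⊓ (W₁ ⊔ W₂)))
      rw [CF.conj hCF hg]
      simp [bridge345, hp.mu2_apply _ _ (mem_sup_left hw.1) hw₂, hc.sign_eq j hj, hp.pdelta_one,
        h.cycTI.omega_left _ _ hw.1, (SeqInd.mem_CFon (Nml.der_self M).norm hζ).2 w hwK]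

theorem dade_bridge345_mem_ZI : ftDade M (bridge345 M W₁ W₂ δ n ζ i j) ∈ ZI ⊤ :=
  Dade.mem_ZI (ftDade_hyp h.max) (h.bridge345_mem_ZI hζi i j)
    (h.bridge345_mem_CFon h2 hc hζ hζi hζ1 i hj).2

theorem cfnorm_dade_bridge345 :
    cfnorm ⊤ (ftDade M (bridge345 M W₁ W₂ δ n ζ i j)) = 2 + (n : ℝ) ^ 2 := by
  have hp := h.primeTI
  rw [Dade.cfnorm_dade (ftDade_hyp h.max) (h.bridge345_mem_CFon h2 hc hζ hζi hζ1 i hj), bridge345,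
    cfnorm_sub_of_orth (by simp [-zsmul_eq_mul, -nsmul_eq_mul, h.cfdot_mu2_of_irr hζ hζi]),
    cfnorm_sub_of_orth (by simp [-zsmul_eq_mul, hp.cfdot_mu2, hj]), cfnorm_zsmul, cfnorm_nsmul,
    Irr.cfnorm_eq (hp.mu2_mem_Irr _ _), Irr.cfnorm_eq (hp.mu2_mem_Irr _ _), Irr.cfnorm_eq hζi]
  rcases hc.sign hj with rfl | rfl <;> norm_num

theorem dade_bridge345_apply {v : G} (hv : v ∈ cycV W₁ W₂) :
    ftDade M (bridge345 M W₁ W₂ δ n ζ i j) v =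
      δ * (omega W₁ W₂ i j v - omega W₁ W₂ i 1 v) := by
  have hp := h.primeTI
  rw [(h.prDade_der h2).dade_apply_cycV (ZI.mem_CF (h.bridge345_mem_ZI hζi i j)) hv]
  rw [mem_cycV] at hv
  have hK : v ∉ ⁅M, M⁆ := fun h1 => hv.2.2 (hp.inf_sup_eq ▸ (⟨h1, hv.1⟩ : v ∈ ⁅M, M⁆ ⊓ (W₁ ⊔ W₂)))
  simp [bridge345, hp.mu2_apply _ _ hv.1 hv.2.2, hc.sign_eq j hj, hp.pdelta_one,
    (SeqInd.mem_CFon (Nml.der_self M).norm hζ).2 v hK, mul_sub]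

/-- `bridge345_coherence` with the weaker orthogonality hypothesis. -/
theorem bridge345_coherence' (hS : ConjSub S₁ (seqIndD ⁅M, M⁆ M ⁅M, M⁆ ⊥)) (hi : S₁ ⊆ Irr M)
    (hcoh : CoherentWith M ⊤ S₁ (ftDade M) τ₁) {X β : G → ℂ} (hβ : β ∈ ZS S₁)
    (he : ftDade M (bridge345 M W₁ W₂ δ n ζ i j) = X + τ₁ β)
    (ho : cfdot ⊤ X (τ₁ β) = 0) (hn : cfnorm ⊤ (τ₁ β) = (n : ℝ) ^ 2) :
    X = δ • (eta ⊤ W₁ W₂ i j - eta ⊤ W₁ W₂ i 1) := by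
  have hX : X = ftDade M (bridge345 M W₁ W₂ δ n ζ i j) - τ₁ β := by rw [he]; abel
  refine h.cycTI.eq_signed_sub_eta i j 1 ?_ ?_ (hc.sign hj) hj fun v hv => ?_
  · rw [hX]
    exact sub_mem (h.dade_bridge345_mem_ZI h2 hc hζ hζi hζ1 i hj) (hcoh.map_mem_ZI hβ)
  · have h1 := h.cfnorm_dade_bridge345 h2 hc hζ hζi hζ1 i hj
    rw [he, cfnorm_add_of_orth ho, hn] at h1
    linarith
  · rw [hX, Pi.sub_apply, h.map_apply_cycV h2 hS hi hcoh hβ hv, sub_zero,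
      h.dade_bridge345_apply h2 hc hζ hζi hζ1 i hj hv]

/-- Coq `FTtype345_bridge_coherence`. -/
theorem bridge345_coherence (hS : ConjSub S₁ (seqIndD ⁅M, M⁆ M ⁅M, M⁆ ⊥)) (hi : S₁ ⊆ Irr M)
    (hcoh : CoherentWith M ⊤ S₁ (ftDade M) τ₁) {X β : G → ℂ} (hβ : β ∈ ZS S₁)
    (he : ftDade M (bridge345 M W₁ W₂ δ n ζ i j) = X + τ₁ β)
    (ho : ∀ ξ ∈ S₁, cfdot ⊤ X (τ₁ ξ) = 0) (hn : cfnorm ⊤ (τ₁ β) = (n : ℝ) ^ 2) :
    X = δ • (eta ⊤ W₁ W₂ i j - eta ⊤ W₁ W₂ i 1) :=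
  h.bridge345_coherence' h2 hc hζ hζi hζ1 i hj hS hi hcoh hβ he (cfdot_symm_zero
    (ZS.cfdot_map_left_eq_zero (fun ξ hξ => cfdot_symm_zero (ho ξ hξ)) hβ)) hn

/-- Coq `def_tau_alpha`, used in (10.5) and (10.10.3). -/
theorem dade_bridge345_eq (hS : ConjSub S₁ (seqIndD ⁅M, M⁆ M ⁅M, M⁆ ⊥)) (hζS : ζ ∈ S₁)
    (hcoh : CoherentWith M ⊤ S₁ (ftDade M) τ₁)
    (hd : cfdot ⊤ (ftDade M (bridge345 M W₁ W₂ δ n ζ i j)) (τ₁ ζ) = -n) :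
    ftDade M (bridge345 M W₁ W₂ δ n ζ i j) =
      δ • (eta ⊤ W₁ W₂ i j - eta ⊤ W₁ W₂ i 1) - n • τ₁ ζ := by
  classical
  have hS₂ : ConjSub {ζ, star ζ} S₁ := ConjSub.pair hS.star_mem hζS
  have h1 : cfdot ⊤ (τ₁ ζ) (τ₁ ζ) = 1 := (hcoh.isDirr hζS hζi).cfdot_self
  have h3 : τ₁ (-(n • ζ)) = -(n • τ₁ ζ) := by rw [map_neg, map_nsmul]
  rw [← h.bridge345_coherence' h2 hc hζ hζi hζ1 i hj (hS₂.trans hS.sub) (β := -(n • ζ))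
    (X := ftDade M (bridge345 M W₁ W₂ δ n ζ i j) + n • τ₁ ζ) (fun ξ hξ => ?_) (hcoh.mono hS₂.sub)
    (neg_mem (nsmul_mem (mem_ZS_of_mem (by simp)) n)) (by rw [h3]; abel)
    (by rw [h3]; simp [-nsmul_eq_mul, hd, h1])
    (by rw [h3, cfnorm_neg, cfnorm_nsmul, cfdot_self_eq_one.1 h1, mul_one])]
  · abel
  · rcases Finset.mem_insert.1 hξ with rfl | hξ
    · exact hζi
    · rw [Finset.mem_singleton.1 hξ]
      exact Irr.star_mem hζi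

omit hc hj in
theorem bridge0_mem_CFon : muj M W₁ W₂ 1 - ζ ∈ CFon M (sharp ⁅M, M⁆) := by
  have h1 : muj M W₁ W₂ 1 - ζ ∈ CFon M (⁅M, M⁆ : Subgroup G) :=
    sub_mem (h.primeTI.muj_mem_CFon 1) (SeqInd.mem_CFon (Nml.der_self M).norm hζ)
  refine ⟨h1.1, fun x hx => ?_⟩
  by_cases hx1 : x = 1
  · subst hx1
    rw [Pi.sub_apply, h.primeTI.muj_apply_one 1, h.primeTI.mu2_one_apply_one, hζ1, mul_one, sub_self]
  · exact h1.2 x fun h3 => hx ⟨h3, hx1⟩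

omit hc hj in
/-- Peterfalvi (10.9). -/
theorem dade_bridge0 (hlt : Nat.card W₁ < Nat.card W₂) : ∃ χ, IsDirr ⊤ χ ∧
    ftDade M (muj M W₁ W₂ 1 - ζ) = ∑ i, eta ⊤ W₁ W₂ i 1 - χ ∧
    ∀ i j, cfdot ⊤ χ (eta ⊤ W₁ W₂ i j) = 0 := by
  classical
  have hp := h.primeTI
  have hD := h.prDade_der h2
  have hc := h.cycTI
  have hA := h.bridge0_mem_CFon h2 hζ hζi hζ1
  have hA0 := CFon.mono hD.A_subset hA
  set ψ := ftDade M (muj M W₁ W₂ 1 - ζ) with hψ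
  have hZ : ψ ∈ ZI ⊤ :=
    Dade.mem_ZI hD.dd (sub_mem (hp.muj_isChar 1).mem_ZI (Irr.mem_ZI hζi)) hA0.2
  have hn : cfnorm ⊤ ψ = (Nat.card W₁ + 1 : ℕ) := by
    rw [hψ, Dade.cfnorm_dade hD.dd hA0, cfnorm_sub_of_orth (h.cfdot_muj_of_irr hζ hζi 1),
      hp.cfnorm_muj, Irr.cfnorm_eq hζi, Nat.cast_succ]
  have h11 : cfdot ⊤ ψ (eta ⊤ W₁ W₂ 1 1) = 1 := by
    rw [hc.eta_one_one, hψ, Dade.cfdot_cf1 hD.dd hA0, cfdot_sub_left,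
      SeqInd.cfdot_cf1 (der_le M) le_rfl hζ, sub_zero, ← hp.mu2_one_one]
    exact cfdot_symm_one (by simp [hp.cfdot_mu2_muj])
  have h3 := hc.three_le₁
  rcases hc.small_cycNC 1 1 (ZI.mem_CF hZ) (fun v hv => hD.dade_apply_cycV_eq_zero hA hv)
    (lt_of_le_of_lt (hc.cycNC_le_of_cfnorm hZ hn.le) (by rw [min_eq_left hlt.le]; omega))
    (by rw [h11]; exact one_ne_zero) with h4 | h4
  · rw [h11] at h4
    have ho : ∀ i j, cfdot ⊤ (∑ i, eta ⊤ W₁ W₂ i 1 - ψ) (eta ⊤ W₁ W₂ i j) = 0 := fun i j => by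
      rw [cfdot_sub_left, h4, cfdot_sum_left]
      by_cases hj : j = 1
      · simp [hc.cfdot_eta, hj]
      · simp [hc.cfdot_eta, hj, Ne.symm hj]
    have hχ : ∑ i, eta ⊤ W₁ W₂ i 1 - ψ ∈ ZI ⊤ :=
      sub_mem (Submodule.sum_mem _ fun i _ => hc.eta_mem_ZI i 1) hZ
    refine ⟨_, ZI.isDirr_of_cfnorm hχ ?_, by abel, ho⟩
    have h5 : ψ = ∑ i, eta ⊤ W₁ W₂ i 1 - (∑ i, eta ⊤ W₁ W₂ i 1 - ψ) := by abel
    rw [h5, cfnorm_sub_of_orth (by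
      rw [cfdot_sum_left]
      exact Finset.sum_eq_zero fun i _ => cfdot_symm_zero (ho i 1)),
      cfnorm_sum_of_orth fun i _ j _ hij => hc.cfdot_eta_of_ne _ _ _ _ fun e => hij e.1] at hn
    simp only [(hc.eta_isDirr _ _).cfnorm_eq, Finset.sum_const, Finset.card_univ, hc.card_LChar₁,
      nsmul_eq_mul, mul_one, Nat.cast_succ] at hn
    linarith
  · exfalso
    rw [h11] at h4
    have h5 := bessel (H := ⊤) (s := Finset.univ) (f := fun j => eta ⊤ W₁ W₂ 1 j)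
      (fun i _ j _ hij => hc.cfdot_eta_of_ne _ _ _ _ fun e => hij e.2)
      (fun j _ => hc.cfdot_eta_self 1 j) ψ
    simp only [h4, if_true, norm_one, one_pow, Finset.sum_const, Finset.card_univ,
      hc.card_LChar₂, nsmul_eq_mul, mul_one, hn, Nat.cast_le] at h5
    obtain ⟨a, ha⟩ := hc.odd₁
    obtain ⟨b, hb⟩ := hc.odd₂
    omega

end FTP

end Cfsg.Lib.BG.Z.PF
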