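import Cfsg.Agent.Lib.PF.Sec10NonCoh
import Cfsg.Agent.Lib.ZQ.Sec10Bridge
import Cfsg.Agent.Lib.PF.Sec7InvDade
import Cfsg.Agent.Lib.PF.Sec6Grp

/-!
# Peterfalvi (10.5)-(10.8)
-/

set_option autoImplicit false
set_option linter.unusedVariables false

namespace Cfsg.Lib.BG.Z.PF

open Subgroup
open Cfsg.Lib.PF
open scoped Cfsg.Lib.Transfer

variable {G : Type*} [Group G] [Finite G] [Sz G] {M U W₁ W₂ : Subgroup G}

namespace FTP

variable {d n : ℕ} {δ : ℤ} {ζ : G → ℂ} {τ₁ : (G → ℂ) →ₗ[ℂ] (G → ℂ)} (h : FTP M U W₁ W₂)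
include h

/-- `|M' : M''| ≥ 2 w₁ + 1`. -/
theorem two_mul_lt_relIndex_der2 :
    2 * Nat.card W₁ + 1 ≤ (⁅⁅M, M⁆, ⁅M, M⁆⁆ : Subgroup G).relIndex ⁅M, M⁆ := by
  have h1 := relIndex_dvd_sub_one_of_frob_mod (der_le _) (der_le M) (Nml.der_self M).norm
    (Nml.der_self M).der.norm
    (TypeP.frob_mod_der2 h.P (Nml.der_self M).der.norm (der_le _) (TypeP.W₂_le_der2 h.P))
  rw [h.primeTI.relIndex_eq] at h1
  exact two_mul_add_one_le_of_odd h.cycTI.odd₁ (odd_relIndex (mFT_odd M) (der_le M) _)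
    (fun e => h.der2_lt.not_ge (relIndex_eq_one.1 e)) h1

theorem sum_bridge345 (hc : Consts345 M W₁ W₂ d δ n) (ζ : G → ℂ) (j : LChar W₂) :
    ∑ i, bridge345 M W₁ W₂ δ n ζ i j = (muj M W₁ W₂ j - d • ζ) - δ • (muj M W₁ W₂ 1 - ζ) := by
  simp only [bridge345, Finset.sum_sub_distrib, ← Finset.smul_sum, Finset.sum_const,
    Finset.card_univ, h.cycTI.card_LChar₁, muj]
  funext x
  simp only [Pi.sub_apply, Pi.smul_apply]
  simp only [nsmul_eq_mul, zsmul_eq_mul, hc.ratio_cast]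
  ring

theorem muj_sub_mem_Z0 (h2 : ¬ IsOfTypeII M) (hc : Consts345 M W₁ W₂ d δ n)
    (hζ : ζ ∈ seqIndD ⁅M, M⁆ M ⁅M, M⁆ ⊥) (hζ1 : ζ 1 = Nat.card W₁) {j : LChar W₂} (hj : j ≠ 1) :
    muj M W₁ W₂ j - d • ζ ∈ Z0 (seqIndD ⁅M, M⁆ M ⁅M, M⁆ ⊥) :=
  sub_mem_Z0 (mem_ZS_of_mem ((h.prDade_der h2).muj_mem_seqIndD j hj))
    (nsmul_mem (mem_ZS_of_mem hζ) d)
    (by rw [h.primeTI.muj_apply_one 1, hc.deg_eq 1 j hj, Pi.smul_apply, hζ1, nsmul_eq_mul, mul_comm])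

variable (h2 : ¬ IsOfTypeII M) (hc : Consts345 M W₁ W₂ d δ n)
  (hζ : ζ ∈ seqIndD ⁅M, M⁆ M ⁅M, M⁆ ⊥) (hζi : ζ ∈ Irr M) (hζ1 : ζ 1 = Nat.card W₁)
  (hcoh : CoherentWith M ⊤ (seqIndD ⁅M, M⁆ M ⁅M, M⁆ ⊥) (ftDade M) τ₁)
include h2 hc hζ hζi hζ1 hcoh

omit hζ hζi hζ1 in
theorem cfdot_dade_bridge345_Z0 (hζ : ζ ∈ seqIndD ⁅M, M⁆ M ⁅M, M⁆ ⊥) (hζi : ζ ∈ Irr M)
    (hζ1 : ζ 1 = Nat.card W₁) (i : LChar W₁) {j : LChar W₂} (hj : j ≠ 1) {α : G → ℂ}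
    (hα : α ∈ Z0 (seqIndD ⁅M, M⁆ M ⁅M, M⁆ ⊥)) :
    cfdot ⊤ (ftDade M (bridge345 M W₁ W₂ δ n ζ i j)) (τ₁ α) =
      cfdot M (bridge345 M W₁ W₂ δ n ζ i j) α := by
  rw [hcoh.agree α hα, Dade.isometry (ftDade_hyp h.max)
    (h.bridge345_mem_CFon h2 hc hζ hζi hζ1 i hj) (h.Z0_mem_CFon_ftA0 h2 hα)]

/-- Peterfalvi (10.5), second part. -/
theorem dade_bridge345_of_coherent (i : LChar W₁) {j : LChar W₂} (hj : j ≠ 1) :
    ftDade M (bridge345 M W₁ W₂ δ n ζ i j) =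
      δ • (eta ⊤ W₁ W₂ i j - eta ⊤ W₁ W₂ i 1) - n • τ₁ ζ := by
  refine h.dade_bridge345_eq h2 hc hζ hζi hζ1 i hj (SeqInd.conjSub le_rfl le_rfl) hζ hcoh ?_
  obtain ⟨m, hm⟩ := ZI.exists_cfdot_int (h.dade_bridge345_mem_ZI h2 hc hζ hζi hζ1 i hj)
    (hcoh.mem_ZI ζ hζ)
  obtain ⟨k, hk1, hkj⟩ := h.cycTI.exists_LChar_ne 1 j
  have hk := (h.prDade_der h2).muj_mem_seqIndD k hk1
  have h1 := h.cfdot_dade_bridge345_Z0 h2 hc hcoh hζ hζi hζ1 i hj (h.muj_sub_mem_Z0 h2 hc hζ hζ1 hk1)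
  rw [map_sub, map_nsmul, cfdot_sub_right, cfdot_sub_right, cfdot_nsmul_right, cfdot_nsmul_right,
    hm, h.cfdot_bridge345_muj hζ hζi, h.cfdot_bridge345_irr hζ hζi, Irr.cfdot_self hζi,
    if_neg hkj.symm, if_neg hk1.symm] at h1
  have h3 : cfdot ⊤ (ftDade M (bridge345 M W₁ W₂ δ n ζ i j)) (τ₁ (muj M W₁ W₂ k)) =
      ((d * (m + n) : ℤ) : ℂ) := by
    push_cast
    linear_combination h1
  have h4 := norm_cfdot_sq_le ⊤ (ftDade M (bridge345 M W₁ W₂ δ n ζ i j)) (τ₁ (muj M W₁ W₂ k))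
  rw [h3, Complex.norm_intCast, sq_abs, h.cfnorm_dade_bridge345 h2 hc hζ hζi hζ1 i hj,
    hcoh.cfnorm_map (mem_ZS_of_mem hk), h.primeTI.cfnorm_muj] at h4
  have h5 : ((d : ℤ) * (m + n)) ^ 2 ≤ (2 + (n : ℤ) ^ 2) * Nat.card W₁ := by exact_mod_cast h4
  have h6 : m + n = 0 := by
    by_contra h0
    have h7 : (d : ℤ) ^ 2 ≤ (2 + (n : ℤ) ^ 2) * Nat.card W₁ := by
      have : 1 ≤ (m + n) ^ 2 := by rw [← sq_abs]; nlinarith [Int.one_le_abs h0]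
      nlinarith [sq_nonneg (d : ℤ)]
    have hn : (2 : ℤ) ≤ n := by exact_mod_cast h.two_le_ratio hc
    have hw : (3 : ℤ) ≤ Nat.card W₁ := by exact_mod_cast h.cycTI.three_le₁
    have hr := hc.ratio
    generalize (Nat.card W₁ : ℤ) = w at *
    generalize (n : ℤ) = n at *
    have h8 : n * w - 1 ≤ d := by rcases hc.sign hj with e | e <;> omega
    have h9 : 0 ≤ n * w - 1 := by nlinarith
    have h10 : (n * w - 1) ^ 2 ≤ (2 + n ^ 2) * w := (pow_le_pow_left₀ h9 h8 2).trans h7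
    have h11 : 2 * (n ^ 2 * w) ≤ n ^ 2 * w * (w - 1) := by
      have : 0 ≤ n ^ 2 * w := by positivity
      nlinarith
    have h12 : 2 * (n * w) ≤ n ^ 2 * w := by nlinarith
    nlinarith
  rw [hm]
  exact_mod_cast eq_neg_of_add_eq_zero_left h6

omit hc hζ1 in
theorem cfdot_map_eta_of_coherent (i : LChar W₁) (j : LChar W₂) :
    cfdot ⊤ (τ₁ ζ) (eta ⊤ W₁ W₂ i j) = 0 :=
  (h.prDade_der h2).cfdot_map_eta (SeqInd.conjSub le_rfl le_rfl) hcoh hζ hζi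
    (SeqInd.star_ne (der_le M) (Nml.der_self M).norm (mFT_odd M) le_rfl hζ) i j

/-- Peterfalvi (10.6)(a), first part. -/
theorem map_muj_of_coherent {j : LChar W₂} (hj : j ≠ 1) :
    τ₁ (muj M W₁ W₂ j) = δ • ∑ i, eta ⊤ W₁ W₂ i j := by
  have hk := (h.prDade_der h2).muj_mem_seqIndD j hj
  rcases (h.prDade_der h2).map_muj (SeqInd.conjSub le_rfl le_rfl)
    (fun χ hχ => SeqInd.star_ne (der_le M) (Nml.der_self M).norm (mFT_odd M) le_rfl hχ)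
    ⟨ζ, hζ, hζi⟩ hk hcoh with h1 | ⟨h1, -⟩
  · rwa [hc.sign_eq j hj] at h1
  exfalso
  have h3 := h.cfdot_dade_bridge345_Z0 h2 hc hcoh hζ hζi hζ1 1 hj (h.muj_sub_mem_Z0 h2 hc hζ hζ1 hj)
  have h4 : cfdot ⊤ (τ₁ ζ) (τ₁ ζ) = 1 := (hcoh.isDirr hζ hζi).cfdot_self
  have h5 := fun i k => h.cfdot_map_eta_of_coherent h2 hζ hζi hcoh i k
  have h6 : j ≠ j⁻¹ := (LChar.inv_ne h.cycTI.odd₂ hj).symm
  have h7 : (1 : LChar W₂) ≠ j⁻¹ := fun e => hj (inv_eq_one (α := LChar W₂).1 e.symm)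
  rw [map_sub, map_nsmul, h1, cfdot_sub_right M, cfdot_nsmul_right M, h.cfdot_bridge345_muj hζ hζi,
    h.cfdot_bridge345_irr hζ hζi, Irr.cfdot_self hζi, if_pos rfl, if_neg hj.symm,
    h.dade_bridge345_of_coherent h2 hc hζ hζi hζ1 hcoh 1 hj] at h3
  simp only [cfdot_sub_left, cfdot_sub_right, cfdot_neg_right, cfdot_zsmul_left, cfdot_zsmul_right,
    cfdot_nsmul_left, cfdot_nsmul_right, cfdot_sum_right, h.cycTI.cfdot_eta, h4, h5,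
    fun i k => cfdot_symm_zero (h5 i k), h6, h7, and_false, if_false, sub_self, mul_zero,
    Finset.sum_const_zero] at h3
  exact one_ne_zero (α := ℂ) (by linear_combination -h3)

/-- Peterfalvi (10.6)(a), second part. -/
theorem dade_bridge0_of_coherent :
    ftDade M (muj M W₁ W₂ 1 - ζ) = ∑ i, eta ⊤ W₁ W₂ i 1 - τ₁ ζ := by
  obtain ⟨j, hj, -⟩ := h.cycTI.exists_LChar_ne 1 1
  have h1 := congrArg (ftDade M) (h.sum_bridge345 hc ζ j)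
  rw [map_sum, map_sub, ← hcoh.agree _ (h.muj_sub_mem_Z0 h2 hc hζ hζ1 hj), map_sub, map_nsmul,
    map_zsmul, h.map_muj_of_coherent h2 hc hζ hζi hζ1 hcoh hj] at h1
  simp only [h.dade_bridge345_of_coherent h2 hc hζ hζi hζ1 hcoh _ hj, Finset.sum_sub_distrib,
    ← Finset.smul_sum, Finset.sum_const, Finset.card_univ, h.cycTI.card_LChar₁] at h1
  funext x
  have h3 := congrFun h1 x
  simp only [Pi.sub_apply, Pi.smul_apply] at h3 ⊢
  simp only [nsmul_eq_mul, zsmul_eq_mul, hc.ratio_cast] at h3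
  rcases hc.sign hj with rfl | rfl
  · push_cast at h3
    linear_combination h3
  · push_cast at h3
    linear_combination -h3

/-- Peterfalvi (10.6)(b). -/
theorem one_le_norm_map_of_coherent {g : G} (hg : g ∉ ftSupp M (sharp ⁅M, M⁆))
    (hcop : (orderOf g).Coprime (Nat.card W₁)) : 1 ≤ ‖τ₁ ζ g‖ := by
  have h1 := Dade.apply_of_not_mem_sub (ftDade_hyp h.max) (h.prDade_der h2).A_subset
    (h.bridge0_mem_CFon h2 hζ hζi hζ1) hg
  have h3 := congrFun (h.dade_bridge0_of_coherent h2 hc hζ hζi hζ1 hcoh) g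
  rw [h1, Pi.sub_apply, eq_comm, sub_eq_zero, Finset.sum_apply] at h3
  rw [← h3]
  exact h.cycTI.one_le_norm_sum_eta hcop

/-- Peterfalvi (10.7), for the partner of `M`. -/
theorem frobKer_of_coherent {S V : Subgroup G} (hp : FTPair M S U V W₁ W₂) :
    FrobKer ⁅S, S⁆ 𝐇(S) := by
  classical
  have hS := hp.right
  have hS2 : IsOfTypeII S := hp.typeII.resolve_left h2
  obtain ⟨H₀, p, hP⟩ := hS.exists_pcore (hS.typeII hS2).1
  rcases hP.irr_or_pGalois with ⟨lam, hl, hli, hl1, -⟩ | h1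
  swap
  · exact h1.2.2.2.2 hS2
  exfalso
  obtain ⟨r, hr, hr'⟩ := hP.exists_muj
  obtain ⟨-, hν1, -⟩ := hP.muj_facts hr hr'
  have hD := hS.prDadeF
  have hν := hD.muj_mem_seqIndD r hr
  replace hl := SeqInd.mono le_rfl bot_le hl
  have hHK : 𝐇(S) ≤ ⁅S, S⁆ := hD.H_le
  have hne : ∀ χ ∈ seqIndD ⁅S, S⁆ S 𝐇(S) ⊥, star χ ≠ χ := fun χ hχ =>
    SeqInd.star_ne (der_le S) (Nml.der_self S).norm (mFT_odd S) hHK hχ
  obtain ⟨R, hR, -⟩ := hD.exists_subcoherent (SeqInd.conjSub le_rfl le_rfl) hne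
  obtain ⟨τ₂, hτ₂⟩ := hR.coherent_pair hl hν (hl1.trans hν1.symm)
  set T : Finset (G → ℂ) := {lam, star lam, muj S W₂ W₁ r, star (muj S W₂ W₁ r)} with hT
  have hTS : ConjSub T (seqIndD ⁅S, S⁆ S 𝐇(S) ⊥) := by
    have := (ConjSub.pair hR.star_mem hl).union (ConjSub.pair hR.star_mem hν)
    convert this using 1
    ext x
    simp only [hT, Finset.mem_insert, Finset.mem_union, Finset.mem_singleton, or_assoc]
  have hlT : lam ∈ T := by simp [hT]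
  have hνT : muj S W₂ W₁ r ∈ T := by simp [hT]
  -- the image of `ν_r`
  obtain ⟨r', ε, hε, hr'1, hτν⟩ : ∃ (r' : LChar W₁) (ε : ℤ), ε ≠ 0 ∧ r' ≠ 1 ∧
      τ₂ (muj S W₂ W₁ r) = ε • ∑ j, eta ⊤ W₁ W₂ r' j := by
    have h0 : pdelta S W₂ W₁ r ≠ 0 := by rcases pdelta_eq S W₂ W₁ r with e | e <;> omega
    rcases hD.map_muj hTS (fun χ hχ => hne χ (hTS.sub hχ)) ⟨lam, hlT, hli⟩ hνT hτ₂ with h1 | ⟨h1, -⟩
    · exact ⟨r, _, h0, hr, by simp only [h1, h.cycTI.eta_swap]⟩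
    · exact ⟨r⁻¹, -pdelta S W₂ W₁ r, neg_ne_zero.2 h0, inv_ne_one (α := LChar W₁).2 hr,
        by simp only [h1, h.cycTI.eta_swap, neg_smul]⟩
  have hTA : ∀ α ∈ Z0 T, α ∈ CFon S (ftA S) := fun α hα =>
    CFon.of_insert_one (ZS.mem_CFon (fun χ hχ => by
      obtain ⟨θ, hθ, -, h3, rfl⟩ := mem_seqIndD.1 (hTS.sub hχ)
      exact hD.ind_mem_CFon hθ h3) hα.1) hα.2
  have hdis := h.disjoint_ftSupp_typeII hS.max hS2 hp.not_cj
  rw [h.typeA1_eq h2] at hdis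
  have hDM := h.prDade_der h2
  have hc₁ : CoherentWith M ⊤ (seqIndD ⁅M, M⁆ M ⁅M, M⁆ ⊥) (dade (sharp ⁅M, M⁆) M (supportR M)) τ₁ :=
    hcoh.congr fun α hα => (Dade.restrict_eq hDM.dd hDM.A_subset
      (SeqInd.Z0_mem_CFon (Nml.der_self M).norm subset_rfl hα)).symm
  have hc₂ : CoherentWith S ⊤ T (dade (ftA S) S (supportR S)) τ₂ :=
    hτ₂.congr fun α hα => (Dade.restrict_eq hD.dd hD.A_subset (hTA α hα)).symm
  obtain ⟨s, hs, -⟩ := h.cycTI.exists_LChar_ne 1 1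
  have h3 := Dade.cfdot_eq_zero_of_disjoint (L := M) (L' := S) hdis (muj M W₁ W₂ s - d • ζ)
    (muj S W₂ W₁ r - lam)
  rw [← hc₁.agree _ (h.muj_sub_mem_Z0 h2 hc hζ hζ1 hs), ← hc₂.agree _ (sub_mem_Z0
    (mem_ZS_of_mem hνT) (mem_ZS_of_mem hlT) (hν1.trans hl1.symm)), map_sub, map_sub, map_nsmul, hτν,
    h.map_muj_of_coherent h2 hc hζ hζi hζ1 hcoh hs] at h3
  have h4 : cfdot ⊤ (τ₁ ζ) (τ₂ lam) = 0 :=
    disjoint_coherent_ortho hDM.ddA hD.ddA hdis hc₁ hc₂ hζi hζ (SeqInd.star_mem hζ)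
      (SeqInd.star_ne (der_le M) (Nml.der_self M).norm (mFT_odd M) le_rfl hζ) hli hlT
      (hTS.star_mem _ hlT) (hne _ hl)
  have h5 := fun i k => h.cfdot_map_eta_of_coherent h2 hζ hζi hcoh i k
  have h6 : ∀ i k, cfdot ⊤ (eta ⊤ W₁ W₂ i k) (τ₂ lam) = 0 := fun i k => by
    rw [← h.cycTI.eta_swap]
    exact cfdot_symm_zero (hD.cfdot_map_eta hTS hτ₂ hlT hli (hne _ hl) k i)
  have h7 : ∑ i, ∑ k, cfdot ⊤ (eta ⊤ W₁ W₂ i s) (eta ⊤ W₁ W₂ r' k) = 1 := by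
    simp [h.cycTI.cfdot_eta, ite_and]
  simp only [cfdot_sub_left, cfdot_sub_right, cfdot_zsmul_left, cfdot_zsmul_right,
    cfdot_nsmul_left, cfdot_sum_left, cfdot_sum_right, h4, h5, h6, Finset.sum_const_zero, mul_zero,
    sub_zero] at h3
  have h8 : (δ : ℂ) ≠ 0 := by rcases hc.sign hs with rfl | rfl <;> norm_num
  simp only [← Finset.mul_sum] at h3
  rw [Finset.sum_comm] at h7
  rw [h7, mul_one] at h3
  exact mul_ne_zero (Int.cast_ne_zero.2 hε) h8 h3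

end FTP

/-- The elements whose order is not prime to `|W₂|`, for a subgroup of type II whose derived group
is a Frobenius group. -/
theorem FTP.mem_classSupp_of_not_coprime (h : FTP M U W₁ W₂) (h2 : IsOfTypeII M)
    (hF : FrobKer ⁅M, M⁆ 𝐇(M)) {g : G} (hg : ¬ (orderOf g).Coprime (Nat.card W₂)) :
    g ∈ classSupp (sharp 𝐇(M)) ⊤ ∪ classSupp (cycV W₁ W₂) ⊤ := by
  obtain ⟨p, hp, hpg, hpw⟩ := Nat.Prime.not_coprime_iff_dvd.1 hg
  haveI := Fact.mk hp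
  have ha : orderOf (g ^ (orderOf g / p)) = p := orderOf_pow_orderOf_div (orderOf_pos g).ne' hpg
  set a := g ^ (orderOf g / p) with ha'
  obtain ⟨x, hx⟩ := exists_conj_mem_MF h.max hp (hpw.trans (card_dvd (TypeP.W₂_le h.P)))
    (P := zpowers a) (IsPGroup.of_card (n := 1) (by rw [Nat.card_zpowers, ha, pow_one]))
  have h1 : x * a * x⁻¹ ∈ sharp 𝐇(M) := by
    refine ⟨hx (Transfer.conj_mem_conj.2 (mem_zpowers a)), fun e => hp.one_lt.ne' ?_⟩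
    rw [← ha, orderOf_eq_one_iff]
    simpa using e
  have hTI := (typeII_normedTI h.max h2).2.2
  rw [typeA1_def, typeCore_of_typeII h.max h2] at hTI
  have h3 : x * g * x⁻¹ * (x * a * x⁻¹) = x * a * x⁻¹ * (x * g * x⁻¹) := by
    rw [conj_mul, conj_mul, ha', (Commute.self_pow g _).eq]
  have h4 : x * g * x⁻¹ ∈ M :=
    (hTI.conj_mem_iff _ h1 _ (mem_top _)).1 (by rwa [h3, mul_inv_cancel_right])
  have hoc : ∀ x g : G, orderOf (x * g * x⁻¹) = orderOf g := fun x g =>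
    (MulAut.conj x).orderOf_eq g
  suffices x * g * x⁻¹ ∈ classSupp (sharp 𝐇(M)) ⊤ ∪ classSupp (cycV W₁ W₂) ⊤ by
    rcases this with ⟨y, hy, z, -, e⟩ | ⟨y, hy, z, -, e⟩
    · exact Or.inl ⟨y, hy, x⁻¹ * z, mem_top _, by
        rw [mul_assoc x⁻¹, mul_inv_rev, inv_inv, ← mul_assoc, mul_assoc x⁻¹, ← e]; group⟩
    · exact Or.inr ⟨y, hy, x⁻¹ * z, mem_top _, by
        rw [mul_assoc x⁻¹, mul_inv_rev, inv_inv, ← mul_assoc, mul_assoc x⁻¹, ← e]; group⟩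
  by_cases hK : x * g * x⁻¹ ∈ ⁅M, M⁆
  · refine Or.inl ⟨_, ⟨hF.cent _ h1.1 h1.2 _ hK h3, fun e => hp.one_lt.ne' ?_⟩, 1, mem_top _, by simp⟩
    rw [← hoc x, Set.mem_singleton_iff.1 e, orderOf_one] at hpg
    exact Nat.dvd_one.1 hpg
  · rcases h.primeTI.mem_classSupp_of_not_mem h4 hK with ⟨y, hy, z, -, e⟩ | ⟨y, hy, z, -, e⟩
    · exact Or.inr ⟨y, hy, z, mem_top _, e⟩
    · refine absurd ?_ hg
      rw [← hoc x, e, hoc]
      exact h.cycTI.coprime.coprime_dvd_left (orderOf_dvd_natCard W₁ hy.1)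

/-- Peterfalvi (10.8) (Coq `FTtype345_noncoherence`). -/
theorem FTP.not_coherent (h : FTP M U W₁ W₂) (h2 : ¬ IsOfTypeII M) :
    ¬ Coherent M ⊤ (seqIndD ⁅M, M⁆ M ⁅M, M⁆ ⊥) (ftDade M) := by
  classical
  rintro ⟨τ₁, hcoh⟩
  obtain ⟨ζ, hζ, hζi, hζ1⟩ := h.exists_ref_irr
  replace hζ := SeqInd.mono le_rfl bot_le hζ
  obtain ⟨d, δ, n, hc⟩ := h.exists_consts345 h2
  obtain ⟨S, V, hp⟩ := h.exists_pair
  have hS := hp.right
  have hS2 : IsOfTypeII S := hp.typeII.resolve_left h2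
  have hF := h.frobKer_of_coherent h2 hc hζ hζi hζ1 hcoh hp
  have hD := h.prDade_der h2
  have hc₁ : CoherentWith M ⊤ (seqIndD ⁅M, M⁆ M ⁅M, M⁆ ⊥) (dade (sharp ⁅M, M⁆) M (supportR M)) τ₁ :=
    hcoh.congr fun α hα => (Dade.restrict_eq hD.dd hD.A_subset
      (SeqInd.Z0_mem_CFon (Nml.der_self M).norm subset_rfl hα)).symm
  -- orders
  have hm : (2 * Nat.card W₁ + 1) * Nat.card W₂ ≤ Nat.card ↥⁅M, M⁆ := by
    rw [← card_mul_relIndex' h.der2_lt.le, mul_comm]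
    exact Nat.mul_le_mul (card_le_of_le (TypeP.W₂_le_der2 h.P)) h.two_mul_lt_relIndex_der2
  have hw₁ := h.cycTI.three_le₁
  have hw₂ := h.cycTI.three_le₂
  have hu : 7 ≤ Nat.card V := by
    have hV := TypeP.frob hS.P (hS.typeII_IV (hS.typeII hS2).1).1
    have := (frobKer_of_frob hV).two_mul_relIndex_le (mFT_odd _)
    rw [hV.sd.relIndex_left] at this
    omega
  -- the lower bound
  obtain ⟨-, -, -, -, Γ, a, -, -, -, -, hlb⟩ := dade_ind1_sub_lin hD.ddA hc₁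
    (Finset.one_lt_card.2 ⟨_, SeqInd.star_mem hζ, ζ, hζ,
      SeqInd.star_ne (der_le M) (Nml.der_self M).norm (mFT_odd M) le_rfl hζ⟩) hζi hζ
    (by rw [hζ1, h.primeTI.relIndex_eq])
  rw [h.primeTI.relIndex_eq] at hlb
  replace hlb := (hlb (by nlinarith)).1
  -- the upper bound
  have hχ := hcoh.isDirr hζ hζi
  have hub := Dade.cover_inequality (Finset.univ : Finset Unit) (fun _ => sharp ⁅M, M⁆) (fun _ => M)
    (fun _ => supportR M) (fun _ _ => hD.ddA) (fun _ _ _ _ e => absurd rfl e)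
    (ftSupp M (sharp ⁅M, M⁆))ᶜ (by simp) hχ.mem_CF hχ.cfnorm_eq
  rw [Finset.sum_const, Finset.card_univ, Fintype.card_unit, one_smul] at hub
  set G₀ := (ftSupp M (sharp ⁅M, M⁆))ᶜ
  set G₁ := classSupp (sharp 𝐇(S)) ⊤ ∪ classSupp (cycV W₂ W₁) ⊤ with hG₁
  have h3 : (G₀.ncard : ℝ) - G₁.ncard ≤ ∑ g ∈ fs G₀, ‖τ₁ ζ g‖ ^ 2 := by
    have h4 : ((G₀ \ G₁).ncard : ℝ) ≤ ∑ g ∈ fs (G₀ \ G₁), ‖τ₁ ζ g‖ ^ 2 := by
      rw [← card_fs, ← nsmul_one]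
      refine Finset.card_nsmul_le_sum _ _ _ fun g hg => one_le_pow₀ ?_
      rw [mem_fs] at hg
      refine h.one_le_norm_map_of_coherent h2 hc hζ hζi hζ1 hcoh hg.1 (by_contra fun h5 => hg.2 ?_)
      exact hS.mem_classSupp_of_not_coprime hS2 hF h5
    have h5 : (G₀.ncard : ℝ) ≤ (G₀ \ G₁).ncard + G₁.ncard := by
      exact_mod_cast Set.ncard_le_ncard_sdiff_add_ncard G₀ G₁
    have h6 := Finset.sum_le_sum_of_subset_of_nonneg (f := fun g => ‖τ₁ ζ g‖ ^ 2)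
      (fs_subset_fs.2 (Set.sdiff_subset (s := G₀) (t := G₁))) fun _ _ _ => by positivity
    linarith
  have hsh : ∀ K : Subgroup G, ((sharp K).ncard : ℝ) = Nat.card K - 1 := fun K => by
    rw [Set.ncard_sdiff_singleton_of_mem K.one_mem, ← Nat.card_coe_set_eq,
      Nat.cast_pred Nat.card_pos]
    rfl
  have hTI := (typeII_normedTI hS.max hS2).2.2
  rw [typeA1_def, typeCore_of_typeII hS.max hS2] at hTI
  have h4 : (G₁.ncard : ℝ) ≤ S.relIndex ⊤ * (Nat.card 𝐇(S) - 1) +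
      (W₂ ⊔ W₁).relIndex ⊤ * ((Nat.card W₂ - 1) * (Nat.card W₁ - 1)) := by
    have h5 := (Nat.cast_le (α := ℝ)).2
      (Set.ncard_union_le (classSupp (sharp 𝐇(S)) ⊤) (classSupp (cycV W₂ W₁) ⊤))
    rw [hTI.ncard_classSupp, hS.cycTI.normedTI.ncard_classSupp, hS.cycTI.ncard_cycV] at h5
    push_cast [Nat.cast_pred (Nat.card_pos (α := W₁)), Nat.cast_pred (Nat.card_pos (α := W₂)),
      hsh] at h5
    exact h5
  have hH := card_pos_real 𝐇(S)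
  have e1 : (S.relIndex ⊤ : ℝ) = Nat.card G / (Nat.card 𝐇(S) * Nat.card V * Nat.card W₂) := by
    rw [eq_div_iff (by positivity), ← card_top (G := G), ← card_mul_relIndex' (le_top (a := S)),
      ← (TypeP.sd_der hS.P).card, ← (TypeP.sd_core hS.P).card]
    push_cast
    ring
  have e2 : ((W₂ ⊔ W₁).relIndex ⊤ : ℝ) = Nat.card G / (Nat.card W₂ * Nat.card W₁) := by
    rw [eq_div_iff (by positivity), ← card_top (G := G), ← card_mul_relIndex' (le_top (a := W₂ ⊔ W₁)),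
      hS.cycTI.card_sup]
    push_cast
    ring
  have hG : (0 : ℝ) < Nat.card G := by exact_mod_cast Nat.card_pos
  refine not_coherent_arith (w₁ := Nat.card W₁) (w₂ := Nat.card W₂) (u := Nat.card V)
    (m := Nat.card ↥⁅M, M⁆) (k := Nat.card 𝐇(S)) (by exact_mod_cast hw₁) (by exact_mod_cast hw₂)
    (by exact_mod_cast hu) (by exact_mod_cast Nat.card_pos)
    (by exact_mod_cast le_trans (Nat.mul_le_mul_right _ (Nat.le_succ _)) hm) ?_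
  rw [hsh, ← (TypeP.sd_der h.P).card, Nat.cast_mul] at hub
  have h7 : (Nat.card G : ℝ)⁻¹ * G₁.ncard ≤ (Nat.card 𝐇(S) - 1) / (Nat.card 𝐇(S) * Nat.card V *
      Nat.card W₂) + (Nat.card W₂ - 1) * (Nat.card W₁ - 1) / (Nat.card W₂ * Nat.card W₁) := by
    rw [inv_mul_le_iff₀ hG]
    refine h4.trans (le_of_eq ?_)
    rw [e1, e2]
    ring
  have h8 : (Nat.card G : ℝ)⁻¹ * (-G₁.ncard) ≤
      (Nat.card G : ℝ)⁻¹ * (∑ g ∈ fs G₀, ‖τ₁ ζ g‖ ^ 2 - G₀.ncard) :=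
    mul_le_mul_of_nonneg_left (by linarith) (by positivity)
  linarith

end Cfsg.Lib.BG.Z.PF
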