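import Cfsg.Agent.Lib.PF.Sec10TypeV
import Cfsg.Agent.Lib.ZQ.Sec10NonCoh
import Cfsg.Agent.Lib.PF.Sec6Sibley

/-!
# Peterfalvi (10.10), (10.11)
-/

set_option autoImplicit false
set_option linter.unusedVariables false

namespace Cfsg.Lib.BG.Z.PF

open Subgroup
open Cfsg.Lib.PF
open scoped Cfsg.Lib.Transfer

variable {G : Type*} [Group G] [Finite G] [Sz G] {M U W₁ W₂ : Subgroup G}

namespace FTP

variable {d n : ℕ} {δ : ℤ} {ζ : G → ℂ} {τ₁ : (G → ℂ) →ₗ[ℂ] (G → ℂ)} (h : FTP M U W₁ W₂)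
include h

/-- The first part of the proof of (10.10): the structure of `M' = M_F`. -/
theorem typeV_card (h2 : ¬ IsOfTypeII M) (h5 : IsOfTypeV M) :
    Nat.card ↥⁅M, M⁆ = Nat.card W₂ ^ 3 ∧
      (⁅⁅M, M⁆, ⁅M, M⁆⁆ : Subgroup G).relIndex ⁅M, M⁆ = Nat.card W₂ ^ 2 ∧
      Nat.card ↥⁅⁅M, M⁆, ⁅M, M⁆⁆ = Nat.card W₂ ∧ Nat.card W₂ + 1 = 2 * Nat.card W₁ := by
  have hnot := h.not_coherent h2
  have hD := h.prDade_der h2
  have hK : 𝐇(M) = ⁅M, M⁆ := by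
    have := TypeP.sd_core h.P
    rw [h.typeV_iff.1 h5] at this
    exact this.eq_of_right_bot
  have hnil : Group.IsNilpotent ↥⁅M, M⁆ := hK ▸ MF_nil M
  have hw₂ := h.W₂_prime_of_not_typeII h2
  obtain ⟨R, hR, -⟩ := hD.exists_subcoherent (SeqInd.conjSub le_rfl le_rfl)
    fun χ hχ => SeqInd.star_ne (der_le M) (Nml.der_self M).norm (mFT_odd M) le_rfl hχ
  have hF : OddFrobQuot M ⁅M, M⁆ ⊥ := by
    refine ⟨mFT_odd M, (Nml.bot M).norm, bot_le, ?_, by simpa using h.der2_lt,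
      lt_of_le_of_ne (der_le M) fun e => ?_, ?_⟩
    · obtain ⟨k, hk⟩ := (isNilpotent_iff_lowerCentralSeries _).1 hnil
      exact ⟨k, hk.le⟩
    · have h1 := h.primeTI.relIndex_eq
      have h3 := h.cycTI.three_le₁
      rw [e, relIndex_self] at h1
      omega
    · rw [sup_bot_eq]
      exact TypeP.frob_mod_der2 h.P (Nml.der_self M).der.norm (der_le _) (TypeP.W₂_le_der2 h.P)
  obtain ⟨-, hidx, p, m, hp, hcard, hna, hnd⟩ := non_coherent_chief (Nml.der_self M).norm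
    (sub_mmax_sol h.max (der_le M)) hR hF hnot
  have hsq := sq_le_relIndex_commutator hp (Nml.bot _).norm bot_le hcard hna
  rw [sup_bot_eq] at hidx hsq
  rw [h.primeTI.relIndex_eq] at hidx hnd
  rw [relIndex_bot_left] at hcard
  have hpq : ∀ q : ℕ, q.Prime → q ∣ Nat.card ↥⁅M, M⁆ → q = p := fun q hq hd =>
    (Nat.prime_dvd_prime_iff_eq hq hp).1 (hq.dvd_of_dvd_pow (hcard ▸ hd))
  have h3 := h.typeV h5
  rw [hK] at h3
  rcases h3 with hTI | ⟨q, hq, hd, h1, -⟩ | ⟨q, hq, hc, h1, -⟩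
  · refine absurd ((sibley_coherence_prDade (mFT_odd M) hnil hTI hD hw₂
      (TypeP.W₂_le_der2 h.P)).congr fun α hα => ?_) hnot
    exact (Dade.eq_ind hD.dd hD.A_subset (fun a ha => Dade.eq_bot_of_normedTI hD.dd hD.A_subset hTI ha)
      (SeqInd.Z0_mem_CFon (Nml.der_self M).norm subset_rfl hα)).symm
  · exact absurd (hpq q hq hd ▸ h1) hnd
  obtain rfl : q = p := hpq q hq
    (((dvd_pow_self q three_ne_zero).trans hc.symm.dvd).trans (card_dvd (pcore_le _ _)))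
  rw [pcore_eq_self (π := {q}) fun r hr hd => hpq r hr hd] at hc
  obtain rfl : q = Nat.card W₂ := (hpq _ hw₂ (card_dvd h.primeTI.W₂_le)).symm
  have h4 := card_mul_relIndex' h.der2_lt.le
  have h6 : Nat.card W₂ ≤ Nat.card ↥⁅⁅M, M⁆, ⁅M, M⁆⁆ := card_le_of_le (TypeP.W₂_le_der2 h.P)
  have h7 : (⁅⁅M, M⁆, ⁅M, M⁆⁆ : Subgroup G).relIndex ⁅M, M⁆ = Nat.card W₂ ^ 2 := by
    refine le_antisymm (Nat.le_of_mul_le_mul_left ?_ hw₂.pos) hsq
    calc _ ≤ _ := Nat.mul_le_mul_right _ h6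
      _ = _ := by rw [h4, hc]; ring
  refine ⟨hc, h7, ?_, ?_⟩
  · rw [h7, hc, pow_succ' _ 2] at h4
    exact Nat.eq_of_mul_eq_mul_right (pow_pos hw₂.pos 2) h4
  · obtain ⟨k, hk⟩ : Nat.card W₁ * 2 ∣ Nat.card W₂ + 1 :=
      Nat.Coprime.mul_dvd_of_dvd_of_dvd (Nat.coprime_two_right.2 h.cycTI.odd₁) h1
        h.cycTI.odd₂.add_one.two_dvd
    have hw := h.cycTI.three_le₁
    rw [h7] at hidx
    generalize Nat.card W₁ = w at *
    generalize Nat.card W₂ = q at *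
    obtain rfl | rfl | hk2 : k = 0 ∨ k = 1 ∨ 2 ≤ k := by omega
    · omega
    · omega
    · have h8 : 3 * w ≤ q := by nlinarith
      nlinarith

/-- Peterfalvi (10.10.3), for a large set `S₁` of irreducible characters of degree `w₁`. -/
theorem dade_bridge345_of_card (h2 : ¬ IsOfTypeII M) (hc : Consts345 M W₁ W₂ d δ 2)
    {S₁ : Finset (G → ℂ)} (hS : ConjSub S₁ (seqIndD ⁅M, M⁆ M ⁅M, M⁆ ⊥))
    (hi : ∀ ξ ∈ S₁, ξ ∈ Irr M ∧ ξ 1 = Nat.card W₁) (h8 : 8 ≤ S₁.card) (hζ : ζ ∈ S₁)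
    (hcoh : CoherentWith M ⊤ S₁ (ftDade M) τ₁) (i : LChar W₁) {j : LChar W₂} (hj : j ≠ 1) :
    ftDade M (bridge345 M W₁ W₂ δ 2 ζ i j) =
      δ • (eta ⊤ W₁ W₂ i j - eta ⊤ W₁ W₂ i 1) - 2 • τ₁ ζ := by
  classical
  obtain ⟨hζi, hζ1⟩ := hi ζ hζ
  have hζS := hS.sub hζ
  refine h.dade_bridge345_eq h2 hc hζS hζi hζ1 i hj hS hζ hcoh ?_
  obtain ⟨m, hm⟩ := ZI.exists_cfdot_int (h.dade_bridge345_mem_ZI h2 hc hζS hζi hζ1 i hj)
    (hcoh.mem_ZI ζ hζ)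
  have h1 : ∀ ξ ∈ S₁.erase ζ,
      cfdot ⊤ (ftDade M (bridge345 M W₁ W₂ δ 2 ζ i j)) (τ₁ ξ) = (m + 2 : ℤ) := fun ξ hξ => by
    obtain ⟨hne, hξ⟩ := Finset.mem_erase.1 hξ
    have h3 : ζ - ξ ∈ Z0 S₁ :=
      sub_mem_Z0 (mem_ZS_of_mem hζ) (mem_ZS_of_mem hξ) (hζ1.trans (hi ξ hξ).2.symm)
    have h4 := Dade.isometry (ftDade_hyp h.max) (h.bridge345_mem_CFon h2 hc hζS hζi hζ1 i hj)
      (h.Z0_mem_CFon_ftA0 h2 (Z0_mono hS.sub h3))
    rw [← hcoh.agree _ h3, map_sub, cfdot_sub_right, cfdot_sub_right, hm,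
      h.cfdot_bridge345_irr hζS hζi, h.cfdot_bridge345_irr (hS.sub hξ) (hi ξ hξ).1,
      Irr.cfdot_self hζi, Irr.cfdot_ne hζi (hi ξ hξ).1 hne.symm] at h4
    push_cast at h4 ⊢
    linear_combination -h4
  have h3 := bessel (H := ⊤) (s := S₁) (f := fun ξ => τ₁ ξ)
    (fun ξ hξ φ hφ hne => by rw [hcoh.iso ξ hξ φ hφ, Irr.cfdot_ne (hi ξ hξ).1 (hi φ hφ).1 hne])
    (fun ξ hξ => (hcoh.isDirr hξ (hi ξ hξ).1).cfdot_self) (ftDade M (bridge345 M W₁ W₂ δ 2 ζ i j))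
  rw [← Finset.add_sum_erase _ _ hζ, hm, Finset.sum_congr rfl fun ξ hξ => by rw [h1 ξ hξ],
    Finset.sum_const, Finset.card_erase_of_mem hζ, h.cfnorm_dade_bridge345 h2 hc hζS hζi hζ1 i hj,
    Complex.norm_intCast, Complex.norm_intCast, sq_abs, sq_abs, nsmul_eq_mul] at h3
  have h4 : m ^ 2 + (S₁.card - 1 : ℕ) * (m + 2) ^ 2 ≤ 2 + 2 ^ 2 := by exact_mod_cast h3
  have h5 : (7 : ℤ) ≤ (S₁.card - 1 : ℕ) := by exact_mod_cast (by omega : 7 ≤ S₁.card - 1)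
  have h6 : m ^ 2 + 7 * (m + 2) ^ 2 ≤ 6 := by nlinarith [sq_nonneg (m + 2)]
  have h7 : m = -2 := by
    have : -3 < m := by nlinarith
    have : m < -1 := by nlinarith
    omega
  rw [hm, h7]
  norm_num

/-- Peterfalvi (10.10.4): the bridge between the `μ_j` and `ζ`. -/
theorem dade_muj_sub_of_bridge (h2 : ¬ IsOfTypeII M) (hc : Consts345 M W₁ W₂ d δ n)
    (hlt : Nat.card W₁ < Nat.card W₂) (hζ : ζ ∈ seqIndD ⁅M, M⁆ M ⁅M, M⁆ ⊥) (hζi : ζ ∈ Irr M)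
    (hζ1 : ζ 1 = Nat.card W₁) {χ : G → ℂ} (hχ : IsDirr ⊤ χ)
    (ho : ∀ i j, cfdot ⊤ χ (eta ⊤ W₁ W₂ i j) = 0) {j : LChar W₂} (hj : j ≠ 1)
    (he : ∀ i, ftDade M (bridge345 M W₁ W₂ δ n ζ i j) =
      δ • (eta ⊤ W₁ W₂ i j - eta ⊤ W₁ W₂ i 1) - n • χ) :
    ftDade M (muj M W₁ W₂ j - d • ζ) = δ • ∑ i, eta ⊤ W₁ W₂ i j - d • χ := by
  classical
  obtain ⟨χ', hχ', h1, ho'⟩ := h.dade_bridge0 h2 hζ hζi hζ1 hlt
  obtain rfl : χ = χ' := by
    refine hχ.eq_of_cfdot_eq_one hχ' ?_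
    have h3 := Dade.isometry (ftDade_hyp h.max) (h.bridge345_mem_CFon h2 hc hζ hζi hζ1 1 hj)
      (CFon.mono (h.prDade_der h2).A_subset (h.bridge0_mem_CFon h2 hζ hζi hζ1))
    rw [cfdot_sub_right M, h.cfdot_bridge345_muj hζ hζi, h.cfdot_bridge345_irr hζ hζi,
      Irr.cfdot_self hζi, if_neg hj, if_pos rfl] at h3
    change cfdot ⊤ (ftDade M _) (ftDade M _) = _ at h3
    rw [he, h1] at h3
    simp only [cfdot_sub_left, cfdot_sub_right, cfdot_zsmul_left, cfdot_nsmul_left, cfdot_sum_right,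
      h.cycTI.cfdot_eta, ho, fun i k => cfdot_symm_zero (ho' i k), hj, and_false, and_true, if_false,
      mul_zero, sub_zero, zero_sub, sub_self, Finset.sum_neg_distrib, ← Finset.mul_sum,
      Finset.sum_ite_eq, Finset.mem_univ, if_true] at h3
    have h4 : (n : ℂ) ≠ 0 := by
      have := h.two_le_ratio hc
      exact_mod_cast (by omega : n ≠ 0)
    exact mul_left_cancel₀ h4 (by linear_combination h3)
  have h3 := congrArg (ftDade M) (h.sum_bridge345 hc ζ j)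
  rw [map_sum, map_sub, map_zsmul, h1] at h3
  simp only [he, Finset.sum_sub_distrib, ← Finset.smul_sum, Finset.sum_const, Finset.card_univ,
    h.cycTI.card_LChar₁] at h3
  funext x
  have h4 := congrFun h3 x
  simp only [Pi.sub_apply, Pi.smul_apply] at h4 ⊢
  simp only [nsmul_eq_mul, zsmul_eq_mul, hc.ratio_cast] at h4 ⊢
  linear_combination -h4

/-- Peterfalvi (10.10) (Coq `FTtype5_exclusion_main`). -/
theorem notV : ¬ IsOfTypeV M := by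
  classical
  intro h5
  have h2 : ¬ IsOfTypeII M := fun h2 => (h.typeII h2).1 h5
  obtain ⟨hK, hidx, hK', hw⟩ := h.typeV_card h2 h5
  obtain ⟨d, δ, n, hc⟩ := h.exists_consts345 h2
  have hp := h.primeTI
  have hD := h.prDade_der h2
  have hw₂ := h.W₂_prime_of_not_typeII h2
  have hw₁ := h.cycTI.three_le₁
  have hn := (Nml.der_self M).norm
  have hn' := (Nml.der_self M).der.norm
  set S₁ := seqIndD ⁅M, M⁆ M ⁅M, M⁆ ⁅⁅M, M⁆, ⁅M, M⁆⁆ with hS₁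
  set S₂ := seqIndD ⁅M, M⁆ M ⁅⁅M, M⁆, ⁅M, M⁆⁆ ⊥ with hS₂
  have hi : ∀ ξ ∈ S₁, ξ ∈ Irr M ∧ ξ 1 = Nat.card W₁ := fun ξ hξ => h.mem_Irr_of_der2_le le_rfl hξ
  have hw0 : (0 : ℝ) < Nat.card W₁ := card_pos_real W₁
  have hw' : (Nat.card W₂ : ℝ) + 1 = 2 * Nat.card W₁ := by exact_mod_cast hw
  -- `|S₁| ≥ 8`
  have h8 : 8 ≤ S₁.card := by
    have h1 := SeqInd.sum_sq (der_le M) hn le_rfl (der_le _) hn hn'
    rw [Finset.sum_congr rfl fun ξ hξ => by rw [deg_of_eq (hi ξ hξ).2, Irr.cfnorm_eq (hi ξ hξ).1],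
      Finset.sum_const, hp.relIndex_eq, relIndex_self, hidx, nsmul_eq_mul] at h1
    have h3 : (S₁.card : ℝ) = 4 * (Nat.card W₁ - 1) := by
      refine mul_right_cancel₀ (pow_pos hw0 2).ne' ?_
      push_cast at h1
      rw [eq_sub_of_add_eq hw'] at h1
      linear_combination h1
    have h4 : (3 : ℝ) ≤ Nat.card W₁ := by exact_mod_cast hw₁
    exact_mod_cast (by linarith : (8 : ℝ) ≤ S₁.card)
  -- `S₂` consists of the `μ_j`, and `d = w₂`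
  obtain ⟨j, hj, -⟩ := h.cycTI.exists_LChar_ne 1 1
  have hd : Nat.card W₂ ≤ d := by
    have h1 := Irr.deg_dvd_card (hp.chij_mem_Irr j)
    rw [deg_of_eq ((hp.chij_apply_one 1 j).trans (hc.deg_eq 1 j hj)), hK] at h1
    obtain ⟨k, -, rfl⟩ := (Nat.dvd_prime_pow hw₂).1 h1
    refine Nat.le_self_pow (fun e => ?_) _
    have := hc.one_lt
    simp [e] at this
  set T := (Finset.univ.erase (1 : LChar W₂)).image (muj M W₁ W₂) with hT
  have hTS : T ⊆ S₂ := fun φ hφ => by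
    obtain ⟨k, hk, rfl⟩ := Finset.mem_image.1 hφ
    refine mem_seqIndD.2 ⟨_, hp.chij_mem_Irr k, bot_le, fun h1 => Finset.ne_of_mem_erase hk ?_,
      hp.ind_chij k⟩
    have h3 := (hp.le_cfker_chij_iff k (der_le _) hn').1 h1
    exact MonoidHom.ext fun w => Units.ext (by
      simpa using h3 w w.2 (TypeP.W₂_le_der2 h.P w.2))
  have hsum := SeqInd.sum_sq (der_le M) hn (der_le _) bot_le hn' (Nml.bot M).norm
  rw [hp.relIndex_eq, hidx, relIndex_bot_left, hK', ← hS₂, ← Finset.sum_sdiff hTS, hT,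
    Finset.sum_image fun a _ b _ e => (hp.muj_inj a b).1 e,
    Finset.sum_congr (s₁ := Finset.univ.erase 1) rfl fun k hk => by
      rw [deg_of_eq (n := Nat.card W₁ * d) (by
        rw [hp.muj_apply_one 1, hc.deg_eq 1 k (Finset.ne_of_mem_erase hk), Nat.cast_mul]),
        hp.cfnorm_muj],
    Finset.sum_const, Finset.card_erase_of_mem (Finset.mem_univ _), Finset.card_univ,
    h.cycTI.card_LChar₂, nsmul_eq_mul, Nat.cast_pred hw₂.pos, ← hT] at hsum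
  have hpos : ∀ φ ∈ S₂ \ T, 0 < (deg φ : ℝ) ^ 2 / cfnorm M φ := fun φ hφ => by
    have h1 := (Finset.mem_sdiff.1 hφ).1
    have h3 : (0 : ℝ) < deg φ := by exact_mod_cast SeqInd.deg_pos (der_le M) h1
    exact div_pos (by positivity) (SeqInd.cfnorm_pos (der_le M) h1)
  have hnn := Finset.sum_nonneg fun φ hφ => (hpos φ hφ).le
  have hw1 : (0 : ℝ) < Nat.card W₂ - 1 := by
    have : (1 : ℝ) < Nat.card W₂ := by exact_mod_cast hw₂.one_lt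
    linarith
  have hd' : (Nat.card W₂ : ℝ) ^ 2 ≤ (d : ℝ) ^ 2 := by exact_mod_cast Nat.pow_le_pow_left hd 2
  have hsum' : ∑ φ ∈ S₂ \ T, (deg φ : ℝ) ^ 2 / cfnorm M φ =
      (Nat.card W₂ - 1) * Nat.card W₁ * (Nat.card W₂ ^ 2 - d ^ 2) := by
    push_cast at hsum
    rw [mul_pow, pow_two (Nat.card W₁ : ℝ), mul_assoc, mul_div_cancel_left₀ _ hw0.ne'] at hsum
    linear_combination hsum
  have hd2 : (d : ℝ) ^ 2 = (Nat.card W₂ : ℝ) ^ 2 := by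
    rw [hsum'] at hnn
    have := nonneg_of_mul_nonneg_right hnn (mul_pos hw1 hw0)
    linarith
  have hST : S₂ ⊆ T := by
    rw [← Finset.sdiff_eq_empty_iff_subset]
    by_contra h0
    have := Finset.sum_pos hpos (Finset.nonempty_iff_ne_empty.2 h0)
    rw [hsum', hd2, sub_self, mul_zero] at this
    exact lt_irrefl _ this
  obtain rfl : d = Nat.card W₂ := by
    exact_mod_cast (pow_left_inj₀ (Nat.cast_nonneg _) (Nat.cast_nonneg _) two_ne_zero).1 hd2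
  obtain rfl : n = 2 := by
    have h1 := h.two_le_ratio hc
    have h3 := hc.ratio
    by_contra h4
    have h6 : (3 : ℤ) * Nat.card W₁ ≤ n * Nat.card W₁ :=
      mul_le_mul_of_nonneg_right (by exact_mod_cast (by omega : 3 ≤ n)) (Nat.cast_nonneg _)
    rcases hc.sign hj with e | e <;> omega
  -- coherence
  obtain ⟨R, hR, -⟩ := hD.exists_subcoherent (SeqInd.conjSub le_rfl le_rfl)
    fun χ hχ => SeqInd.star_ne (der_le M) hn (mFT_odd M) le_rfl hχ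
  have hc₁ : ConjSub S₁ (seqIndD ⁅M, M⁆ M ⁅M, M⁆ ⊥) := SeqInd.conjSub le_rfl bot_le
  have hc₂ : ConjSub S₂ (seqIndD ⁅M, M⁆ M ⁅M, M⁆ ⊥) := SeqInd.conjSub (der_le _) le_rfl
  obtain ⟨τ₁, hτ₁⟩ := (hR.mono hc₁).coherent_of_uniform fun φ hφ ψ hψ =>
    (hi φ hφ).2.trans (hi ψ hψ).2.symm
  obtain ⟨ζ, hζ⟩ : S₁.Nonempty := Finset.card_pos.1 (by omega)
  have hmu : ∀ φ ∈ S₂, ∃ k, k ≠ 1 ∧ φ = muj M W₁ W₂ k ∧ muj M W₁ W₂ k 1 = muj M W₁ W₂ j 1 :=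
    fun φ hφ => by
      obtain ⟨k, hk, rfl⟩ := Finset.mem_image.1 (hST hφ)
      refine ⟨k, Finset.ne_of_mem_erase hk, rfl, ?_⟩
      rw [hp.muj_apply_one 1, hp.muj_apply_one 1, hc.deg_eq 1 j hj,
        hc.deg_eq 1 k (Finset.ne_of_mem_erase hk)]
  obtain ⟨τ₂, hτ₂, hτ₂'⟩ := hD.exists_coherentWith_muj j S₂ hmu hj
  have hjS : muj M W₁ W₂ j ∈ S₂ := hTS (Finset.mem_image_of_mem _ (by simpa using hj))
  obtain ⟨τ₃, hτ₃, -⟩ := hR.bridge hc₂ hτ₂ hc₁ hτ₁ (Finset.disjoint_left.2 fun φ h1 h3 => by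
      obtain ⟨k, -, rfl, -⟩ := hmu φ h1
      exact hp.muj_not_mem_Irr k (hi _ h3).1) hjS (nsmul_mem (mem_ZS_of_mem hζ) (Nat.card W₂))
    (by rw [hp.muj_apply_one 1, hc.deg_eq 1 j hj, Pi.smul_apply, (hi ζ hζ).2, nsmul_eq_mul, mul_comm])
    (by
      rw [hτ₂' j hjS, map_nsmul, hc.sign_eq j hj]
      exact h.dade_muj_sub_of_bridge h2 hc (by omega) (hc₁.sub hζ) (hi ζ hζ).1 (hi ζ hζ).2
        (hτ₁.isDirr hζ (hi ζ hζ).1) (fun i k => hD.cfdot_map_eta hc₁ hτ₁ hζ (hi ζ hζ).1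
          (hR.star_ne ζ (hc₁.sub hζ)) i k) hj
        fun i => h.dade_bridge345_of_card h2 hc hc₁ hi h8 hζ hτ₁ i hj)
  refine h.not_coherent h2 ⟨τ₃, hτ₃.mono fun φ hφ => ?_⟩
  obtain ⟨θ, hθ, -, h1, rfl⟩ := mem_seqIndD.1 hφ
  by_cases h3 : ⁅⁅M, M⁆, ⁅M, M⁆⁆ ≤ cfker θ
  · exact Finset.mem_union_right _ (SeqInd.ind_mem hθ h3 h1)
  · exact Finset.mem_union_left _ (SeqInd.ind_mem hθ bot_le h3)

end FTP

/-- Peterfalvi (10.10) (Coq `FTtype5_exclusion`). -/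
theorem not_typeV (hM : Mx M) : ¬ IsOfTypeV M := fun h5 =>
  let ⟨_, _, _, hP, _⟩ := h5
  FTP.notV ⟨hM, hP⟩ h5

/-- Peterfalvi (10.11), first part (Coq `FTtypeP_primes`). -/
theorem FTP.primes (h : FTP M U W₁ W₂) : (Nat.card W₁).Prime ∧ (Nat.card W₂).Prime := by
  obtain ⟨T, V, hp⟩ := h.exists_pair
  exact ⟨(h.typeII_IV h.notV).2.1, (hp.right.typeII_IV hp.right.notV).2.1⟩

/-- Peterfalvi (10.11), second part (Coq `FTtypeII_prime_facts`). -/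
theorem FTP.typeII_prime_facts (h : FTP M U W₁ W₂) (h2 : IsOfTypeII M) :
    PCore M U W₁ W₂ ⊥ (Nat.card W₂) ∧
      Coherent M ⊤ (seqIndD ⁅M, M⁆ M 𝐇(M) ⊥) (ftDade M) := by
  obtain ⟨H₀, p, hP⟩ := h.exists_pcore h.notV
  obtain rfl := (hP.eq_card_W₂ h.primes.2).1
  obtain rfl : H₀ = ⊥ := by
    have h1 := card_mul_relIndex' hP.chief.lt.le
    rw [hP.index, (h.typeII_core h2).2] at h1
    exact card_eq_one.1 (Nat.eq_of_mul_eq_mul_right (pow_pos Nat.card_pos _)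
      (h1.trans (one_mul _).symm))
  refine ⟨hP, ?_⟩
  have h1 := hP.coherent
  rwa [abelian_iff_der.1 (abelian_of_le (h.typeII h2).2.1 (centMod_le _ _ _)), sup_bot_eq] at h1

end Cfsg.Lib.BG.Z.PF
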