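import Cfsg.Agent.Lib.PF.Sec11Core
import Cfsg.Agent.Lib.ZQ.Sec10TypeV
import Cfsg.Agent.Lib.PF.Sec11Aux
import Cfsg.Agent.Lib.PF.Sec6Coh

/-!
# Peterfalvi (11.1)-(11.7): types III and IV, structure of `H`

`S(Y) = seqIndD ⁅M, M⁆ M ⁅M, M⁆ Y`, `C = U ⊓ 𝐂(H)`, `H C = 𝐅(M)`, `p = |W₂|`, `q = |W₁|`.
-/

set_option autoImplicit false
set_option linter.unusedVariables false

namespace Cfsg.Lib.BG.Z.PF

open Subgroup
open Cfsg.Lib.PF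
open scoped Cfsg.Lib.Transfer

variable {G : Type*} [Group G] [Finite G] [Sz G] {M U W₁ W₂ H₀ : Subgroup G} {p : ℕ}

omit [Sz G] in
theorem FTP.coprime_U_H (h : FTP M U W₁ W₂) : (Nat.card U).Coprime (Nat.card 𝐇(M)) :=
  (coprime_mono (TypeP.coprime_Fcore h.P) le_rfl le_sup_left).symm

omit [Sz G] in
theorem FTP.F_eq_HC (h : FTP M U W₁ W₂) : 𝐅(M) = 𝐇(M) ⊔ (U ⊓ 𝐂(𝐇(M))) :=
  (TypeP.dp_Fitting h.P).sup.symm

omit [Finite G] [Sz G] in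
theorem FTP.F_le_der (h : FTP M U W₁ W₂) : 𝐅(M) ≤ ⁅M, M⁆ := h.P.fitting_le

omit [Finite G] [Sz G] in
theorem FTP.der2_le_Fitting (h : FTP M U W₁ W₂) : ⁅⁅M, M⁆, ⁅M, M⁆⁆ ≤ 𝐅(M) :=
  h.P.derived_two_le.trans h.P.fitting_eq.le

omit [Sz G] in
theorem FTP.relIndex_der (h : FTP M U W₁ W₂) : ⁅M, M⁆.relIndex M = Nat.card W₁ :=
  (TypeP.sd_der h.P).relIndex_left

omit [Sz G] in
theorem FTP.relIndex_F_der (h : FTP M U W₁ W₂) :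
    𝐅(M).relIndex ⁅M, M⁆ = (U ⊓ 𝐂(𝐇(M))).relIndex U := by
  have h1 := card_mul_relIndex h.F_le_der
  rw [← (TypeP.dp_Fitting h.P).card, ← (TypeP.sd_core h.P).card,
    ← card_mul_relIndex (inf_le_left : U ⊓ 𝐂(𝐇(M)) ≤ U), mul_assoc] at h1
  exact Nat.eq_of_mul_eq_mul_left Nat.card_pos (Nat.eq_of_mul_eq_mul_left Nat.card_pos h1)

/-- Hypothesis (5.2) for types III-V. -/
theorem FTP.exists_subcoherent_der (h : FTP M U W₁ W₂) (h2 : ¬ IsOfTypeII M) :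
    ∃ R, Subcoherent M ⊤ (seqIndD ⁅M, M⁆ M ⁅M, M⁆ ⊥) (ftDade M) R := by
  obtain ⟨R, hR, -⟩ := h.exists_subcoherent
  rw [h.typeCore_eq_der h2] at hR
  exact ⟨R, hR⟩

theorem FTP.sol_der (h : FTP M U W₁ W₂) : Group.IsSolvable ↥⁅M, M⁆ :=
  sub_mmax_sol h.max (BG.der_le M)

theorem FTP.exists_pcore' (h : FTP M U W₁ W₂) : ∃ H₀ p, PCore M U W₁ W₂ H₀ p :=
  h.exists_pcore (not_typeV h.max)

omit [Finite G] [Sz G] in
theorem FTP.norm_C (h : FTP M U W₁ W₂) : U ⊔ W₁ ≤ 𝐍(U ⊓ 𝐂(𝐇(M))) :=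
  norm_inf (TypeP.sd_compl h.P).nml.norm
    (norm_cent ((TypeP.sd_Fcore h.P).right_le.trans (MF_nml M).norm))

theorem FTP.one_lt_u (h : FTP M U W₁ W₂) : 1 < (U ⊓ 𝐂(𝐇(M))).relIndex U := by
  have h1 := TypeP.not_le_cent h.P (h.typeII_IV (not_typeV h.max)).1
  have h2 := relIndex_pos (U ⊓ 𝐂(𝐇(M))) U
  have h3 : (U ⊓ 𝐂(𝐇(M))).relIndex U ≠ 1 := fun e =>
    h1 ((relIndex_eq_one.1 e).trans inf_le_right)
  omega

/-- For types III and IV, `H₀ = C_H(U)` and `C_U(H/H₀) = C_U(H)`. -/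
theorem PCore.type34_kernel (h : PCore M U W₁ W₂ H₀ p) (h2 : ¬ IsOfTypeII M) :
    p = Nat.card W₂ ∧ H₀ = 𝐇(M) ⊓ 𝐂(U) ∧ centMod U 𝐇(M) H₀ = U ⊓ 𝐂(𝐇(M)) := by
  have hp := (h.eq_card_W₂ (h.ftp.W₂_prime_of_not_typeII h2)).1
  have h0 : H₀ = 𝐇(M) ⊓ 𝐂(U) := by
    refine (eq_of_le_of_card_le h.cent_le ?_).symm
    have h1 := (h.ftp.typeIII_IV_core h2 h.notV).2
    have h3 := card_mul_relIndex h.chief.lt.le
    rw [h.index, h1, hp, mul_comm] at h3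
    exact (Nat.eq_of_mul_eq_mul_left (pow_pos Nat.card_pos _) h3).le
  refine ⟨hp, h0, le_antisymm (le_inf (centMod_le _ _ _) ?_) h.cent_le_C⟩
  have hU : U ≤ 𝐍(H₀) :=
    ((TypeP.sd_core h.ftp.P).right_le.trans (BG.der_le M)).trans h.chief.nmlV.norm
  refine stable_factor_cent (N := H₀) (comm_le_iff.2 fun x hx u hu => ?_) ?_ ?_
  · have := H₀.inv_mem (((mem_centMod hU).1 hu).2 x hx)
    convert this using 1
    group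
  · exact (centMod_le _ _ _).trans (cent_symm (h0.le.trans inf_le_right))
  · exact coprime_mono h.ftp.coprime_U_H (centMod_le _ _ _) h.chief.lt.le

theorem PCore.type34_nml (h : PCore M U W₁ W₂ H₀ p) : Nml (H₀ ⊔ (U ⊓ 𝐂(𝐇(M)))) M :=
  h.nml_H₀_sup h.cent_le_C h.ftp.norm_C

omit [Sz G] in
theorem PCore.type34_le_Fitting (h : PCore M U W₁ W₂ H₀ p) : H₀ ⊔ (U ⊓ 𝐂(𝐇(M))) ≤ 𝐅(M) := by
  rw [h.ftp.F_eq_HC]
  exact sup_le_sup_right h.chief.lt.le _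

omit [Sz G] in
theorem PCore.type34_relIndex (h : PCore M U W₁ W₂ H₀ p) :
    (H₀ ⊔ (U ⊓ 𝐂(𝐇(M)))).relIndex 𝐅(M) = p ^ Nat.card W₁ := by
  have h1 := card_mul_relIndex h.type34_le_Fitting
  have hd := TypeP.dp_Fitting h.ftp.P
  have h3 : SD H₀ (U ⊓ 𝐂(𝐇(M))) (H₀ ⊔ (U ⊓ 𝐂(𝐇(M)))) :=
    SD.of_norm (norm_of_cent (inf_le_right.trans (cent_anti h.chief.lt.le)))
      (eq_bot_mono hd.inf (inf_le_inf_right _ h.chief.lt.le))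
  rw [← hd.card, ← h3.card, ← card_mul_relIndex h.chief.lt.le, h.index,
    mul_right_comm (Nat.card H₀) (p ^ Nat.card W₁)] at h1
  exact Nat.eq_of_mul_eq_mul_left (Nat.mul_pos Nat.card_pos Nat.card_pos) h1

/-- Peterfalvi (11.3). -/
theorem PCore.type34_not_coherent (h : PCore M U W₁ W₂ H₀ p) (h2 : ¬ IsOfTypeII M) :
    ¬ Coherent M ⊤ (seqIndD ⁅M, M⁆ M ⁅M, M⁆ (H₀ ⊔ (U ⊓ 𝐂(𝐇(M))))) (ftDade M) := by
  intro hc
  obtain ⟨R, hR⟩ := h.ftp.exists_subcoherent_der h2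
  refine h.ftp.not_coherent h2 (bounded_seqIndD_coherence (BG.der_le M) (Nml.der_self M).norm
    h.ftp.sol_der hR (H := 𝐅(M)) (le_normalizer_bot M) (Fitting_nml M).norm h.type34_nml.norm
    bot_le h.type34_le_Fitting h.ftp.F_le_der ?_ hc ?_)
  · obtain ⟨n, hn⟩ := (isNilpotent_iff_lowerCentralSeries _).1 (Fitting_nil M)
    exact ⟨n, hn.le⟩
  · rw [h.type34_relIndex, h.ftp.relIndex_der]
    exact lbound_expn_odd_prime h.prime h.q_prime h.p_odd (mFT_odd W₁) h.p_ne_q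

/-- Peterfalvi (11.4). -/
theorem PCore.type34_bound (h : PCore M U W₁ W₂ H₀ p) (h2 : ¬ IsOfTypeII M) {H₁ : Subgroup G}
    (hn : M ≤ 𝐍(H₁)) (hlt : H₁ < ⁅M, M⁆)
    (hc : Coherent M ⊤ (seqIndD ⁅M, M⁆ M ⁅M, M⁆ H₁) (ftDade M)) :
    H₁.relIndex ⁅M, M⁆ ≤ 2 * Nat.card W₁ * (U ⊓ 𝐂(𝐇(M))).relIndex U + 1 := by
  obtain ⟨R, hR⟩ := h.ftp.exists_subcoherent_der h2
  have h1 := coherent_seqIndD_bound (BG.der_le M) (Nml.der_self M).norm h.ftp.sol_der hR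
    (C := 𝐅(M)) (D := 𝐅(M)) hn hlt h.type34_le_Fitting le_rfl h.ftp.F_le_der ?_ hc
    (h.type34_not_coherent h2)
  · rw [relIndex_self, mul_one, ← relIndex_mul_relIndex _ _ _ h.ftp.F_le_der (BG.der_le M),
      h.ftp.relIndex_F_der, h.ftp.relIndex_der] at h1
    have h3 : H₁.relIndex ⁅M, M⁆ - 1 ≤ 2 * Nat.card W₁ * (U ⊓ 𝐂(𝐇(M))).relIndex U := by
      refine (Nat.pow_le_pow_iff_left two_ne_zero).1 (h1.trans (le_of_eq ?_))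
      ring
    omega
  · intro d hd c hc'
    have h4 := h.der_HC_le
    rw [(h.type34_kernel h2).2.2, ← h.ftp.F_eq_HC] at h4
    exact sup_le_sup_left (BG.der_le _) _ (h4 (comm_mem_comm hc' hd))

theorem FTP.coherent_of_der2_le (h : FTP M U W₁ W₂) (h2 : ¬ IsOfTypeII M) {N : Subgroup G}
    (hN : ⁅⁅M, M⁆, ⁅M, M⁆⁆ ≤ N) : Coherent M ⊤ (seqIndD ⁅M, M⁆ M ⁅M, M⁆ N) (ftDade M) := by
  obtain ⟨R, hR⟩ := h.exists_subcoherent_der h2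
  refine (hR.mono (SeqInd.conjSub le_rfl bot_le)).coherent_of_uniform fun φ hφ ψ hψ => ?_
  rw [SeqInd.apply_one_of_commutator_le (BG.der_le M) hN hφ,
    SeqInd.apply_one_of_commutator_le (BG.der_le M) hN hψ]

/-- Peterfalvi (11.5). -/
theorem FTP.type34_der2 (h : FTP M U W₁ W₂) (h2 : ¬ IsOfTypeII M) :
    ⁅⁅M, M⁆, ⁅M, M⁆⁆ = 𝐅(M) := by
  obtain ⟨H₀, p, hP⟩ := h.exists_pcore'
  have hn := (Nml.der_self M).der.norm
  have h1 := hP.type34_bound h2 hn h.der2_lt (h.coherent_of_der2_le h2 le_rfl)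
  by_contra hne
  have hlt : ⁅⁅M, M⁆, ⁅M, M⁆⁆ < 𝐅(M) := lt_of_le_of_ne h.der2_le_Fitting hne
  have h3 := two_mul_relIndex_le_of_inertia (mFT_odd M) hlt h.F_le_der (BG.der_le M)
    (Nml.der_self M).norm hn (Fitting_nml M).norm (fun θ hθ hk h1 =>
      inertia_le_of_frob_mod (BG.der_le _) (BG.der_le M) (Nml.der_self M).norm hn
        (TypeP.frob_mod_der2 h.P hn (BG.der_le _) (TypeP.W₂_le_der2 h.P)) hθ hk h1)
  rw [← relIndex_mul_relIndex _ _ _ hlt.le h.F_le_der, h.relIndex_F_der] at h1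
  rw [h.relIndex_der] at h3
  have h4 := h.one_lt_u
  nlinarith [Nat.mul_le_mul_right ((U ⊓ 𝐂(𝐇(M))).relIndex U) h3]

/-- Peterfalvi (11.6). -/
theorem PCore.type34_facts (h : PCore M U W₁ W₂ H₀ p) (h2 : ¬ IsOfTypeII M) :
    IsPGroup p 𝐇(M) ∧ H₀ = ⁅𝐇(M), 𝐇(M)⁆ ∧ U ⊓ 𝐂(𝐇(M)) = ⁅U, U⁆ := by
  have hs := TypeP.sd_core h.ftp.P
  have hd := h.ftp.type34_der2 h2
  have h1 : 𝐅(M) ≤ (⁅𝐇(M), 𝐇(M)⁆ ⊔ ⁅𝐇(M), U⁆) ⊔ ⁅U, U⁆ := by
    rw [← hd, ← hs.sup]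
    exact der_sup_le hs.norm
  have hNH : ⁅𝐇(M), 𝐇(M)⁆ ⊔ ⁅𝐇(M), U⁆ ≤ 𝐇(M) := sup_le (BG.der_le _) (comm_le_left hs.norm)
  have h3 : 𝐇(M) ≤ ⁅𝐇(M), 𝐇(M)⁆ ⊔ ⁅𝐇(M), U⁆ := by
    have h4 : 𝐇(M) ≤ ((⁅𝐇(M), 𝐇(M)⁆ ⊔ ⁅𝐇(M), U⁆) ⊔ ⁅U, U⁆) ⊓ 𝐇(M) :=
      le_inf ((MF_le_Fitting M).trans h1) le_rfl
    rw [modular_left hNH ((BG.der_le U).trans (norm_sup (norm_der hs.norm) (right_norm_comm _ U))),
      eq_bot_mono (inf_comm 𝐇(M) U ▸ hs.inf) (inf_le_inf_right _ (BG.der_le U)), sup_bot_eq] at h4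
    exact h4
  have h5 : H₀ = ⁅𝐇(M), 𝐇(M)⁆ := le_antisymm
    ((h.type34_kernel h2).2.1.le.trans (inf_cent_le_der hs.norm h.ftp.coprime_U_H h3)) h.der_le
  refine ⟨?_, h5, le_antisymm ?_ (le_inf (BG.der_le U) (TypeP.der_le_cent h.ftp.P))⟩
  · obtain ⟨n, hn⟩ := (isNilpotent_iff_lowerCentralSeries _).1 (MF_nil M)
    obtain ⟨m, hm⟩ := exists_relIndex_eq_pow_of_nil (M := ⊥) h.prime ⟨n, hn.le⟩
      (le_normalizer_bot _) bot_le (m := Nat.card W₁) (by rw [sup_bot_eq, ← h5, h.index])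
    rw [relIndex_bot_left] at hm
    exact IsPGroup.of_card hm
  · have h6 : U ⊓ 𝐂(𝐇(M)) ≤ (𝐇(M) ⊔ ⁅U, U⁆) ⊓ U :=
      le_inf (((TypeP.dp_Fitting h.ftp.P).right_le.trans h1).trans (sup_le_sup_right hNH _))
        inf_le_left
    rwa [modular_right (BG.der_le U) ((BG.der_le U).trans hs.norm), hs.inf, bot_sup_eq] at h6

/-- The main step of (11.7): no irreducible character of `H` has a non-trivial commutator pairing
on `H/H₀`. -/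
theorem PCore.type34_le_cfker (h : PCore M U W₁ W₂ H₀ p) (h2 : ¬ IsOfTypeII M) {θ : G → ℂ}
    (hθ : CommPair 𝐇(M) H₀ θ) : H₀ ≤ cfker θ := by
  have hs := TypeP.sd_core h.ftp.P
  have hUM : U ≤ M := hs.right_le.trans (BG.der_le M)
  have hWM : W₁ ≤ M := (TypeP.sd_der h.ftp.P).right_le
  have hUc : U ≤ 𝐂(H₀) := cent_symm ((h.type34_kernel h2).2.1.le.trans inf_le_right)
  have hker : 𝐇(M) ≤ 𝐍(cfker θ) := CF.le_normalizer_cfker (Irr.mem_CF hθ.irr)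
  have hmem : ∀ {K : Subgroup G} {x : G}, x ∈ centMod 𝐇(M) K (cfker θ) ↔
      x ∈ 𝐇(M) ∧ ∀ y ∈ K, commPair θ x y = 1 := by
    intro K x
    simp only [mem_centMod hker, hθ.eq_one_iff]
  have hsymm : ∀ {x y : G}, commPair θ x y = 1 → commPair θ y x = 1 := by
    intro x y e
    have := (cfker θ).inv_mem (hθ.eq_one_iff.1 e)
    refine hθ.eq_one_iff.2 ?_
    convert this using 1
    group
  suffices hall : 𝐇(M) ≤ centMod 𝐇(M) 𝐇(M) (cfker θ) by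
    rw [(h.type34_facts h2).2.1]
    exact comm_le_iff.2 fun a ha b hb => hθ.eq_one_iff.1 ((hmem.1 (hall ha)).2 b hb)
  by_cases hG : PGalois U 𝐇(M) H₀
  · refine (hG (centMod 𝐇(M) 𝐇(M) (cfker θ)) ?_ ?_ (centMod_le _ _ _)).elim (fun e => ?_)
      (fun e => e.ge)
    rotate_left 2
    · exfalso
      have h1 := hθ.relIndex_eq_sq fun x hx hx' => by
        by_contra hne
        push Not at hne
        exact hx' (e ▸ hmem.2 ⟨hx, fun y hy => hsymm (hne y hy)⟩)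
      rw [h.index] at h1
      exact Nat.not_even_iff_odd.2 (mFT_odd W₁) (even_of_pow_eq_sq h.prime h1)
    · refine le_norm_iff.2 fun u hu x hx => ?_
      obtain ⟨hx1, hx2⟩ := hmem.1 hx
      refine hmem.2 ⟨conj_mem_of_norm (hs.norm hu) hx1, fun y hy => ?_⟩
      have hy' := conj_mem_of_norm' (hs.norm hu) hy
      have := hθ.conj_of_cent (hUc hu) hx1 hy'
      rwa [hx2 _ hy', show u * (u⁻¹ * y * u) * u⁻¹ = y by group] at this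
    · exact fun z hz => hmem.2 ⟨hθ.le hz, fun y hy => hθ.of_mem_left hz hy⟩
  obtain ⟨H₁, lam, hN⟩ := h.exists_nGal hG
  obtain ⟨f, hf1, hf2, hf3⟩ := h.nGal_exists_scalar hN
  have hW := h.ftp.P.U_normal
  have hle : ∀ w ∈ W₁, w ⋆ H₁ ≤ 𝐇(M) := fun w hw =>
    conj_le_of_norm hN.le ((MF_nml M).norm (hWM hw))
  -- the pairing is trivial on each pair of lines
  suffices key : ∀ w₁ ∈ W₁, ∀ w₂ ∈ W₁, ∀ y₁ ∈ H₁, ∀ y₂ ∈ H₁,
      commPair θ (w₁ * y₁ * w₁⁻¹) (w₂ * y₂ * w₂⁻¹) = 1 by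
    have k1 : ∀ w₂ ∈ W₁, 𝐇(M) ≤ centMod 𝐇(M) (w₂ ⋆ H₁) (cfker θ) := by
      intro w₂ hw₂
      refine hN.gen.ge.trans (iSup₂_le fun w₁ hw₁ x hx => hmem.2 ⟨hle w₁ hw₁ hx, fun y hy => ?_⟩)
      obtain ⟨y₁, hy₁, rfl⟩ := hx
      obtain ⟨y₂, hy₂, rfl⟩ := hy
      exact key w₁ hw₁ w₂ hw₂ y₁ hy₁ y₂ hy₂
    exact hN.gen.ge.trans (iSup₂_le fun w hw x hx => hmem.2 ⟨hle w hw hx, fun y hy =>
      hsymm ((hmem.1 (k1 w hw hy)).2 x hx)⟩)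
  intro w₁ hw₁ w₂ hw₂ y₁ hy₁ y₂ hy₂
  by_contra hne
  haveI := Fact.mk h.prime
  have hx : ∀ w ∈ W₁, ∀ y ∈ H₁, w * y * w⁻¹ ∈ 𝐇(M) := fun w hw y hy =>
    conj_mem_of_norm ((MF_nml M).norm (hWM hw)) (hN.le hy)
  set x₁ := w₁ * y₁ * w₁⁻¹ with hx₁
  set x₂ := w₂ * y₂ * w₂⁻¹ with hx₂
  have m₁ : x₁ ∈ 𝐇(M) := hx w₁ hw₁ y₁ hy₁
  have m₂ : x₂ ∈ 𝐇(M) := hx w₂ hw₂ y₂ hy₂
  have hord : orderOf (commPair θ x₁ x₂) = p := by
    refine orderOf_eq_prime ?_ hne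
    rw [← hθ.pow_left m₁ m₂]
    exact hθ.of_mem_left (h.pow_mem m₁) m₂
  have hact : ∀ u ∈ U, ∀ w ∈ W₁, ∀ y ∈ H₁, ∃ z ∈ H₀,
      u * (w * y * w⁻¹) * u⁻¹ = z * (w * y * w⁻¹) ^ (f (w⁻¹ * u * w)).val := by
    intro u hu w hw y hy
    refine ⟨_, conj_mem_of_norm (h.chief.nmlV.norm (hWM hw))
      (hf3 _ (conj_mem_of_norm' (hW hw) hu) y hy), ?_⟩
    rw [conj_pow]
    group
  have hprod : ∀ u ∈ U, f (w₁⁻¹ * u * w₁) * f (w₂⁻¹ * u * w₂) = 1 := by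
    intro u hu
    obtain ⟨z₁, hz₁, e₁⟩ := hact u hu w₁ hw₁ y₁ hy₁
    obtain ⟨z₂, hz₂, e₂⟩ := hact u hu w₂ hw₂ y₂ hy₂
    have e := hθ.conj_of_cent (hUc hu) m₁ m₂
    rw [← hx₁] at e₁
    rw [← hx₂] at e₂
    have m₃ := mul_mem (hθ.le hz₂) (_root_.pow_mem m₂ (f (w₂⁻¹ * u * w₂)).val)
    rw [e₁, e₂, hθ.mul_left (hθ.le hz₁) (_root_.pow_mem m₁ _) m₃, hθ.of_mem_left hz₁ m₃, one_mul,
      hθ.pow_left m₁ m₃, hθ.mul_right m₁ (hθ.le hz₂), hθ.of_mem_right m₁ hz₂, one_mul,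
      hθ.pow_right m₁ m₂, ← pow_mul] at e
    have hu0 : IsOfFinOrder (commPair θ x₁ x₂) := orderOf_pos_iff.1 (hord ▸ h.prime.pos)
    have e' := (hu0.pow_eq_pow_iff_modEq).1 (e.trans (pow_one _).symm)
    rw [hord, ← ZMod.natCast_eq_natCast_iff] at e'
    simpa [mul_comm] using e'
  -- `w = w₂⁻¹ w₁` inverts `f`
  set w := w₂⁻¹ * w₁ with hw
  have hwW : w ∈ W₁ := mul_mem (inv_mem hw₂) hw₁
  have hinv : ∀ v ∈ U, f v * f (w * v * w⁻¹) = 1 := by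
    intro v hv
    have := hprod _ (conj_mem_of_norm (hW hw₁) hv)
    rwa [show w₁⁻¹ * (w₁ * v * w₁⁻¹) * w₁ = v by group,
      show w₂⁻¹ * (w₁ * v * w₁⁻¹) * w₂ = w * v * w⁻¹ by rw [hw]; group] at this
  have hsq : ∀ k : ℕ, ∀ v ∈ U, f ((w * w) ^ k * v * ((w * w) ^ k)⁻¹) = f v := by
    intro k
    induction k with
    | zero => simp
    | succ k ih =>
      intro v hv
      have hv1 := conj_mem_of_norm (hW hwW) hv
      have hv2 := conj_mem_of_norm (hW hwW) hv1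
      have e1 := hinv v hv
      have e2 := hinv _ hv1
      have e3 : f (w * (w * v * w⁻¹) * w⁻¹) = f v := by
        calc _ = (f v * f (w * v * w⁻¹)) * f (w * (w * v * w⁻¹) * w⁻¹) := by rw [e1, one_mul]
          _ = f v := by rw [mul_assoc, e2, mul_one]
      rw [← e3, ← ih _ hv2, pow_succ]
      congr 1
      group
  obtain ⟨k, hk⟩ := mFT_odd W₁
  have hwk : (w * w) ^ (k + 1) = w := by
    have := pow_card_of_mem hwW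
    rw [hk] at this
    rw [← sq, ← pow_mul, show 2 * (k + 1) = 2 * k + 1 + 1 by ring, pow_succ, this, one_mul]
  have hU1 : U ≤ centMod U H₁ H₀ := by
    intro v hv
    refine mem_of_sq_mem_of_odd (mFT_odd U) hv ((hf2 _ (_root_.pow_mem hv 2)).1 ?_)
    have e1 := hinv v hv
    have e2 := hsq (k + 1) v hv
    rw [hwk] at e2
    rw [sq, hf1 v hv v hv]
    rwa [e2] at e1
  have := (h.nGal_facts hN).1
  rw [relIndex_eq_one.2 hU1] at this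
  exact lt_irrefl _ this

/-- Peterfalvi (11.7). -/
theorem FTP.type34_pcore (h : FTP M U W₁ W₂) (h2 : ¬ IsOfTypeII M) :
    PCore M U W₁ W₂ ⊥ (Nat.card W₂) := by
  obtain ⟨H₀, p, hP⟩ := h.exists_pcore'
  obtain rfl := (hP.type34_kernel h2).1
  suffices h0 : H₀ = ⊥ by rwa [h0] at hP
  by_contra hne
  obtain ⟨n, hn⟩ := (isNilpotent_iff_lowerCentralSeries _).1 (MF_nil M)
  have hH : 𝐇(M) ≤ 𝐍(H₀) := (MF_le M).trans hP.chief.nmlV.norm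
  have hlt := commutator_sup_lt_of_nil (M := ⊥) (A := H₀) ⟨n, hn.le⟩ (le_normalizer_bot _) hH
    (bot_lt_iff_ne_bot.2 hne) hP.chief.lt.le
  rw [sup_bot_eq, commutator_comm] at hlt
  obtain ⟨g, hg, hg'⟩ := SetLike.exists_of_lt hlt
  obtain ⟨θ, hθ, hk, hg''⟩ := exists_Irr_le_cfker_not_mem (hlt.le.trans hP.chief.lt.le)
    (left_norm_comm _ _) hg'
  exact hg'' (hP.type34_le_cfker h2 ⟨hθ, hP.chief.lt.le, hP.der_le, hk⟩ hg)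

end Cfsg.Lib.BG.Z.PF
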