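import Cfsg.Agent.Lib.PF.Sec11Eta
import Cfsg.Agent.Lib.ZQ.Sec11Core
import Cfsg.Agent.Lib.PF.CohIrr

/-!
# Peterfalvi (11.8), (11.9)
-/

set_option autoImplicit false
set_option linter.unusedVariables false

namespace Cfsg.Lib.BG.Z.PF

open Subgroup
open Cfsg.Lib.PF
open scoped Cfsg.Lib.Transfer Classical

variable {G : Type*} [Group G] [Finite G] [Sz G] {M U W₁ W₂ : Subgroup G} {ζ : G → ℂ}

namespace FTP

section

variable (h : FTP M U W₁ W₂) (h2 : ¬ IsOfTypeII M)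
include h h2

theorem type34_irr (hζ : ζ ∈ seqIndD ⁅M, M⁆ M ⁅M, M⁆ 𝐅(M)) : ζ ∈ Irr M ∧ ζ 1 = Nat.card W₁ :=
  h.mem_Irr_of_der2_le (h.type34_der2 h2).le hζ

omit [Sz G] h2 in
theorem type34_conjSub₂ :
    ConjSub (seqIndD ⁅M, M⁆ M 𝐇(M) (U ⊓ 𝐂(𝐇(M)))) (seqIndD ⁅M, M⁆ M ⁅M, M⁆ ⊥) :=
  SeqInd.conjSub (TypeP.sd_core h.P).left_le bot_le

theorem type34_coherent₁ : Coherent M ⊤ (seqIndD ⁅M, M⁆ M ⁅M, M⁆ 𝐅(M)) (ftDade M) :=
  h.coherent_of_der2_le h2 (h.type34_der2 h2).le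

theorem type34_coherent₂ : Coherent M ⊤ (seqIndD ⁅M, M⁆ M 𝐇(M) (U ⊓ 𝐂(𝐇(M)))) (ftDade M) := by
  refine (h.type34_pcore h2).coherent.mono (SeqInd.mono le_rfl ?_)
  rw [centMod_bot, bot_sup_eq]
  exact der_le _

theorem type34_muj {j : LChar W₂} (hj : j ≠ 1) :
    muj M W₁ W₂ j ∈ seqIndD ⁅M, M⁆ M 𝐇(M) (U ⊓ 𝐂(𝐇(M))) ∧
      muj M W₁ W₂ j 1 = Nat.card W₁ * (U ⊓ 𝐂(𝐇(M))).relIndex U := by
  have := (h.type34_pcore h2).muj_facts hj fun w _ hw => by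
    rw [mem_bot.1 hw, linChar_apply_one]
  rw [centMod_bot, bot_sup_eq] at this
  exact ⟨this.1, this.2.1⟩

omit [Sz G] h2 in
theorem type34_disjoint : Disjoint (seqIndD ⁅M, M⁆ M 𝐇(M) (U ⊓ 𝐂(𝐇(M))))
    (seqIndD ⁅M, M⁆ M ⁅M, M⁆ 𝐅(M)) :=
  Finset.disjoint_left.2 fun _ h₂ h₁ =>
    SeqInd.not_le_cfker (der_le M) (TypeP.sd_core h.P).left_le (MF_nml M).norm h₂
      ((MF_le_Fitting M).trans
        (SeqInd.le_cfker (der_le M) h.F_le_der (Fitting_nml M).norm h₁))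

theorem type34_card : (seqIndD ⁅M, M⁆ M ⁅M, M⁆ 𝐅(M)).card * Nat.card W₁ + 1 =
    (U ⊓ 𝐂(𝐇(M))).relIndex U := by
  have h1 := SeqInd.sum_sq (der_le M) (Nml.der_self M).norm le_rfl h.F_le_der
    (Nml.der_self M).norm (Fitting_nml M).norm
  rw [Finset.sum_congr rfl (g := fun _ => (Nat.card W₁ : ℝ) ^ 2) (fun φ hφ => by
    rw [Irr.cfnorm_eq (h.type34_irr h2 hφ).1, deg_of_eq (h.type34_irr h2 hφ).2, div_one]),
    Finset.sum_const, nsmul_eq_mul, relIndex_self, h.relIndex_der, h.relIndex_F_der] at h1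
  have h3 := card_pos_real W₁
  have h4 : ((seqIndD ⁅M, M⁆ M ⁅M, M⁆ 𝐅(M)).card * Nat.card W₁ + 1 : ℝ) =
      (U ⊓ 𝐂(𝐇(M))).relIndex U := by
    refine mul_left_cancel₀ h3.ne' ?_
    push_cast at h1
    linear_combination h1
  exact_mod_cast h4

/-- Peterfalvi (11.8.1). -/
theorem type34_consts : Consts345 M W₁ W₂ ((U ⊓ 𝐂(𝐇(M))).relIndex U) 1
    (seqIndD ⁅M, M⁆ M ⁅M, M⁆ 𝐅(M)).card := by
  obtain ⟨d, δ, n, hc⟩ := h.exists_consts345 h2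
  obtain ⟨j, hj, -⟩ := h.cycTI.exists_LChar_ne 1 1
  have h1 := (h.type34_muj h2 hj).2
  rw [h.primeTI.muj_apply_one 1, hc.deg_eq 1 j hj] at h1
  obtain rfl : d = (U ⊓ 𝐂(𝐇(M))).relIndex U := by
    exact_mod_cast mul_left_cancel₀ (card_ne_zero W₁) h1
  have h3 := h.type34_card h2
  have h4 := hc.ratio
  have h5 := h.cycTI.three_le₁
  rw [← h3] at h4
  push_cast at h4
  have h6 : (3 : ℤ) ≤ Nat.card W₁ := by exact_mod_cast h5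
  rcases hc.sign hj with rfl | rfl
  · obtain rfl : n = (seqIndD ⁅M, M⁆ M ⁅M, M⁆ 𝐅(M)).card := by
      have : (n : ℤ) = (seqIndD ⁅M, M⁆ M ⁅M, M⁆ 𝐅(M)).card :=
        mul_right_cancel₀ (b := (Nat.card W₁ : ℤ)) (by omega) (by linarith)
      exact_mod_cast this
    exact hc
  · have h7 : (Nat.card W₁ : ℤ) ∣ 2 :=
      ⟨n - (seqIndD ⁅M, M⁆ M ⁅M, M⁆ 𝐅(M)).card, by linarith⟩
    have := Int.le_of_dvd two_pos h7
    omega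

theorem type34_cfdot_map_eta {S : Finset (G → ℂ)} {τ₁ : (G → ℂ) →ₗ[ℂ] (G → ℂ)}
    (hS : ConjSub S (seqIndD ⁅M, M⁆ M ⁅M, M⁆ ⊥)) (hc : CoherentWith M ⊤ S (ftDade M) τ₁)
    (hζ : ζ ∈ S) (hi : ζ ∈ Irr M) (i : LChar W₁) (j : LChar W₂) :
    cfdot ⊤ (τ₁ ζ) (eta ⊤ W₁ W₂ i j) = 0 :=
  (h.prDade_der h2).cfdot_map_eta hS hc hζ hi
    (SeqInd.star_ne (der_le M) (Nml.der_self M).norm (mFT_odd M) le_rfl (hS.sub hζ)) i j

theorem type34_sub_mem_Z0 {ξ : G → ℂ} (hζ : ζ ∈ seqIndD ⁅M, M⁆ M ⁅M, M⁆ 𝐅(M))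
    (hξ : ξ ∈ seqIndD ⁅M, M⁆ M ⁅M, M⁆ 𝐅(M)) : ξ - ζ ∈ Z0 (seqIndD ⁅M, M⁆ M ⁅M, M⁆ 𝐅(M)) :=
  sub_mem_Z0 (mem_ZS_of_mem hξ) (mem_ZS_of_mem hζ)
    ((h.type34_irr h2 hξ).2.trans (h.type34_irr h2 hζ).2.symm)

theorem type34_dade_sub_eta {ξ : G → ℂ} (hζ : ζ ∈ seqIndD ⁅M, M⁆ M ⁅M, M⁆ 𝐅(M))
    (hξ : ξ ∈ seqIndD ⁅M, M⁆ M ⁅M, M⁆ 𝐅(M)) (i : LChar W₁) (j : LChar W₂) :
    cfdot ⊤ (ftDade M (ξ - ζ)) (eta ⊤ W₁ W₂ i j) = 0 := by
  obtain ⟨τ₁, hc⟩ := h.type34_coherent₁ h2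
  rw [← hc.agree _ (h.type34_sub_mem_Z0 h2 hζ hξ), map_sub, cfdot_sub_left,
    h.type34_cfdot_map_eta h2 FTP.type34_conjSub₁ hc hζ (h.type34_irr h2 hζ).1,
    h.type34_cfdot_map_eta h2 FTP.type34_conjSub₁ hc hξ (h.type34_irr h2 hξ).1, sub_self]

variable (hζ : ζ ∈ seqIndD ⁅M, M⁆ M ⁅M, M⁆ 𝐅(M))
include hζ

theorem type34_bridge0_sharp : muj M W₁ W₂ 1 - ζ ∈ CFon M (sharp ⁅M, M⁆) :=
  h.bridge0_mem_CFon h2 (FTP.type34_conjSub₁.sub hζ) (h.type34_irr h2 hζ).1 (h.type34_irr h2 hζ).2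

theorem type34_bridge0 : muj M W₁ W₂ 1 - ζ ∈ CFon M (ftA0 M) :=
  CFon.mono (h.prDade_der h2).A_subset (h.type34_bridge0_sharp h2 hζ)

theorem type34_bridge0_ZI : ftDade M (muj M W₁ W₂ 1 - ζ) ∈ ZI ⊤ :=
  Dade.mem_ZI (ftDade_hyp h.max)
    (sub_mem (h.primeTI.muj_isChar 1).mem_ZI (Irr.mem_ZI (h.type34_irr h2 hζ).1))
    (h.type34_bridge0 h2 hζ).2

theorem type34_bridge0_cfnorm : cfnorm ⊤ (ftDade M (muj M W₁ W₂ 1 - ζ)) = Nat.card W₁ + 1 := by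
  rw [Dade.cfnorm_dade (ftDade_hyp h.max) (h.type34_bridge0 h2 hζ),
    cfnorm_sub_of_orth (h.cfdot_muj_of_irr hζ (h.type34_irr h2 hζ).1 1),
    h.primeTI.cfnorm_muj, Irr.cfnorm_eq (h.type34_irr h2 hζ).1]

theorem type34_bridge0_one : cfdot ⊤ (ftDade M (muj M W₁ W₂ 1 - ζ)) (eta ⊤ W₁ W₂ 1 1) = 1 := by
  rw [h.cycTI.eta_one_one, Dade.cfdot_cf1 (ftDade_hyp h.max) (h.type34_bridge0 h2 hζ),
    cfdot_sub_left, SeqInd.cfdot_cf1 (der_le M) le_rfl hζ, sub_zero, ← h.primeTI.mu2_one_one]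
  exact cfdot_symm_one (by simp [h.primeTI.cfdot_mu2_muj])

/-- Peterfalvi (11.8.4). -/
theorem type34_exists_ext (ho : ∀ i j, cfdot ⊤ (ftDade M (muj M W₁ W₂ 1 - ζ)) (eta ⊤ W₁ W₂ i j) =
      if j = 1 then 1 else 0) :
    ∃ τ₁, CoherentWith M ⊤ (seqIndD ⁅M, M⁆ M ⁅M, M⁆ 𝐅(M)) (ftDade M) τ₁ ∧
      ftDade M (muj M W₁ W₂ 1 - ζ) = ∑ i, eta ⊤ W₁ W₂ i 1 - τ₁ ζ := by
  have hc := h.cycTI
  obtain ⟨R, hR⟩ := h.exists_subcoherent_der h2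
  have hR₁ := hR.mono (FTP.type34_conjSub₁ (M := M))
  have hZ := h.type34_bridge0_ZI h2 hζ
  have hn := h.type34_bridge0_cfnorm h2 hζ
  have hi := (h.type34_irr h2 hζ).1
  set ψ := ftDade M (muj M W₁ W₂ 1 - ζ) with hψ
  have h1 : cfdot ⊤ ψ (∑ i, eta ⊤ W₁ W₂ i 1) = Nat.card W₁ := by
    simp [cfdot_sum_right, ho, hc.card_LChar₁]
  have h3 : cfdot ⊤ (∑ i, eta ⊤ W₁ W₂ i 1) (∑ i, eta ⊤ W₁ W₂ i 1) = Nat.card W₁ := by
    simp [cfdot_sum_right, cfdot_sum_left, hc.cfdot_eta, hc.card_LChar₁]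
  obtain ⟨τ₁, hτ₁, e⟩ := coherent_of_pivot hR₁.orth (fun χ hχ => hR₁.cfdot_self_ne_zero hχ)
    hR₁.iso hR₁.mem_ZI hζ (hR₁.apply_one_ne_zero hζ) (fun _ => 1)
    (fun χ hχ => by rw [(h.type34_irr h2 hχ).2, (h.type34_irr h2 hζ).2]; simp)
    (ξ := ∑ i, eta ⊤ W₁ W₂ i 1 - ψ)
    (sub_mem (Submodule.sum_mem _ fun i _ => hc.eta_mem_ZI i 1) hZ)
    (by
      rw [cfdot_sub_left, cfdot_sub_right, cfdot_sub_right, h3, h1, cfdot_symm_nat h1,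
        cfdot_self ⊤ ψ, hn, Irr.cfdot_self hi]
      push_cast
      ring)
    (fun χ hχ hne => by
      have hχi := (h.type34_irr h2 hχ).1
      rw [one_smul, cfdot_sub_right, cfdot_sum_right,
        Finset.sum_eq_zero fun i _ => h.type34_dade_sub_eta h2 hζ hχ i 1, hψ,
        Dade.isometry (ftDade_hyp h.max) (h.Z0_mem_CFon_ftA0 h2
          (Z0_mono FTP.type34_conjSub₁.sub (h.type34_sub_mem_Z0 h2 hζ hχ))) (h.type34_bridge0 h2 hζ)]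
      simp [cfdot_symm_zero (h.cfdot_muj_of_irr hζ hi 1),
        cfdot_symm_zero (h.cfdot_muj_of_irr hχ hχi 1), Irr.cfdot_ne hχi hi hne, Irr.cfdot_self hi])
  exact ⟨τ₁, hτ₁, by rw [e]; abel⟩

/-- Peterfalvi (11.8.2), (11.8.3) and (11.8.5). -/
theorem type34_dade_bridge {τ₁ : (G → ℂ) →ₗ[ℂ] (G → ℂ)}
    (hτ₁ : CoherentWith M ⊤ (seqIndD ⁅M, M⁆ M ⁅M, M⁆ 𝐅(M)) (ftDade M) τ₁)
    (he : ftDade M (muj M W₁ W₂ 1 - ζ) = ∑ i, eta ⊤ W₁ W₂ i 1 - τ₁ ζ) (i : LChar W₁)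
    {j : LChar W₂} (hj : j ≠ 1) :
    ftDade M (bridge345 M W₁ W₂ 1 (seqIndD ⁅M, M⁆ M ⁅M, M⁆ 𝐅(M)).card ζ i j) =
      eta ⊤ W₁ W₂ i j - eta ⊤ W₁ W₂ i 1 - (seqIndD ⁅M, M⁆ M ⁅M, M⁆ 𝐅(M)).card • τ₁ ζ := by
  have hc := h.cycTI
  have hp := h.primeTI
  have hD := h.prDade_der h2
  have hK := h.type34_consts h2
  obtain ⟨hi, h1⟩ := h.type34_irr h2 hζ
  have hζ' := FTP.type34_conjSub₁.sub hζ
  set S₁ := seqIndD ⁅M, M⁆ M ⁅M, M⁆ 𝐅(M) with hS₁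
  set n := S₁.card with hn
  have hirr : ∀ ξ ∈ S₁, ξ ∈ Irr M := fun ξ hξ => (h.type34_irr h2 hξ).1
  have horth : ∀ ξ ∈ S₁, ∀ i j, cfdot ⊤ (τ₁ ξ) (eta ⊤ W₁ W₂ i j) = 0 := fun ξ hξ =>
    h.type34_cfdot_map_eta h2 FTP.type34_conjSub₁ hτ₁ hξ (hirr ξ hξ)
  have hζ1 : cfdot ⊤ (τ₁ ζ) (τ₁ ζ) = 1 := (hτ₁.isDirr hζ hi).cfdot_self
  let β : LChar W₁ → LChar W₂ → G → ℂ := fun i j => ftDade M (bridge345 M W₁ W₂ 1 n ζ i j) -
    (eta ⊤ W₁ W₂ i j - eta ⊤ W₁ W₂ i 1) + n • τ₁ ζ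
  have hβ : ∀ i j, ftDade M (bridge345 M W₁ W₂ 1 n ζ i j) =
      β i j + (eta ⊤ W₁ W₂ i j - eta ⊤ W₁ W₂ i 1) - n • τ₁ ζ := fun i j => by
    simp only [β]; abel
  suffices h0 : β i j = 0 by rw [hβ, h0, zero_add]
  -- (11.8.3)
  have hβi : ∀ i j, j ≠ 1 → β i j = β 1 j := by
    intro i j hj
    have e := hD.dade_sub2_mu2 i j
    rw [hK.sign_eq j hj] at e
    have e' : bridge345 M W₁ W₂ 1 n ζ i j = bridge345 M W₁ W₂ 1 n ζ 1 j +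
        ((1 : ℤ) • mu2 M W₁ W₂ i j - (1 : ℤ) • mu2 M W₁ W₂ 1 j - mu2 M W₁ W₂ i 1 +
          mu2 M W₁ W₂ 1 1) := by
      simp only [bridge345, one_smul]; abel
    simp only [β]
    rw [e', map_add, e]
    abel
  have hβj : ∀ j k, j ≠ 1 → k ≠ 1 → β 1 j = β 1 k := by
    intro j k hj hk
    have e := hD.dade_sub_mu2 1 j k hj hk ((hK.deg_eq 1 j hj).trans (hK.deg_eq 1 k hk).symm)
    rw [hK.sign_eq j hj, one_smul] at e
    have e' : bridge345 M W₁ W₂ 1 n ζ 1 j = bridge345 M W₁ W₂ 1 n ζ 1 k +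
        (mu2 M W₁ W₂ 1 j - mu2 M W₁ W₂ 1 k) := by
      simp only [bridge345, one_smul]; abel
    simp only [β]
    rw [e', map_add, e]
    abel
  have hstar : star (β 1 j) = β 1 j := by
    have hs := FTP.type34_conjSub₁.star_mem ζ hζ
    have e1 : star (bridge345 M W₁ W₂ 1 n ζ 1 j) =
        bridge345 M W₁ W₂ 1 n ζ 1 j⁻¹ + n • (ζ - star ζ) := by
      simp only [bridge345, one_smul, star_sub, star_nsmul, hp.star_mu2, LChar.inv_one, smul_sub]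
      abel
    have e2 := hτ₁.star_map (ftDade_hyp h.max) FTP.type34_conjSub₁.star_mem hζ hi
      (SeqInd.star_ne (der_le M) (Nml.der_self M).norm (mFT_odd M) le_rfl hζ)
    refine Eq.trans ?_ (hβj j⁻¹ j (LChar.inv_ne_one' hj) hj)
    simp only [β, star_add, star_sub, star_nsmul, hc.star_eta, LChar.inv_one, e2]
    rw [← Dade.map_star, e1, map_add, map_nsmul, ← hτ₁.agree _ (h.type34_sub_mem_Z0 h2 hs hζ),
      map_sub, smul_sub]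
    abel
  rw [hβi i j hj]
  have hαZ := fun i => h.dade_bridge345_mem_ZI h2 hK hζ' hi h1 i hj
  have hαA := fun i => h.bridge345_mem_CFon h2 hK hζ' hi h1 i hj
  have hβZ : β 1 j ∈ ZI ⊤ :=
    add_mem (sub_mem (hαZ 1) (sub_mem (hc.eta_mem_ZI _ _) (hc.eta_mem_ZI _ _)))
      (nsmul_mem (hτ₁.mem_ZI ζ hζ) n)
  have hSZ : ∑ i, eta ⊤ W₁ W₂ i 1 ∈ ZI ⊤ := Submodule.sum_mem _ fun i _ => hc.eta_mem_ZI i 1
  -- the integer `a`
  obtain ⟨a, ha⟩ := ZI.exists_cfdot_int hβZ (hτ₁.mem_ZI ζ hζ)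
  have ha1 : cfdot ⊤ (ftDade M (bridge345 M W₁ W₂ 1 n ζ 1 j)) (τ₁ ζ) = a - n := by
    rw [hβ]
    simp [-nsmul_eq_mul, ha, hζ1, cfdot_symm_zero (horth ζ hζ _ _)]
  have ha2 : cfdot ⊤ (β 1 j) (∑ i, eta ⊤ W₁ W₂ i 1) = a := by
    have e := Dade.isometry (ftDade_hyp h.max) (hαA 1) (h.type34_bridge0 h2 hζ)
    rw [he, cfdot_sub_right, ha1, hβ, cfdot_sub_right,
      h.cfdot_bridge345_irr hζ' hi, h.cfdot_bridge345_muj hζ' hi, Irr.cfdot_self hi,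
      cfdot_sub_left, cfdot_add_left, cfdot_sub_left, cfdot_nsmul_left, cfdot_sum_right _ (τ₁ ζ),
      Finset.sum_eq_zero fun i _ => horth ζ hζ i 1] at e
    simp [cfdot_sum_right _ (eta ⊤ W₁ W₂ _ _), hc.cfdot_eta, hj] at e
    linear_combination e
  have ha3 : (2 : ℤ) ∣ a := by
    obtain ⟨i₀, hi₀, -⟩ := hc.symm.exists_LChar_ne 1 1
    have e0 : cfdot ⊤ (β 1 j) (cf1 ⊤) = (0 : ℤ) := by
      rw [← hβi i₀ j hj]
      simp only [β]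
      rw [cfdot_add_left, cfdot_sub_left, Dade.cfdot_cf1 (ftDade_hyp h.max) (hαA i₀),
        ← hc.eta_one_one, ← hp.mu2_one_one]
      simp [-nsmul_eq_mul, bridge345, hp.cfdot_mu2, hc.cfdot_eta, hi₀, horth ζ hζ,
        cfdot_symm_zero (h.cfdot_mu2_of_irr hζ hi 1 1)]
    have hcast : ∀ i, (zdot ⊤ (β 1 j) (eta ⊤ W₁ W₂ i 1) : ℂ) = cfdot ⊤ (β 1 j) (eta ⊤ W₁ W₂ i 1) :=
      fun i => ZI.zdot_cast hβZ (hc.eta_mem_ZI i 1)
    have hinv : ∀ i, zdot ⊤ (β 1 j) (eta ⊤ W₁ W₂ i⁻¹ 1) = zdot ⊤ (β 1 j) (eta ⊤ W₁ W₂ i 1) := fun i => by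
      refine zdot_of_eq ?_
      have e1 := cfdot_star_star (H := ⊤) (φ := β 1 j) (ψ := eta ⊤ W₁ W₂ i 1)
      rw [hstar, hc.star_eta, LChar.inv_one, ← hcast i] at e1
      rw [e1]; simp
    have hsum : ∑ i, zdot ⊤ (β 1 j) (eta ⊤ W₁ W₂ i 1) = a := by
      have : ((∑ i, zdot ⊤ (β 1 j) (eta ⊤ W₁ W₂ i 1) : ℤ) : ℂ) = a := by
        rw [← ha2, cfdot_sum_right, Int.cast_sum]
        exact Finset.sum_congr rfl fun i _ => hcast i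
      exact_mod_cast this
    rw [← hsum]
    refine (ZMod.intCast_zmod_eq_zero_iff_dvd _ 2).1 ?_
    rw [Int.cast_sum]
    refine Finset.sum_involution (fun i _ => i⁻¹) (fun i _ => ?_) (fun i _ hi => LChar.inv_ne hc.odd₁ ?_)
      (fun _ _ => Finset.mem_univ _) fun i _ => LChar.inv_inv' i
    · rw [hinv, ← two_mul]; exact mul_eq_zero_of_left rfl _
    · rintro rfl
      refine hi ?_
      rw [hc.eta_one_one, zdot_of_eq e0, Int.cast_zero]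
  -- (11.8.2)
  have hSm : ∑ ξ ∈ S₁, ξ ∈ ZS S₁ := Submodule.sum_mem _ fun ξ hξ => mem_ZS_of_mem hξ
  have hγ : a • ∑ ξ ∈ S₁, ξ - n • ζ ∈ ZS S₁ :=
    sub_mem (Submodule.smul_mem _ a hSm) (nsmul_mem (mem_ZS_of_mem hζ) n)
  have hS1 : ∀ ξ ∈ S₁, cfdot M (∑ ξ ∈ S₁, ξ) ξ = 1 := fun ξ hξ => by
    rw [cfdot_sum_dirr (fun α hα => Irr.isDirr (hirr α hα))
      (fun α hα β hβ => Irr.cfdot_ne (hirr α hα) (hirr β hβ)) hξ S₁ subset_rfl, if_pos hξ]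
  have hX : ∀ ξ ∈ S₁, cfdot ⊤ (ftDade M (bridge345 M W₁ W₂ 1 n ζ 1 j) -
      τ₁ (a • ∑ ξ ∈ S₁, ξ - n • ζ)) (τ₁ ξ) = 0 := by
    intro ξ hξ
    have e := Dade.isometry (ftDade_hyp h.max) (hαA 1) (h.Z0_mem_CFon_ftA0 h2
      (Z0_mono FTP.type34_conjSub₁.sub (h.type34_sub_mem_Z0 h2 hζ hξ)))
    rw [← hτ₁.agree _ (h.type34_sub_mem_Z0 h2 hζ hξ), map_sub, cfdot_sub_right, cfdot_sub_right,
      ha1, h.cfdot_bridge345_irr hζ' hi, Irr.cfdot_self hi,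
      h.cfdot_bridge345_irr (FTP.type34_conjSub₁.sub hξ) (hirr ξ hξ)] at e
    rw [cfdot_sub_left, hτ₁.cfdot_map hγ (mem_ZS_of_mem hξ), cfdot_sub_left, cfdot_zsmul_left,
      cfdot_nsmul_left, hS1 ξ hξ]
    linear_combination e
  have hY : cfnorm ⊤ (τ₁ (a • ∑ ξ ∈ S₁, ξ - n • ζ)) = a ^ 2 * n + n ^ 2 - 2 * a * n := by
    rw [hτ₁.cfnorm_map hγ, cfnorm_sub, cfnorm_zsmul, cfnorm_nsmul, cfdot_zsmul_left,
      cfdot_nsmul_right, hS1 ζ hζ, Irr.cfnorm_eq hi, cfnorm_sum_dirr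
        (fun α hα => Irr.isDirr (hirr α hα)) (fun α hα β hβ => Irr.cfdot_ne (hirr α hα) (hirr β hβ))]
    simp [hn]
    ring
  have hXY := cfdot_symm_zero
    (ZS.cfdot_map_left_eq_zero (fun ξ hξ => cfdot_symm_zero (hX ξ hξ)) hγ)
  have hle : a ^ 2 * n - 2 * a * n ≤ 2 := by
    have e := cfnorm_add_of_orth hXY
    rw [sub_add_cancel, h.cfnorm_dade_bridge345 h2 hK hζ' hi h1 1 hj, hY] at e
    have e' := cfnorm_nonneg ⊤ (ftDade M (bridge345 M W₁ W₂ 1 n ζ 1 j) -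
      τ₁ (a • ∑ ξ ∈ S₁, ξ - n • ζ))
    have : (a : ℝ) ^ 2 * n - 2 * a * n ≤ 2 := by linarith
    exact_mod_cast this
  have ha4 : a ^ 2 = 2 * a := by
    obtain ⟨b, rfl⟩ := ha3
    have hn1 : (1 : ℤ) ≤ n := by exact_mod_cast Finset.card_pos.2 ⟨ζ, hζ⟩
    have : b = 0 ∨ b = 1 := by
      by_contra hb
      have hb' : 2 ≤ b * (b - 1) := by
        rcases (by omega : b ≤ -1 ∨ 2 ≤ b) with h | h <;> nlinarith
      nlinarith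
    rcases this with rfl | rfl <;> norm_num
  have hXe := h.bridge345_coherence h2 hK hζ' hi h1 1 hj FTP.type34_conjSub₁ hirr hτ₁ hγ
    (sub_add_cancel _ _).symm hX (by
      rw [hY]
      have : (a : ℝ) ^ 2 = 2 * a := by exact_mod_cast ha4
      rw [this]
      ring)
  have hβe : β 1 j = a • τ₁ (∑ ξ ∈ S₁, ξ) := by
    rw [one_smul, map_sub, map_zsmul, map_nsmul] at hXe
    simp only [β]
    rw [← hXe]
    abel
  have ha0 : a = 0 := by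
    rw [hβe, cfdot_zsmul_left, cfdot_sum_right, Finset.sum_eq_zero fun i _ =>
      ZS.cfdot_map_left_eq_zero (fun ξ hξ => horth ξ hξ i 1) hSm, mul_zero] at ha2
    exact_mod_cast ha2.symm
  rw [hβe, ha0, zero_smul]

end

end FTP

/-- Peterfalvi (11.8). -/
theorem FTP.type34_not_orth (h : FTP M U W₁ W₂) (h2 : ¬ IsOfTypeII M)
    (hζ : ζ ∈ seqIndD ⁅M, M⁆ M ⁅M, M⁆ 𝐅(M)) :
    ¬ ∀ i j, cfdot ⊤ (ftDade M (muj M W₁ W₂ 1 - ζ)) (eta ⊤ W₁ W₂ i j) =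
      if j = 1 then 1 else 0 := by
  intro ho
  have hc := h.cycTI
  have hp := h.primeTI
  have hD := h.prDade_der h2
  have hK := h.type34_consts h2
  obtain ⟨hi, h1⟩ := h.type34_irr h2 hζ
  obtain ⟨τ₁, hτ₁, he⟩ := h.type34_exists_ext h2 hζ ho
  obtain ⟨R, hR⟩ := h.exists_subcoherent_der h2
  obtain ⟨j, hj, -⟩ := hc.exists_LChar_ne 1 1
  obtain ⟨hjS, hj1⟩ := h.type34_muj h2 hj
  have hcard := h.type34_card h2
  set d := (U ⊓ 𝐂(𝐇(M))).relIndex U with hd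
  set n := (seqIndD ⁅M, M⁆ M ⁅M, M⁆ 𝐅(M)).card with hn
  -- (11.8.6)
  have e1 : ftDade M (muj M W₁ W₂ j - d • ζ) = ∑ i, eta ⊤ W₁ W₂ i j - d • τ₁ ζ := by
    have e : muj M W₁ W₂ j - d • ζ =
        ∑ i, bridge345 M W₁ W₂ 1 n ζ i j + (muj M W₁ W₂ 1 - ζ) := by
      simp only [bridge345, muj, one_smul, Finset.sum_sub_distrib, Finset.sum_const,
        Finset.card_univ, hc.card_LChar₁, ← hcard, add_smul, smul_smul, mul_comm n]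
      abel
    rw [e, map_add, map_sum, he, Finset.sum_congr rfl fun i _ =>
      h.type34_dade_bridge h2 hζ hτ₁ he i hj]
    simp only [Finset.sum_sub_distrib, Finset.sum_const, Finset.card_univ, hc.card_LChar₁,
      ← hcard, add_smul, smul_smul, mul_comm n, one_smul]
    abel
  have hdζ : d • ζ ∈ ZS (seqIndD ⁅M, M⁆ M ⁅M, M⁆ 𝐅(M)) := nsmul_mem (mem_ZS_of_mem hζ) d
  have hdeg : muj M W₁ W₂ j 1 = (d • ζ) 1 := by simp [hj1, h1, mul_comm]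
  obtain ⟨τ₂, hτ₂, e2⟩ : ∃ τ₂, CoherentWith M ⊤ (seqIndD ⁅M, M⁆ M 𝐇(M) (U ⊓ 𝐂(𝐇(M))))
      (ftDade M) τ₂ ∧ τ₂ (muj M W₁ W₂ j) = ∑ i, eta ⊤ W₁ W₂ i j := by
    by_cases hirr : ∃ ξ ∈ seqIndD ⁅M, M⁆ M 𝐇(M) (U ⊓ 𝐂(𝐇(M))), ξ ∈ Irr M
    · obtain ⟨τ₂, hτ₂⟩ := h.type34_coherent₂ h2
      refine ⟨τ₂, hτ₂, ?_⟩
      rcases hD.map_muj h.type34_conjSub₂ (fun χ hχ => hR.star_ne χ (h.type34_conjSub₂.sub hχ))
        hirr hjS hτ₂ with e | ⟨e, -⟩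
      · rwa [hK.sign_eq j hj, one_smul] at e
      exfalso
      obtain ⟨ξ, hξ, hξi⟩ := hirr
      have hγ := cross_mem_Z0 (mem_ZS_of_mem hjS) (mem_ZS_of_mem hξ) (Irr.apply_one_int hξi)
        (n := (Nat.card W₁ * d : ℕ)) (by rw [hj1]; simp)
      have hnS := Finset.disjoint_left.1 h.type34_disjoint
      have ho' : ∀ φ ∈ seqIndD ⁅M, M⁆ M 𝐇(M) (U ⊓ 𝐂(𝐇(M))), cfdot ⊤ (τ₂ φ) (τ₁ ζ) = 0 :=
        fun φ hφ => hR.cfdot_map_map h.type34_conjSub₂ hτ₂ FTP.type34_conjSub₁ hτ₁ hφ hζ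
          (fun e => hnS hφ (e ▸ hζ)) (fun e => hnS (h.type34_conjSub₂.star_mem φ hφ) (e ▸ hζ))
      have e3 := hR.iso _ (Z0_mono h.type34_conjSub₂.sub hγ) _
        (sub_mem_Z0 (mem_ZS_of_mem (h.type34_conjSub₂.sub hjS))
          (ZS_mono FTP.type34_conjSub₁.sub hdζ) hdeg)
      rw [e1, ← hτ₂.agree _ hγ, cfdot_sub_right, cfdot_nsmul_right,
        ZS.cfdot_map_left_eq_zero ho' hγ.1, map_sub, map_smul, map_smul, e, hK.sign_eq j hj,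
        one_smul] at e3
      have e4 : cfdot M ξ ζ = 0 :=
        Irr.cfdot_ne hξi hi fun e => hnS hξ (e ▸ hζ)
      simp [-nsmul_eq_mul, cfdot_sum_left, cfdot_sum_right, hc.cfdot_eta,
        LChar.inv_ne hc.odd₂ hj, h.type34_cfdot_map_eta h2 h.type34_conjSub₂ hτ₂ hξ hξi,
        hp.cfdot_muj, h.cfdot_muj_of_irr hζ hi, cfdot_symm_zero (h.cfdot_muj_of_irr hξ hξi j), e4,
        Irr.apply_one_ne_zero hξi, Nat.card_pos.ne'] at e3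
    · push Not at hirr
      obtain ⟨τ₂, hτ₂, e⟩ := hD.exists_coherentWith_muj j _ (fun φ hφ => by
        rcases hD.mem_Irr_or_eq_muj (h.type34_conjSub₂.sub hφ) with h3 | ⟨k, hk, rfl⟩
        · exact absurd h3 (hirr φ hφ)
        · exact ⟨k, hk, rfl, (h.type34_muj h2 hk).2.trans hj1.symm⟩) hj
      exact ⟨τ₂, hτ₂, by rw [e j hjS, hK.sign_eq j hj, one_smul]⟩
  obtain ⟨τ₃, hτ₃, -⟩ := hR.bridge h.type34_conjSub₂ hτ₂ FTP.type34_conjSub₁ hτ₁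
    h.type34_disjoint hjS hdζ hdeg (by rw [e1, e2, map_nsmul])
  refine (h.type34_pcore h2).type34_not_coherent h2 ⟨τ₃, hτ₃.mono fun φ hφ => ?_⟩
  obtain ⟨θ, hθ, hk, hk', rfl⟩ := mem_seqIndD.1 hφ
  rw [bot_sup_eq] at hk
  by_cases hH : 𝐇(M) ≤ cfker θ
  · exact Finset.mem_union_right _ (SeqInd.ind_mem hθ (h.F_eq_HC ▸ sup_le hH hk) hk')
  · exact Finset.mem_union_left _ (SeqInd.ind_mem hθ hk hH)

theorem FTP.type34_proj_aux (h : FTP M U W₁ W₂) (h2 : ¬ IsOfTypeII M)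
    (hζ : ζ ∈ seqIndD ⁅M, M⁆ M ⁅M, M⁆ 𝐅(M)) :
    (∀ i j, cfdot ⊤ (ftDade M (muj M W₁ W₂ 1 - ζ)) (eta ⊤ W₁ W₂ i j) = if i = 1 then 1 else 0) ∧
      Nat.card W₂ ≤ Nat.card W₁ + 1 := by
  have hc := h.cycTI
  have hp := h.primeTI
  have hZ := h.type34_bridge0_ZI h2 hζ
  have hn := h.type34_bridge0_cfnorm h2 hζ
  have h11 := h.type34_bridge0_one h2 hζ
  have hno := h.type34_not_orth h2 hζ
  have hV : ∀ v ∈ cycV W₁ W₂, ftDade M (muj M W₁ W₂ 1 - ζ) v = 0 := fun v hv =>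
    (h.prDade_der h2).dade_apply_cycV_eq_zero (h.type34_bridge0_sharp h2 hζ) hv
  have haut : ∀ (u : ℂ →+* ℂ) i j, cfdot ⊤ (ftDade M (muj M W₁ W₂ 1 - ζ))
      (eta ⊤ W₁ W₂ (autL u i) (autL u j)) =
      cfdot ⊤ (ftDade M (muj M W₁ W₂ 1 - ζ)) (eta ⊤ W₁ W₂ i j) := by
    intro u i j
    have e : u ∘ (muj M W₁ W₂ 1 - ζ) = (muj M W₁ W₂ 1 - ζ) + (ζ - u ∘ ζ) := by
      have := hp.comp_muj 1 u
      rw [autL_one] at this
      rw [sub_add_sub_cancel]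
      nth_rewrite 2 [← this]
      funext x
      simp
    rw [← ZI.cfdot_comp u hZ (hc.eta_mem_ZI i j), ← Dade.map_comp, e, map_add, cfdot_add_left,
      hc.comp_eta, h.type34_dade_sub_eta h2 (SeqInd.comp_mem u hζ) hζ, add_zero]
  set ψ := ftDade M (muj M W₁ W₂ 1 - ζ) with hψ
  obtain ⟨i₀, hi₀, -⟩ := hc.symm.exists_LChar_ne 1 1
  obtain ⟨j₀, hj₀, -⟩ := hc.exists_LChar_ne 1 1
  obtain ⟨x, hx⟩ := ZI.exists_cfdot_int hZ (hc.eta_mem_ZI i₀ 1)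
  obtain ⟨y, hy⟩ := ZI.exists_cfdot_int hZ (hc.eta_mem_ZI 1 j₀)
  have hx' : ∀ i, i ≠ 1 → cfdot ⊤ ψ (eta ⊤ W₁ W₂ i 1) = x := by
    intro i hi
    obtain ⟨u, rfl, -⟩ := exists_autL_eq_of_prime h.primes.1 hi₀ hi one_ne_zero
      (Nat.coprime_one_right _)
    rw [← hx, ← haut u i₀ 1, autL_one]
  have hy' : ∀ j, j ≠ 1 → cfdot ⊤ ψ (eta ⊤ W₁ W₂ 1 j) = y := by
    intro j hj
    obtain ⟨u, rfl, -⟩ := exists_autL_eq_of_prime h.primes.2 hj₀ hj one_ne_zero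
      (Nat.coprime_one_right _)
    rw [← hy, ← haut u 1 j₀, autL_one]
  have hall : ∀ i j, cfdot ⊤ ψ (eta ⊤ W₁ W₂ i j) = ((if i = 1 then (if j = 1 then 1 else y) else
      (if j = 1 then x else x + y - 1) : ℤ) : ℂ) := by
    intro i j
    split_ifs with hi hj hj
    · rw [hi, hj, h11, Int.cast_one]
    · rw [hi, hy' j hj]
    · rw [hj, hx' i hi]
    · have := hc.cfdot_eta_exchange i 1 j 1 (ZI.mem_CF hZ) hV
      rw [h11, hx' i hi, hy' j hj] at this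
      push_cast
      linear_combination this
  have hb := bessel_orth (L := ⊤) (s := Finset.univ)
    (f := fun p : LChar W₁ × LChar W₂ => eta ⊤ W₁ W₂ p.1 p.2)
    (fun p _ p' _ hne => hc.cfdot_eta_of_ne _ _ _ _ fun e => hne (Prod.ext e.1 e.2)) ψ
  simp only [hall, (hc.eta_isDirr _ _).cfnorm_eq, div_one, Complex.norm_intCast, sq_abs, hn,
    Fintype.sum_prod_type, apply_ite (fun z : ℤ => (z : ℝ) ^ 2), Finset.sum_ite_irrel,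
    sum_ite_eq_one, hc.card_LChar₁, hc.card_LChar₂] at hb
  have hb' : (1 : ℤ) + ((Nat.card W₂ : ℤ) - 1) * y ^ 2 + ((Nat.card W₁ : ℤ) - 1) *
      (x ^ 2 + ((Nat.card W₂ : ℤ) - 1) * (x + y - 1) ^ 2) ≤ Nat.card W₁ + 1 := by
    have : (1 : ℝ) + ((Nat.card W₂ : ℝ) - 1) * y ^ 2 + ((Nat.card W₁ : ℝ) - 1) *
      (x ^ 2 + ((Nat.card W₂ : ℝ) - 1) * (x + y - 1) ^ 2) ≤ Nat.card W₁ + 1 := by
      convert hb using 1
      push_cast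
      ring
    exact_mod_cast this
  have hq : (3 : ℤ) ≤ Nat.card W₁ := by exact_mod_cast hc.three_le₁
  have hp' : (3 : ℤ) ≤ Nat.card W₂ := by exact_mod_cast hc.three_le₂
  have key : x = 0 ∧ y = 1 ∨ x = 1 ∧ y = 0 := by
    generalize (Nat.card W₁ : ℤ) = q at hb' hq
    generalize (Nat.card W₂ : ℤ) = p at hb' hp'
    have hz : x + y - 1 = 0 := by
      by_contra hz
      have h3 : 1 ≤ (x + y - 1) ^ 2 := by
        have := sq_pos_of_ne_zero hz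
        omega
      have h4 : 2 ≤ x ^ 2 + (p - 1) * (x + y - 1) ^ 2 := by nlinarith [sq_nonneg x]
      nlinarith [mul_nonneg (by omega : 0 ≤ p - 1) (sq_nonneg y)]
    rw [hz] at hb'
    by_contra hne
    rcases (by omega : 2 ≤ x ∨ (x ≤ -1 ∧ 2 ≤ y)) with h3 | ⟨h3, h4⟩
    · have h4 : 4 ≤ x ^ 2 := by nlinarith
      nlinarith [mul_nonneg (by omega : 0 ≤ p - 1) (sq_nonneg y)]
    · have h5 : 1 ≤ x ^ 2 := by nlinarith
      have h6 : 4 ≤ y ^ 2 := by nlinarith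
      nlinarith
  rcases key with ⟨rfl, rfl⟩ | ⟨rfl, rfl⟩
  · refine ⟨fun i j => by rw [hall]; split_ifs <;> simp, ?_⟩
    have : (Nat.card W₂ : ℤ) ≤ Nat.card W₁ + 1 := by linarith
    exact_mod_cast this
  · exact absurd (fun i j => by rw [hall]; split_ifs <;> simp) hno

/-- Peterfalvi (11.9)(a). -/
theorem FTP.type34_proj (h : FTP M U W₁ W₂) (h2 : ¬ IsOfTypeII M)
    (hζ : ζ ∈ seqIndD ⁅M, M⁆ M ⁅M, M⁆ 𝐅(M)) (i : LChar W₁) (j : LChar W₂) :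
    cfdot ⊤ (ftDade M (muj M W₁ W₂ 1 - ζ)) (eta ⊤ W₁ W₂ i j) = if i = 1 then 1 else 0 :=
  (h.type34_proj_aux h2 hζ).1 i j

/-- Peterfalvi (11.9)(b,c). -/
theorem FTP.type34_structure (h : FTP M U W₁ W₂) (h2 : ¬ IsOfTypeII M) :
    Nat.card W₂ < Nat.card W₁ ∧ IsOfTypeIII M ∧ PGalois U 𝐇(M) ⊥ ∧ IsCyclic U := by
  have hc := h.cycTI
  have hp := h.primeTI
  have hD := h.prDade_der h2
  have hP := h.type34_pcore h2
  have hF : 𝐅(M) < ⁅M, M⁆ := h.type34_der2 h2 ▸ h.der2_lt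
  obtain ⟨ζ, hζ⟩ := SeqInd.nonempty (der_le M) (Nml.der_self M).norm le_rfl hF
    ((der_le M).trans (Fitting_nml M).norm)
  obtain ⟨hproj, hle⟩ := h.type34_proj_aux h2 hζ
  have hlt : Nat.card W₂ < Nat.card W₁ := by
    have h1 := hc.card_ne
    obtain ⟨a, ha⟩ := hc.odd₁
    obtain ⟨b, hb⟩ := hc.odd₂
    omega
  have hC := (hP.type34_facts h2).2.2
  have hG : PGalois U 𝐇(M) ⊥ := by
    by_contra hG
    obtain ⟨H₁, lam, hN⟩ := hP.exists_nGal hG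
    obtain ⟨n, hn, hn'⟩ := hP.nGal_count hN
    have hn0 : 0 < n := by
      refine Nat.pos_of_ne_zero fun e => ?_
      have h3 := hc.three_le₂
      rw [e, zero_mul, eq_comm, mul_eq_zero] at hn
      rcases hn with hn | hn
      · omega
      · exact Nat.card_pos.ne' hn
    obtain ⟨ξ, hξ⟩ := Finset.card_pos.1 (hn0.trans_le hn')
    rw [Finset.mem_filter, bot_sup_eq, ← hC] at hξ
    obtain ⟨hξ, hξi, hξ1⟩ := hξ
    have hdvd := relIndex_dvd_left (hP.nGal_C_le hN) U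
    have hq := hP.q_dvd_u_sub_one
    rw [centMod_bot U 𝐇(M)] at hdvd hq
    obtain ⟨k, hk⟩ := hdvd
    obtain ⟨j, hj, -⟩ := hc.exists_LChar_ne 1 1
    obtain ⟨hjS, hj1⟩ := h.type34_muj h2 hj
    obtain ⟨τ₂, hτ₂⟩ := h.type34_coherent₂ h2
    have hγ := sub_zsmul_mem_Z0 (mem_ZS_of_mem hjS) (mem_ZS_of_mem hξ) (a := k)
      (by rw [hj1, hξ1, hk]; push_cast; ring)
    have e := Dade.isometry (ftDade_hyp h.max) (h.type34_bridge0 h2 hζ)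
      (h.Z0_mem_CFon_ftA0 h2 (Z0_mono h.type34_conjSub₂.sub hγ))
    obtain ⟨m, hm⟩ := ZI.exists_cfdot_int (h.type34_bridge0_ZI h2 hζ) (hτ₂.mem_ZI ξ hξ)
    have hi := (h.type34_irr h2 hζ).1
    have e4 : cfdot M ζ ξ = 0 :=
      Irr.cfdot_ne hi hξi fun e => Finset.disjoint_left.1 h.type34_disjoint hξ (e ▸ hζ)
    have hs : ∀ l, cfdot ⊤ (ftDade M (muj M W₁ W₂ 1 - ζ)) (∑ i, eta ⊤ W₁ W₂ i l) = 1 := fun l => by
      simp [-map_sub, cfdot_sum_right, hproj]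
    have e5 : cfdot M (muj M W₁ W₂ 1 - ζ) (muj M W₁ W₂ j - (k : ℤ) • ξ) = 0 := by
      simp [-zsmul_eq_mul, -natCast_zsmul, hp.cfdot_muj, hj.symm, h.cfdot_muj_of_irr hξ hξi, e4,
        cfdot_symm_zero (h.cfdot_muj_of_irr hζ hi j)]
    rw [e5, ← hτ₂.agree _ hγ, map_sub τ₂, map_zsmul, cfdot_sub_right, cfdot_zsmul_right, hm] at e
    have hk1 : (k : ℤ) ∣ 1 := by
      rcases hD.map_muj h.type34_conjSub₂ (fun χ hχ => SeqInd.star_ne (der_le M)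
        (Nml.der_self M).norm (mFT_odd M) le_rfl (h.type34_conjSub₂.sub hχ))
        ⟨ξ, hξ, hξi⟩ hjS hτ₂ with e' | ⟨e', -⟩
      · rw [e', (h.type34_consts h2).sign_eq j hj, one_smul, hs] at e
        exact ⟨m, by exact_mod_cast sub_eq_zero.1 e⟩
      · rw [e', (h.type34_consts h2).sign_eq j hj, one_smul, cfdot_neg_right, hs] at e
        refine ⟨-m, ?_⟩
        have : (1 : ℂ) = (k : ℤ) * (-m : ℤ) := by push_cast at e ⊢; linear_combination -e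
        exact_mod_cast this
    obtain rfl : k = 1 := Nat.dvd_one.1 (by exact_mod_cast hk1)
    have h3 := Nat.le_of_dvd (by have := hc.three_le₂; omega) (hP.nGal_facts hN).2.1
    have h4 := h.one_lt_u
    have h5 := Nat.le_of_dvd (by omega) hq
    omega
  obtain ⟨x, hx, hU⟩ := (hP.pGalois_facts hG).1
  rw [centMod_bot, hC] at hU
  have hcyc : IsCyclic U := cyclic_iff.2
    ⟨x, hx, eq_of_der_sup_of_nil h.P.U_nilpotent (zpowers_le.2 hx) hU.le⟩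
  exact ⟨hlt, h.typeIII_iff.2 ⟨h2, hP.notV, abelian_of_cyclic hcyc⟩, hG, hcyc⟩

end Cfsg.Lib.BG.Z.PF
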