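import Cfsg.Agent.Lib.PF.Sec12Char
import Cfsg.Agent.Lib.ZQ.Sec12Sub
import Cfsg.Agent.Lib.PF.Sec7Frob
import Cfsg.Agent.Lib.PF.FrobNil
import Cfsg.Agent.Lib.BG.T03_1
import Cfsg.Agent.Lib.ZB.Max

/-!
# Peterfalvi (12.13)-(12.16): the character-theoretic part of the proof of (12.7)
-/

set_option autoImplicit false
set_option linter.unusedVariables false

namespace Cfsg.Lib.BG.Z.PF

open Subgroup
open Cfsg.Lib.PF
open scoped Classical Cfsg.Lib.Transfer ComplexConjugate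

section General

variable {X : Type*} [Group X] [Finite X] {L H : Subgroup X} {R : X → Subgroup X}
  {ν : (X → ℂ) →ₗ[ℂ] (X → ℂ)} {χ ζ : X → ℂ}

end General

variable {G : Type*} [Group G] [Finite G] [Sz G] {L M N : Subgroup G}

/-- For `M` of type I and a prime `p` dividing `|M : M_F|`, `|M_F : M_F'| ≡ 1 (mod p)`. -/
theorem typeI_dvd_relIndex_der_sub_one (hM : Mx M) (h1 : TypeI M) {p : ℕ} (hp : p.Prime)
    (hd : p ∣ 𝐇(M).relIndex M) : p ∣ (⁅𝐇(M), 𝐇(M)⁆).relIndex 𝐇(M) - 1 := by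
  obtain ⟨U, hU⟩ := exists_compl_MF M
  obtain ⟨U₁, U₀, hF⟩ := exists_typeFWith (typeF_of_typeI hM h1) hU
  obtain ⟨y, hy, hyp, hreg⟩ := hF.exists_regular hp (hU.relIndex_left ▸ hd)
  have hc : Nat.card (zpowers y) = p := by rw [Nat.card_zpowers, hyp]
  have hn : zpowers y ≤ 𝐍(𝐇(M)) := (zpowers_le.2 hy).trans hU.norm
  have hr : SemiReg 𝐇(M) (zpowers y) := semiReg_prime (hc ▸ hp) (by rwa [cent_zpowers])
  have h2 := regular_norm_dvd_pred hn hr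
  have h3 := regular_norm_dvd_pred (norm_der hn) fun x hx h1 =>
    eq_bot_mono (hr x hx h1) (inf_le_inf_right _ (der_le 𝐇(M)))
  rw [hc] at h2 h3
  have h4 := (Nat.modEq_iff_dvd' Nat.card_pos).2 h2
  have h5 := (Nat.modEq_iff_dvd' Nat.card_pos).2 h3
  rw [← card_mul_relIndex' (der_le 𝐇(M))] at h4
  have h6 := h4.trans (h5.symm.mul_right _)
  exact (Nat.modEq_iff_dvd' (relIndex_pos _ _)).1 (by simpa using h6)

/-- Peterfalvi (12.13)-(12.16).  The hypotheses are the conclusions of (12.9)-(12.12). -/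
theorem Sec12.char_contradiction (hM : Mx M) (h1 : TypeI M) (hnF : ¬ FrobKer M 𝐇(M))
    (hL : Mx L) (hF : FrobKer L 𝐇(L)) {p : ℕ} (hp : p.Prime) {x g : G} (hx : x ∈ 𝐇(L))
    (hxp : orderOf x = p) (hCM : 𝐂[x] ≤ M) (hCL : ¬ 𝐂[x] ≤ L) (hg : g ∈ 𝐇(M))
    (hg' : g ∉ ⁅𝐇(M), 𝐇(M)⁆) (hxg : x * g = g * x) (hML : M ⊓ L ≤ 𝐇(L))
    (hp2 : p ^ 2 ≤ Nat.card 𝐇(L)) (he : 2 * 𝐇(L).relIndex L ≤ p + 1) : False := by
  have hL1 := typeI_of_frobKer hL hF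
  have hx1 : x ≠ 1 := fun e => hp.one_lt.ne (by rw [← hxp, e, orderOf_one])
  have hsub : ∀ {N : Subgroup G}, Mx N → sharp 𝐇(N) ⊆ ftA0 N := fun hN =>
    ((sharp_MF_subset_typeA1 hN).trans (typeA1_subset_ftA hN)).trans (ftA_subset_ftA0 _)
  obtain ⟨-, N, hN, hRx, hsd, -⟩ := support_facts hL (hsub hL ⟨hx, hx1⟩) hCL
  obtain rfl := hN.uniq M hM hCM
  have hxM : x ∈ M := hCM (self_mem_cent1 x)
  have hxL : x ∈ L := MF_le L hx
  have hxK : x ∉ 𝐇(M) := fun h => hx1 (mem_bot.1 (hsd.inf ▸ ⟨h, hxL, hxM⟩))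
  have hnc : ¬ Cj L M := fun h => hnF (frobKer_of_cj h hF)
  obtain ⟨τ₁, hcoh⟩ := frob_coherent hL hF
  obtain ⟨χ, hχ, hχ1⟩ := exists_ref_lin hL
  have hχi := frob_seqInd_subset hF hχ
  have dψ := hcoh.isDirr hχ hχi
  have hoM := orthI_map hL hF hM h1 hnc hcoh hχ
  set e := 𝐇(L).relIndex L with he'
  have he3 : 3 ≤ e := by
    obtain ⟨m, hm⟩ := (mFT_odd L).of_dvd_nat (Subgroup.relIndex_dvd_card 𝐇(L) L)
    have := hF.one_lt_relIndex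
    omega
  have he3' : (3 : ℝ) ≤ e := by exact_mod_cast he3
  have hh0 := card_pos_real 𝐇(L)
  -- (12.14)
  obtain ⟨a, -, hρ, nρ⟩ := exists_invDade_map_eq (ftDadeF_hyp hL) hcoh hχi hχ hχ1
  have ha : a = 0 := by
    by_contra ha
    have h2 := Dade.cfnorm_invDade_le (ftDadeF_hyp hL) dψ.mem_CF
    rw [nρ, dψ.cfnorm_eq] at h2
    have h3 : (a : ℝ) ^ 2 * ((Nat.card 𝐇(L) - 1) / e) - 2 * a ≤ e := by
      rw [← div_le_div_iff_of_pos_right hh0]; linarith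
    have h4 : (p : ℝ) ^ 2 ≤ Nat.card 𝐇(L) := by exact_mod_cast hp2
    have h5 : 2 * (e : ℝ) ≤ p + 1 := by exact_mod_cast he
    have h6 : 2 * ((p : ℝ) - 1) ≤ (Nat.card 𝐇(L) - 1) / e := by
      rw [le_div_iff₀ (by linarith)]; nlinarith
    have h7 : (a : ℝ) ≤ (a : ℝ) ^ 2 := by exact_mod_cast Int.le_self_sq a
    have h8 : (1 : ℝ) ≤ (a : ℝ) ^ 2 := by
      exact_mod_cast Int.add_one_le_of_lt (show (0 : ℤ) < a ^ 2 by positivity)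
    nlinarith
  subst ha
  have h14 : τ₁ χ (x * g) = χ x := by
    have h2 := hρ x ⟨hx, hx1⟩
    rw [Dade.invDade_eq_of_const (A := sharp 𝐇(L)) (H := supportR L) ⟨hx, hx1⟩ fun u hu =>
      hoM.apply_mul hM h1 dψ.mem_CF hxM hxK (hRx ▸ hu).1] at h2
    rw [hoM.apply_mul hM h1 dψ.mem_CF hxM hxK hg, h2, Int.cast_zero, add_zero]
  -- (12.15)
  have h15 : ∀ y ∈ sharp 𝐇(M), invDade (sharp 𝐇(M)) (supportR M) (τ₁ χ) y = τ₁ χ y := by
    intro y hy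
    refine Dade.invDade_eq_of_const hy fun u hu => ?_
    by_cases hc : 𝐂[y] ≤ M
    · rw [supportR_of_le hc, mem_bot] at hu
      rw [hu, mul_one]
    obtain ⟨-, N, hN', hR, -, -, -, ⟨hyA, hyA1⟩, hty, hII⟩ := support_facts hM (hsub hM hy) hc
    have hN1 : TypeI N := hty.resolve_right fun h => hnF (hII h)
    have hyN : y ∉ 𝐇(N) := fun h => hyA1 (sharp_MF_subset_typeA1 hN'.max ⟨h, hy.2⟩)
    have hnc' : ¬ Cj L N := fun h =>
      hyN ((ftA_of_frobKer hN'.max (frobKer_of_cj h hF)) ▸ hyA).1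
    exact (orthI_map hL hF hN'.max hN1 hnc' hcoh hχ).apply_mul hN'.max hN1 dψ.mem_CF
      (hN'.le (self_mem_cent1 y)) hyN (hR ▸ hu).1
  have hsh : ∀ y ∈ (𝐇(M) : Set G) \ ↑⁅𝐇(M), 𝐇(M)⁆, y ∈ sharp 𝐇(M) := fun y hy =>
    ⟨hy.1, fun e => hy.2 (by rw [Set.mem_singleton_iff.1 e]; exact one_mem _)⟩
  have hconst : ∀ y ∈ (𝐇(M) : Set G) \ ↑⁅𝐇(M), 𝐇(M)⁆, τ₁ χ y = τ₁ χ g := fun y hy => by
    rw [← h15 y (hsh y hy), ← h15 g (hsh g ⟨hg, hg'⟩)]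
    exact hoM.invDade_eq hM h1 dψ.mem_CF hy.1 hy.2 hg hg'
  obtain ⟨n, hn⟩ := ZI.exists_int_of_const (A := (𝐇(M) : Set G) \ ↑⁅𝐇(M), 𝐇(M)⁆) (g := g)
    dψ.mem_ZI (fun k hk => ⟨pow_mem hg k, fun h => by
    obtain ⟨m, hm⟩ := exists_pow_eq_self_of_coprime (hk.coprime_dvd_right (orderOf_dvd_natCard g))
    exact hg' (hm ▸ pow_mem h m)⟩) hconst
  -- (12.16)
  have hpn : (p : ℤ) ∣ n - e := by
    obtain ⟨ω₁, i₁, e₁⟩ := ZI.sub_eq_one_sub_mul dψ.mem_ZI hp (mem_top x) (mem_top g) hxp hxg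
    obtain ⟨ω₂, i₂, e₂⟩ := ZI.sub_eq_one_sub_mul (Irr.mem_ZI hχi) hp hxL L.one_mem hxp (by simp)
    refine prime_dvd_of_eq_one_sub_mul hp (i₂.sub i₁) ?_
    rw [h14, hn] at e₁
    rw [mul_one, hχ1] at e₂
    push_cast
    linear_combination e₂ - e₁
  have hk : 5 ≤ (⁅𝐇(M), 𝐇(M)⁆).relIndex 𝐇(M) := by
    have h2 := typeI_dvd_relIndex_der_sub_one hM h1 hp
      (hsd.relIndex_left ▸ hxp ▸ Subgroup.orderOf_dvd_natCard (L ⊓ M) ⟨hxL, hxM⟩)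
    have h3 := relIndex_pos ⁅𝐇(M), 𝐇(M)⁆ 𝐇(M)
    have h4 : (⁅𝐇(M), 𝐇(M)⁆).relIndex 𝐇(M) ≠ 1 := fun e => hg' (relIndex_eq_one.1 e hg)
    have h5 := Nat.le_of_dvd (by omega) h2
    omega
  have hle := cfnorm_invDade_add_le (ftDadeF_hyp hM) (ftDadeF_hyp hL) (by
    have := disjoint_ftSupp_typeA1 hL hM hnc
    rw [typeA1_of_typeI hL hL1, typeA1_of_typeI hM h1] at this
    exact this.symm) dψ.mem_CF
  have hlow : (Nat.card M : ℝ)⁻¹ * (((Nat.card 𝐇(M) : ℝ) - Nat.card ↥⁅𝐇(M), 𝐇(M)⁆) * (n : ℝ) ^ 2) ≤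
      cfnorm M (invDade (sharp 𝐇(M)) (supportR M) (τ₁ χ)) := by
    rw [cfnorm_def]
    refine mul_le_mul_of_nonneg_left (le_trans (le_of_eq ?_) (Finset.sum_le_sum_of_subset_of_nonneg
      (s := fs ((𝐇(M) : Set G) \ ↑⁅𝐇(M), 𝐇(M)⁆)) (fs_subset_fs.2 fun y hy => MF_le M hy.1)
      fun _ _ _ => sq_nonneg _)) (by positivity)
    have h2 := sum_fs_diff (M := ℝ) (SetLike.coe_subset_coe.2 (der_le 𝐇(M))) fun _ => (n : ℝ) ^ 2
    simp only [Finset.sum_const, card_fs_subgroup, nsmul_eq_mul] at h2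
    rw [sum_fs_congr (g := fun _ => (n : ℝ) ^ 2) fun y hy => by
      rw [h15 y (hsh y hy), hconst y hy, hn, Complex.norm_intCast, sq_abs]]
    simp only [Finset.sum_const, nsmul_eq_mul]
    linarith
  rw [nρ, dψ.cfnorm_eq] at hle
  refine final_ineq_12 (n := n) he3' hh0 (card_pos_real ⁅𝐇(M), 𝐇(M)⁆) (k := Nat.card 𝐇(M)) ?_
    (card_pos_real M) ?_ (sq_le_of_dvd_sub hpn he (by omega)) (by simp at hle; linarith)
  · rw [← card_mul_relIndex' (der_le 𝐇(M)), mul_comm]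
    exact_mod_cast Nat.mul_le_mul_left _ hk
  · rw [← hsd.card]
    exact_mod_cast Nat.mul_le_mul_left _ (card_le_of_le (inf_comm L M ▸ hML))

end Cfsg.Lib.BG.Z.PF
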