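import Cfsg.Agent.Lib.PF.Sec13BridgeAux
import Cfsg.Agent.Lib.ZQ.Sec13Bound
import Cfsg.Agent.Lib.BG.T03_3
import Cfsg.Agent.Lib.BG.T03_9
import Cfsg.Agent.Lib.BG.T03_1
import Cfsg.Agent.Lib.BG.T01_Cyclic

/-!
# Group theory for Peterfalvi (13.16)-(13.18)
-/

set_option autoImplicit false
set_option linter.unusedVariables false

namespace Cfsg.Lib.BG.Z.PF.B13

open Subgroup
open Cfsg.Lib.PF
open Cfsg.Lib.PF.B13 (frob_sub frob_comm frob_inf_eq_bot)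
open Cfsg.Lib.Transfer (mem_conj conj_mem_conj conj_conj conj_sup conj_normalizer conj_mono
  inv_conj_conj conj_inv_conj card_conj conj_le_iff_le_inv_conj)
open scoped Cfsg.Lib.Transfer

variable {G : Type*} [Group G] [Finite G]

variable [Sz G] {S T L U V W₁ W₂ : Subgroup G}

section One

variable (h : FTP S U W₁ W₂)
include h

theorem p_prime : (Nat.card W₂).Prime := h.pcore_bot.prime

theorem q_prime : (Nat.card W₁).Prime := h.pcore_bot.q_prime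

theorem MF_abelian : IsMulCommutative 𝐇(S) := h.MF_elem.1

theorem MF_pgroup : IsPGroup (Nat.card W₂) 𝐇(S) :=
  haveI : Fact (Nat.card W₂).Prime := ⟨p_prime h⟩
  IsPGroup.of_card h.card_MF

theorem sharp_MF_subset : sharp 𝐇(S) ⊆ ftA0 S :=
  (sharp_MF_subset_typeA1 h.max).trans ((typeA1_subset_ftA h.max).trans (ftA_subset_ftA0 S))

theorem W₁_le : W₁ ≤ S := (TypeP.sd_der h.P).right_le

theorem U_le_der : U ≤ ⁅S, S⁆ := (TypeP.sd_core h.P).right_le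

theorem U_le : U ≤ S := (U_le_der h).trans (der_le S)

theorem W₁_cent_W₂ : W₁ ≤ 𝐂(W₂) :=
  cent_symm ((TypeP.cent_core h.P).ge.trans inf_le_right)

theorem coprime_U_W₁ : (Nat.card U).Coprime (Nat.card W₁) :=
  regular_norm_coprime h.frob_compl.sd.norm h.frob_compl.reg

theorem U_cent_bot : U ⊓ 𝐂(W₁) = ⊥ := h.frob_compl.reg.cent le_rfl h.frob_compl.compl_ne

theorem sup_eq : (𝐇(S) ⊔ W₁) ⊔ U = S := by
  rw [sup_assoc, sup_comm W₁ U]; exact (TypeP.sd_Fcore h.P).sup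

theorem sup_le : 𝐇(S) ⊔ W₁ ≤ S := _root_.sup_le (MF_le S) (W₁_le h)

theorem W₁_norm_MF : W₁ ≤ 𝐍(𝐇(S)) := (W₁_le h).trans (MF_nml S).norm

theorem der_inf_sup : ⁅S, S⁆ ⊓ (𝐇(S) ⊔ W₁) = 𝐇(S) := by
  rw [inf_comm, modular_left (TypeP.sd_core h.P).left_le (W₁_norm_MF h), inf_comm W₁,
    (TypeP.sd_der h.P).inf, sup_bot_eq]

theorem U_inf_sup : U ⊓ (𝐇(S) ⊔ W₁) = ⊥ := by
  rw [eq_bot_iff, ← (TypeP.sd_core h.P).inf]
  exact fun x hx => ⟨(der_inf_sup h).le ⟨U_le_der h hx.1, hx.2⟩, hx.1⟩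

theorem sd_MF_W₁ : SD 𝐇(S) W₁ (𝐇(S) ⊔ W₁) :=
  SD.of_norm (W₁_norm_MF h) (eq_bot_mono (TypeP.sd_der h.P).inf
    (inf_le_inf_right _ (TypeP.sd_core h.P).left_le))

theorem card_S : Nat.card S = Nat.card ↥(𝐇(S) ⊔ W₁) * Nat.card U := by
  rw [← (TypeP.sd_Fcore h.P).card, ← (sd_MF_W₁ h).card, ← (TypeP.sd_compl h.P).card]; ring

theorem relIndex_sup : (𝐇(S) ⊔ W₁).relIndex S = Nat.card U := by
  have := card_mul_relIndex (sup_le h)
  rw [card_S h] at this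
  exact Nat.eq_of_mul_eq_mul_left Nat.card_pos this

/-- Every element of `S` is `a u` with `a ∈ P W₁`, `u ∈ U`. -/
theorem exists_mul {s : G} (hs : s ∈ S) : ∃ a ∈ 𝐇(S) ⊔ W₁, ∃ u ∈ U, s = a * u := by
  obtain ⟨k, hk, y, hy, rfl⟩ := (TypeP.sd_Fcore h.P).mem hs
  obtain ⟨w, hw, u, hu, rfl⟩ := (TypeP.sd_compl h.P).mem' hy
  exact ⟨k * w, mul_mem_sup hk hw, u, hu, (mul_assoc _ _ _).symm⟩

/-- `P W₁ \ P` is a TI-subset of `S` with normalizer `P W₁`. -/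
theorem mem_of_conj_mem {s w : G} (hs : s ∈ S) (hw : w ∈ 𝐇(S) ⊔ W₁) (hw' : w ∉ 𝐇(S))
    (hc : s * w * s⁻¹ ∈ 𝐇(S) ⊔ W₁) : s ∈ 𝐇(S) ⊔ W₁ := by
  obtain ⟨a, ha, u, hu, rfl⟩ := exists_mul h hs
  obtain ⟨x, hx, y, hy, rfl⟩ := (sd_MF_W₁ h).mem hw
  have hy1 : y ≠ 1 := by rintro rfl; exact hw' (by simpa using hx)
  have h1 : u * (x * y) * u⁻¹ ∈ 𝐇(S) ⊔ W₁ := by
    have := mul_mem (mul_mem (inv_mem ha) hc) ha
    convert this using 1; group
  have h2 : u * x * u⁻¹ ∈ 𝐇(S) := conj_mem_of_norm ((MF_nml S).norm (U_le h hu)) hx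
  have h3 : u * y * u⁻¹ * y⁻¹ ∈ 𝐇(S) ⊔ W₁ := by
    have := mul_mem (mul_mem (inv_mem (mem_sup_left h2)) h1) (inv_mem (mem_sup_right hy))
    convert this using 1; group
  have h4 : u * y * u⁻¹ * y⁻¹ ∈ U := by
    have := mul_mem hu (conj_mem_of_norm (h.frob_compl.sd.norm hy) (inv_mem hu))
    convert this using 1; group
  have h5 : u * y * u⁻¹ * y⁻¹ = 1 := mem_bot.1 ((U_inf_sup h).le (mem_inf.2 ⟨h4, h3⟩))
  have h6 : u = 1 := mem_bot.1 ((h.frob_compl.reg y hy hy1).le (mem_inf.2 ⟨hu, mem_cent1.2 (by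
    rw [mul_inv_eq_one, mul_inv_eq_iff_eq_mul] at h5; exact h5)⟩))
  rw [h6, mul_one]; exact ha

theorem norm_W₂_le : 𝐍(W₂) ≤ S := by
  intro g hg
  obtain ⟨x, hx, hx1⟩ := exists_ne_one (ne_bot_of_prime (p_prime h))
  refine (h.normedTI_ftA0.conj_mem_iff x (sharp_MF_subset h ⟨TypeP.W₂_le h.P hx, hx1⟩) g
    (mem_top g)).1 (sharp_MF_subset h ⟨TypeP.W₂_le h.P (conj_mem_of_norm hg hx), ?_⟩)
  simpa [mul_inv_eq_iff_eq_mul] using hx1

theorem U_inf_norm_W₂ : U ⊓ 𝐍(W₂) = ⊥ := by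
  by_contra h1
  set K := U ⊓ 𝐍(W₂) with hK
  have hn : W₁ ≤ 𝐍(K) := norm_inf h.frob_compl.sd.norm (norm_norm (norm_of_cent (W₁_cent_W₂ h)))
  have hF := frob_sub h.frob_compl (K := K) inf_le_left hn h1
  have hs : Group.IsSolvable K := sub_mmax_sol h.max (inf_le_left.trans (U_le h))
  have hc : K ≤ 𝐂(W₂) := by
    rw [← frob_comm hF hs]
    exact (comm_le_der inf_le_right (norm_of_cent (W₁_cent_W₂ h))).trans
      (der1_cent_cyclic (cyclic_of_prime (p_prime h)) le_rfl)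
  have hle : K ⊔ W₁ ≤ U ⊔ W₁ := sup_le_sup_right inf_le_left _
  have hW := Frobenius_Wielandt_fixpoint (V := 𝐇(S)) hF
    (hle.trans (TypeP.sd_Fcore h.P).norm) (coprime_mono (TypeP.coprime_Fcore h.P) le_rfl hle)
    (nil_sol (MF_nil S))
  have e : 𝐇(S) ⊓ 𝐂(K ⊔ W₁) = 𝐇(S) ⊓ 𝐂(W₁) := by
    refine le_antisymm (inf_le_inf_left _ (cent_anti le_sup_right)) ?_
    rw [TypeP.cent_core h.P]
    exact le_inf (TypeP.W₂_le h.P) (le_cent_sup (cent_symm hc) (cent_symm (W₁_cent_W₂ h)))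
  rw [e] at hW
  have e2 := Nat.eq_of_mul_eq_mul_left (pow_pos Nat.card_pos _) hW
  have e3 : 𝐇(S) ⊓ 𝐂(K) = 𝐇(S) := eq_of_le_of_card_le inf_le_left e2.le
  exact h1 (eq_bot_mono h.cent_eq_bot (le_inf inf_le_left (cent_symm (e3.ge.trans inf_le_right))))

theorem norm_W₂ : 𝐍(W₂) = 𝐇(S) ⊔ W₁ ∧ 𝐂(W₂) = 𝐇(S) ⊔ W₁ := by
  have h1 : 𝐇(S) ⊔ W₁ ≤ 𝐂(W₂) :=
    _root_.sup_le (abelian_cent' (MF_abelian h) le_rfl (TypeP.W₂_le h.P)) (W₁_cent_W₂ h)
  have h2 : 𝐍(W₂) ≤ 𝐇(S) ⊔ W₁ := by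
    intro g hg
    obtain ⟨a, ha, u, hu, rfl⟩ := exists_mul h (norm_W₂_le h hg)
    have : u ∈ 𝐍(W₂) := by
      simpa using mul_mem (inv_mem (cent_le_norm W₂ (h1 ha))) hg
    rw [mem_bot.1 ((U_inf_norm_W₂ h).le (mem_inf.2 ⟨hu, this⟩)), mul_one]
    exact ha
  exact ⟨le_antisymm h2 (h1.trans (cent_le_norm _)), le_antisymm ((cent_le_norm _).trans h2) h1⟩

theorem hall_U : Hall {r | r ∣ Nat.card U} U S := by
  refine Hall.of_coprime (U_le h) ?_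
  have e : U.relIndex S = Nat.card 𝐇(S) * Nat.card W₁ := by
    have := card_mul_relIndex (U_le h)
    rw [card_S h, ← (sd_MF_W₁ h).card, mul_comm _ (Nat.card U)] at this
    exact Nat.eq_of_mul_eq_mul_left Nat.card_pos this
  rw [e]
  exact Nat.Coprime.mul_right
    (coprime_mono (TypeP.coprime_Fcore h.P) le_rfl le_sup_left).symm (coprime_U_W₁ h)

theorem W₁_norm_U : U ⊔ W₁ ≤ 𝐍(U) := sup_le_norm_left h.frob_compl.sd.norm

theorem comm_U_W₁ : ⁅U, W₁⁆ = U := frob_comm h.frob_compl (sub_mmax_sol h.max (U_le h))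

theorem not_cj_of_typeII (h2 : IsOfTypeII S) (hU : 𝐍(U) ≤ L) (hD : PiGrp (DD G) U) : ¬ Cj S L := by
  rintro ⟨g, rfl⟩
  have h1 : g⁻¹ ⋆ U ≤ S := by
    rw [conj_le_iff_le_inv_conj, inv_inv]; exact (le_norm U).trans hU
  have hH : Hall {r | r ∣ Nat.card U} (g⁻¹ ⋆ U) S :=
    (hall_U h).of_card_le h1 ((hall_U h).pi.conj _) (card_conj _ _).ge
  obtain ⟨s, hs, e⟩ := (hall_U h).exists_conj_eq hH (mmax_sol h.max)
  refine (h.typeII h2).2.2.1 ?_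
  have h3 : g⁻¹ ⋆ 𝐍(U) ≤ S := by rw [conj_le_iff_le_inv_conj, inv_inv]; exact hU
  rw [conj_normalizer, e, ← conj_normalizer, conj_le_iff_le_inv_conj,
    conj_eq_of_mem (inv_mem hs)] at h3
  exact ⟨h3, hD⟩

end One

theorem not_cj_right (h : FTPair S T U V W₁ W₂) (hU : 𝐍(U) ≤ L) : ¬ Cj T L := by
  rintro ⟨g, rfl⟩
  haveI : Fact (Nat.card W₁).Prime := ⟨q_prime h.left⟩
  have hUW := (W₁_norm_U h.left).trans hU
  have hq : IsPGroup (Nat.card W₁) 𝐇(g ⋆ T) := by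
    rw [← conj_MF, pgroup_conj]; exact MF_pgroup h.right
  have hne : 𝐇(g ⋆ T) ≠ ⊥ := max_MF_ne_bot (mmax_conj h.right.max g)
  have h1 : W₁ ≤ 𝐇(g ⋆ T) := by
    refine le_MF_of_coprime (le_sup_right.trans hUW) ?_
    exact (MF_coprime (g ⋆ T)).coprime_dvd_left (pgroup_dvd_card hq hne)
  have h2 : U ≤ 𝐇(g ⋆ T) := by
    rw [← comm_U_W₁ h.left]
    exact (commutator_mono (le_sup_left.trans hUW) h1).trans ((MF_nml _).comm_le' le_rfl)
  have h3 := pgroup_dvd_card (pgroup_of_le hq h2) h.left.frob_compl.ker_ne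
  exact (q_prime h.left).one_lt.ne' (Nat.eq_one_of_dvd_coprimes (coprime_U_W₁ h.left) h3 dvd_rfl)

theorem typeII_support_facts (h : FTPair S T U V W₁ W₂) (h2 : IsOfTypeII S)
    (hL : Mx L) (hU : 𝐍(U) ≤ L) (hD : PiGrp (DD G) U) : TypeI L ∧ U ≤ 𝐇(L) ∧
      (SD 𝐇(L) W₁ L ∨ ∃ y ∈ 𝐇(T), SD 𝐇(L) (W₁ ⊔ y ⋆ W₂) L) := by
  have hI : TypeI L := ((h.cover L hL).resolve_right fun h' =>
    h'.elim (not_cj_of_typeII h.left h2 hU hD) (not_cj_right h hU))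
  have hF := frobKer_of_typeI hL hI
  have hUW := (W₁_norm_U h.left).trans hU
  have hFr := h.left.frob_compl
  have hUH : U ≤ 𝐇(L) := by
    by_cases h0 : 𝐇(L) ⊓ U = ⊥
    · have h1 : 𝐇(L) ⊓ (U ⊔ W₁) = ⊥ := frob_inf_eq_bot hFr (hUW.trans (MF_nml L).norm) h0
      have hr := hF.semiReg hUW h1
      have hc := regular_norm_coprime (hUW.trans (MF_nml L).norm) hr
      refine absurd (hr.cent le_sup_right hFr.compl_ne) (Frobenius_cent_compl hFr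
        (hUW.trans (MF_nml L).norm) (coprime_mono hc le_rfl le_sup_left) (nil_sol (MF_nil L))
        (coprime_mono hc le_rfl le_sup_right) fun hc => hF.ne_bot ?_)
      exact eq_bot_mono (hr.cent le_sup_left hFr.ker_ne) (le_inf le_rfl (cent_symm hc))
    · obtain ⟨x, hx, hx1⟩ := exists_ne_one h0
      exact fun u hu => hF.cent x hx.1 hx1 u (hUW (mem_sup_left hu))
        (le_cent_iff.1 (abelian_cent h.left.U_abelian) u hu x hx.2)
  refine ⟨hI, hUH, ?_⟩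
  have hq := q_prime h.left
  have hp := p_prime h.left
  have hW₁ : 𝐇(L) ⊓ W₁ = ⊥ := by
    rw [inf_comm]
    refine inf_eq_bot_of_prime hq fun hle => hFr.ker_ne ?_
    exact eq_bot_mono (U_cent_bot h.left)
      (le_inf le_rfl (nil_cent_of_coprime (MF_nil L) hUH hle (coprime_U_W₁ h.left)))
  have hW₁L : W₁ ≤ L := le_sup_right.trans hUW
  have hH : Hall {r | r ∣ Nat.card 𝐇(L)} 𝐇(L) L := Hall.of_coprime (MF_le L) (MF_coprime L)
  have hc := regular_norm_coprime (hW₁L.trans (MF_nml L).norm) (hF.semiReg hW₁L hW₁)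
  obtain ⟨E, hE, hWE⟩ := Hall.exists_ge (π := {r | r ∣ Nat.card 𝐇(L)}ᶜ) (mmax_sol hL) hW₁L
    (PiNat.of_coprime hc.symm)
  have hsd := hH.sd (MF_nml L).norm hE
  have hr := hF.semiReg hE.le hsd.inf
  have hEN : E ≤ 𝐇(T) ⊔ W₂ := by
    rw [← (norm_W₂ h.right).1]
    exact (odd_regular_prime_normal (mFT_odd E) hF.ne_bot hsd.norm hr hWE hq).norm
  haveI : Fact (Nat.card W₁).Prime := ⟨hq⟩
  haveI : Fact (Nat.card W₂).Prime := ⟨hp⟩
  have hQE : 𝐇(T) ⊓ E = W₁ := by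
    have hcyc : IsCyclic ↥(𝐇(T) ⊓ E) :=
      regular_abelian_cyclic (abelian_of_le (MF_abelian h.right) inf_le_left) hF.ne_bot
        (inf_le_right.trans hsd.norm) fun x hx => hr x hx.2
    obtain ⟨x, hx, e⟩ := cyclic_iff.1 hcyc
    refine (eq_of_le_of_card_le (le_inf (TypeP.W₂_le h.right.P) hWE) ?_).symm
    rw [← e, Nat.card_zpowers]
    exact Nat.le_of_dvd hq.pos (orderOf_dvd_of_pow_eq_one (h.right.MF_elem.2 x hx.1))
  have hsT := sd_MF_W₁ h.right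
  by_cases hd : Nat.card W₂ ∣ Nat.card E
  · obtain ⟨X, hXE, hX⟩ := exists_card_eq_prime hp hd
    have hSyl : Syl (Nat.card W₂) W₂ (𝐇(T) ⊔ W₂) := by
      refine Syl.mk' le_sup_right (IsPGroup.of_card (pow_one _).symm) ?_
      rw [hsT.relIndex_right, h.right.card_MF]
      intro h'
      exact h.left.cycTI.card_ne
        ((Nat.prime_dvd_prime_iff_eq hp hq).1 (hp.dvd_of_dvd_pow h')).symm
    obtain ⟨y, hy, hXy⟩ := hSyl.exists_le_conj (IsPGroup.of_card (hX.trans (pow_one _).symm))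
      (hXE.trans hEN)
    obtain ⟨k, hk, w, hw, rfl⟩ := hsT.mem hy
    rw [← conj_conj, conj_eq_of_mem hw] at hXy
    have e : X = k ⋆ W₂ := eq_of_le_of_card_le hXy (by rw [card_conj, hX])
    refine Or.inr ⟨k, hk, ?_⟩
    have e2 : 𝐇(T) ⊔ X = 𝐇(T) ⊔ W₂ := by
      rw [e, ← conj_eq_of_mem (mem_sup_left hk : k ∈ 𝐇(T) ⊔ W₂), conj_sup, conj_eq_of_mem hk]
    have e3 : E = W₁ ⊔ X := by
      rw [← hQE, ← modular_right hXE ((hXE.trans hEN).trans hsT.nml.norm), e2]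
      exact (inf_eq_right.2 hEN).symm
    rw [← e, ← e3]; exact hsd
  · left
    have hE' : E ≤ 𝐇(T) := by
      have h1 := relIndex_dvd_of_norm hEN hsT.nml.norm
      rw [hsT.relIndex_left] at h1
      rcases (Nat.dvd_prime hp).1 h1 with h1 | h1
      · exact relIndex_eq_one.1 h1
      · exact absurd (h1 ▸ BG.relIndex_dvd_card 𝐇(T) E) hd
    rw [← hQE, inf_eq_right.2 hE']; exact hsd

end Cfsg.Lib.BG.Z.PF.B13
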