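import Cfsg.Agent.Lib.PF.Sec13Bridge
import Cfsg.Agent.Lib.ZQ.Sec13BridgeAux

/-!
# Peterfalvi (13.16)-(13.19)
-/

set_option autoImplicit false
set_option linter.unusedVariables false

namespace Cfsg.Lib.BG.Z.PF

open Subgroup
open Cfsg.Lib.PF
open scoped Cfsg.Lib.Transfer ComplexConjugate

variable {G : Type*} [Group G] [Finite G] [Sz G] {S T L U V W₁ W₂ : Subgroup G} {φ : G → ℂ}
  {τ₁ : (G → ℂ) →ₗ[ℂ] (G → ℂ)} {j : LChar W₂}

/-- Peterfalvi (13.16), with `S` and `T` interchanged. -/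
theorem FTP.norm_W₂ (h : FTP S U W₁ W₂) : 𝐍(W₂) = 𝐇(S) ⊔ W₁ ∧ 𝐂(W₂) = 𝐇(S) ⊔ W₁ :=
  B13.norm_W₂ h

/-- Peterfalvi (13.17). -/
theorem FTPair.typeII_support_facts (h : FTPair S T U V W₁ W₂) (h2 : IsOfTypeII S)
    (hL : Mx L) (hU : 𝐍(U) ≤ L) (hD : PiGrp (DD G) U) : TypeI L ∧ U ≤ 𝐇(L) ∧
      (SD 𝐇(L) W₁ L ∨ ∃ y ∈ 𝐇(T), SD 𝐇(L) (W₁ ⊔ y ⋆ W₂) L) :=
  B13.typeII_support_facts h h2 hL hU hD

namespace FTP

open Cfsg.Lib.PF.B13 (orderOf_conj')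

variable (h : FTP S U W₁ W₂)
include h

/-- Peterfalvi (13.19)(a). -/
theorem disjoint_typeI (hL : Mx L) (h1 : TypeI L) : Disjoint (ftSupp L (sharp 𝐇(L)))
    (classSupp (𝐇(S) : Set G) ⊤ ∪ classSupp (W₁ ⊔ W₂ : Subgroup G) ⊤) := by
  obtain ⟨T, V, hp⟩ := h.exists_pair
  have key : ∀ {M U' W W' : Subgroup G}, FTP M U' W W' →
      (Nat.card 𝐇(L)).Coprime (Nat.card W') := by
    intro M U' W W' hM
    refine coprime_mono (coprime_typeCore hL hM.max ?_) (MF_le_typeCore hL)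
      ((TypeP.W₂_le hM.P).trans (MF_le_typeCore hM.max))
    rintro ⟨g, rfl⟩
    exact hM.not_typeI ((typeI_conj g).2 h1)
  have hc : (Nat.card 𝐇(L)).Coprime (Nat.card W₁ * Nat.card W₂) :=
    Nat.Coprime.mul_right (key hp.right) (key h)
  rw [Set.disjoint_left]
  rintro g ⟨a, ha, u, hu, x, e⟩ hg
  have h2 : orderOf g ∣ Nat.card W₁ * Nat.card W₂ := by
    rcases hg with ⟨b, hb, y, -, rfl⟩ | ⟨b, hb, y, -, rfl⟩
    · rw [orderOf_conj']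
      exact (orderOf_dvd_of_pow_eq_one (h.MF_elem.2 b hb)).mul_left _
    · rw [orderOf_conj', ← h.cycTI.card_sup]
      exact orderOf_dvd_natCard _ hb
  have h3 := Dade.orderOf_dvd (ftDadeF_hyp hL) ha hu
  rw [← e, orderOf_conj'] at h3
  exact ha.2 (orderOf_eq_one_iff.1
    (Nat.eq_one_of_dvd_coprimes hc (orderOf_dvd_natCard _ ha.1) (h3.trans h2)))

theorem ftDadeF_apply_eq_zero (hL : Mx L) (h1 : TypeI L) (α : G → ℂ) {g : G}
    (hg : g ∈ classSupp (𝐇(S) : Set G) ⊤ ∪ classSupp (W₁ ⊔ W₂ : Subgroup G) ⊤) :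
    ftDadeF L α g = 0 :=
  Dade.apply_of_not_mem L α (Set.disjoint_right.1 (h.disjoint_typeI hL h1) hg)

/-- Peterfalvi (13.19)(b). -/
theorem cfdot_typeI_eta (hL : RefI L τ₁ φ) {ξ : G → ℂ} (hξ : ξ ∈ seqIndD 𝐇(L) L 𝐇(L) ⊥)
    (i : LChar W₁) (j : LChar W₂) : cfdot ⊤ (τ₁ ξ) (eta ⊤ W₁ W₂ i j) = 0 := by
  have hT := h.cycTI
  have hirr := frob_seqInd_subset (frobKer_of_typeI hL.max hL.typeI)
  have hξ' := SeqInd.star_mem hξ
  have d1 := hL.coh.isDirr hξ (hirr hξ)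
  have d2 := hL.coh.isDirr hξ' (hirr hξ')
  have ho : cfdot ⊤ (τ₁ ξ) (τ₁ (star ξ)) = 0 := by
    rw [hL.coh.iso _ hξ _ hξ',
      SeqInd.cfdot_star (MF_le L) (MF_nml L).norm (mFT_odd L hL.max.loc) le_rfl hξ]
  have e := hL.coh.map_sub (mem_ZS_of_mem hξ) (mem_ZS_of_mem hξ')
    (Irr.isChar (hirr hξ)).conj_apply_one.symm
  rw [map_sub] at e
  have h0 := hT.cfdot_eta_eq_zero_of_cycNC_lt i j (sub_mem d1.mem_CF d2.mem_CF) (fun v hv => by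
    rw [e]
    exact h.ftDadeF_apply_eq_zero hL.max hL.typeI _ (Or.inr ⟨v, hv.1, 1, mem_top _, by group⟩))
    (lt_of_le_of_lt ((CycTI.cycNC_sub_le _ _ _ _ _).trans
      (add_le_add (hT.cycNC_dirr_le d1) (hT.cycNC_dirr_le d2)))
      (lt_min (hT.three_le₁) (hT.three_le₂)))
  rw [cfdot_sub_left, sub_eq_zero] at h0
  have hη := hT.cfdot_eta_self i j
  rcases d1.eq_or_neg_or_orth (hT.eta_isDirr i j) with e1 | e1 | e1
  · rw [e1] at ho h0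
    rw [cfdot_symm_zero ho, hη] at h0
    exact absurd h0 one_ne_zero
  · rw [e1, cfdot_neg_left, neg_eq_zero] at ho
    rw [e1, cfdot_symm_zero ho, cfdot_neg_left, hη, neg_eq_zero] at h0
    exact absurd h0 one_ne_zero
  · exact e1

end FTP

end Cfsg.Lib.BG.Z.PF
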