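import Cfsg.Agent.Lib.PF.Sec13Sum
import Cfsg.Agent.Lib.ZQ.Sec13Facts

/-!
# Peterfalvi (13.5)-(13.8): lower bounds for sums over `H^#`, `H = 𝐅(S)`
-/

set_option autoImplicit false
set_option linter.unusedVariables false

namespace Cfsg.Lib.BG.Z.PF

open Subgroup
open Cfsg.Lib.PF
open scoped Cfsg.Lib.Transfer

section General

variable {X : Type*} [Group X] [Finite X]

end General

variable {G : Type*} [Group G] [Finite G] [Sz G] {S U W₁ W₂ : Subgroup G} {ζ χ : G → ℂ}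
  {τ₁ : (G → ℂ) →ₗ[ℂ] (G → ℂ)}

namespace FTP

variable (h : FTP S U W₁ W₂)
include h

theorem mem_ZS_of_mem_Fitting (hζ : ζ ∈ seqIndD 𝐅(S) S 𝐇(S) ⊥) :
    ζ ∈ ZS (seqIndD ⁅S, S⁆ S 𝐇(S) ⊥) := by
  obtain ⟨θ, hθ, -, hk, rfl⟩ := mem_seqIndD.1 hζ
  have hF := h.Fitting_le_der
  have hZ : ind 𝐅(S) ⁅S, S⁆ θ ∈ ZI ⁅S, S⁆ := ZI.ind_mem hF (Irr.mem_ZI hθ)
  rw [← ind_ind hF (Nml.der_self S).le, ZI.eq_sum_zdot hZ, map_sum]
  refine Submodule.sum_mem _ fun ξ hξ => ?_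
  rw [map_zsmul]
  by_cases h0 : zdot ⁅S, S⁆ (ind 𝐅(S) ⁅S, S⁆ θ) ξ = 0
  · rw [h0, zero_smul]; exact zero_mem _
  refine Submodule.smul_mem _ _ (mem_ZS_of_mem (SeqInd.ind_mem hξ bot_le fun hk' => hk ?_))
  refine (Irr.isChar hξ).le_cfker_of_res hF (MF_le_Fitting S) hk' hθ fun e => h0 ?_
  apply zdot_of_orth
  rw [cfdot_ind_left hF θ (Irr.mem_CF hξ)]
  exact cfdot_symm_zero e

theorem Fitting_comm : ∀ a ∈ 𝐅(S), ∀ b ∈ 𝐅(S), a * b = b * a := fun a ha b hb =>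
  congrArg Subtype.val (h.Fitting_abelian.is_comm.comm (⟨a, ha⟩ : 𝐅(S)) ⟨b, hb⟩)

theorem apply_one_of_mem_Fitting (hζ : ζ ∈ seqIndD 𝐅(S) S 𝐇(S) ⊥) : ζ 1 = 𝐅(S).relIndex S :=
  SeqInd.apply_one_of_commutator_le (Fitting_le S) (abelian_iff_der.1 h.Fitting_abelian).le hζ

theorem map_sub_of_mem_Fitting
    (hc : CoherentWith S ⊤ (seqIndD ⁅S, S⁆ S 𝐇(S) ⊥) (ftDade S) τ₁) {ξ : G → ℂ}
    (hξ : ξ ∈ seqIndD 𝐅(S) S 𝐇(S) ⊥) (hζ : ζ ∈ seqIndD 𝐅(S) S 𝐇(S) ⊥) :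
    τ₁ ξ - τ₁ ζ = ind S ⊤ (ξ - ζ) := by
  have h1 : ξ 1 = ζ 1 := by rw [h.apply_one_of_mem_Fitting hξ, h.apply_one_of_mem_Fitting hζ]
  rw [← map_sub, hc.map_sub (h.mem_ZS_of_mem_Fitting hξ) (h.mem_ZS_of_mem_Fitting hζ) h1]
  exact h.ftDade_eq_ind (CFon.mono h.sharp_Fitting_subset_ftA0
    (SeqInd.Z0_mem_CFon (Fitting_nml S).norm subset_rfl
      (sub_mem_Z0 (mem_ZS_of_mem hξ) (mem_ZS_of_mem hζ) h1)))

theorem cfdot_map_Fitting (hc : CoherentWith S ⊤ (seqIndD ⁅S, S⁆ S 𝐇(S) ⊥) (ftDade S) τ₁)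
    {ξ : G → ℂ} (hξ : ξ ∈ seqIndD 𝐅(S) S 𝐇(S) ⊥) (hζ : ζ ∈ seqIndD 𝐅(S) S 𝐇(S) ⊥) (hne : ξ ≠ ζ) :
    cfdot ⊤ (τ₁ ξ) (τ₁ ζ) = 0 := by
  rw [hc.cfdot_map (h.mem_ZS_of_mem_Fitting hξ) (h.mem_ZS_of_mem_Fitting hζ)]
  exact SeqInd.orth (Fitting_le S) (Fitting_nml S).norm hξ hζ hne

open Classical in
/-- Peterfalvi (13.5); `b` is `α(1)`, the value of `α` on `P`. -/
theorem split_Fitting (hc : CoherentWith S ⊤ (seqIndD ⁅S, S⁆ S 𝐇(S) ⊥) (ftDade S) τ₁)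
    (hζ : ζ ∈ seqIndD 𝐅(S) S 𝐇(S) ⊥) (hχ : χ ∈ ZI ⊤)
    (ho : ∀ ξ ∈ seqIndD 𝐅(S) S 𝐇(S) ⊥, ξ ≠ ζ → cfdot ⊤ (τ₁ ξ) χ = 0) {a : ℤ}
    (ha : cfdot ⊤ (τ₁ ζ) χ = a) :
    ∃ (α : G → ℂ) (b : ℤ), α ∈ ZI 𝐅(S) ∧ (∀ θ ∈ Irr 𝐅(S), ¬ 𝐇(S) ≤ cfker θ → cfdot 𝐅(S) α θ = 0) ∧
      (∀ x ∈ 𝐇(S), α x = b) ∧
      (∀ x ∈ sharp 𝐅(S), χ x = a / cfdot S ζ ζ * ζ x + α x) ∧
      ∑ x ∈ fs (sharp 𝐅(S)), ‖χ x‖ ^ 2 =
        (a : ℝ) ^ 2 / cfnorm S ζ * (Nat.card S - (deg ζ : ℝ) ^ 2 / cfnorm S ζ) -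
          2 * a * (deg ζ * b / cfnorm S ζ) + ∑ x ∈ fs (sharp 𝐅(S)), ‖α x‖ ^ 2 ∧
      ((Nat.card 𝐇(S) : ℝ) - 1) * (b : ℝ) ^ 2 ≤ ∑ x ∈ fs (sharp 𝐅(S)), ‖α x‖ ^ 2 := by
  have hHS := Fitting_le S
  have hn := (Fitting_nml S).norm
  obtain ⟨θ₁, hθ₁, -, hk₁, hζe⟩ := mem_seqIndD.1 hζ
  have hχC := ZI.mem_CF hχ
  have hψ : res 𝐅(S) χ ∈ ZI 𝐅(S) := ZI.res_mem le_top hχ
  have hcl : cfclass S θ₁ ⊆ Irr 𝐅(S) := cfclass_subset_Irr hn hθ₁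
  obtain ⟨c, hcd⟩ := ZI.exists_cfdot_int (Irr.mem_ZI hθ₁) hψ
  rw [cfdot_res_right] at hcd
  -- the multiplicities in `χ` of the characters that are not trivial on `P`
  have hmul : ∀ θ ∈ Irr 𝐅(S), ¬ 𝐇(S) ≤ cfker θ →
      cfdot 𝐅(S) θ χ = c - a + if θ ∈ cfclass S θ₁ then (a : ℂ) else 0 := by
    intro θ hθ hk
    rw [← cfdot_ind_left_of_le₂ hHS le_top θ hχC]
    rw [← cfdot_ind_left_of_le₂ hHS le_top θ₁ hχC, hζe] at hcd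
    split_ifs with hm
    · rw [← (ind_eq_ind_iff hHS hn hθ₁ hθ).2 hm, hζe, hcd]; ring
    · have hξ := SeqInd.ind_mem (L := S) hθ bot_le hk
      have hne : ind 𝐅(S) S θ ≠ ζ := fun e => hm ((ind_eq_ind_iff hHS hn hθ₁ hθ).1 (hζe.trans e.symm))
      have := congrArg (fun φ => cfdot ⊤ φ χ) (h.map_sub_of_mem_Fitting hc hξ hζ)
      simp only [cfdot_sub_left, ho _ hξ hne, ha, cfdot_ind_left le_top _ hχC, hcd] at this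
      linear_combination -this
  set α : G → ℂ := res 𝐅(S) χ - (c - a) • ∑ θ ∈ Irr 𝐅(S), θ - a • ∑ θ ∈ cfclass S θ₁, θ with hα
  have hαZ : α ∈ ZI 𝐅(S) :=
    sub_mem (sub_mem hψ (Submodule.smul_mem _ _ (Submodule.sum_mem _ fun θ hθ => Irr.mem_ZI hθ)))
      (Submodule.smul_mem _ _ (Submodule.sum_mem _ fun θ hθ => Irr.mem_ZI (hcl hθ)))
  have hαo : ∀ θ ∈ Irr 𝐅(S), ¬ 𝐇(S) ≤ cfker θ → cfdot 𝐅(S) α θ = 0 := by
    intro θ hθ hk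
    apply cfdot_symm_zero
    have e1 : ∀ E : Finset (G → ℂ), E ⊆ Irr 𝐅(S) →
        cfdot 𝐅(S) θ (∑ φ ∈ E, φ) = if θ ∈ E then 1 else 0 := fun E hE => by
      rw [cfdot_sum_right, Finset.sum_congr rfl fun φ hφ => Irr.cfdot_ite hθ (hE hφ),
        Finset.sum_ite_eq]
    rw [hα, cfdot_sub_right, cfdot_sub_right, cfdot_res_right, cfdot_zsmul_right, cfdot_zsmul_right,
      e1 _ subset_rfl, e1 _ hcl, hmul θ hθ hk, if_pos hθ]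
    split_ifs <;> push_cast <;> ring
  obtain ⟨b, hb⟩ := ZI.exists_apply_one hαZ
  have hαP : ∀ x ∈ 𝐇(S), α x = b := by
    intro x hx
    rw [← hb, CF.apply_eq_sum_Irr (ZI.mem_CF hαZ) x, CF.apply_eq_sum_Irr (ZI.mem_CF hαZ) 1]
    refine Finset.sum_congr rfl fun θ hθ => ?_
    by_cases hk : 𝐇(S) ≤ cfker θ
    · rw [cfker_apply (hk hx)]
    · rw [hαo θ hθ hk, zero_mul, zero_mul]
  have hN0 : cfdot S ζ ζ ≠ 0 := SeqInd.cfdot_self_ne_zero hHS hζ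
  have hζs : ζ = cfdot S ζ ζ • ∑ θ ∈ cfclass S θ₁, θ := by
    rw [← hζe, cfdot_ind_self hHS hn hθ₁]
    exact ind_eq_smul_sum_cfclass hHS hn (Irr.mem_CF hθ₁)
  have hval : ∀ x ∈ sharp 𝐅(S), χ x = a / cfdot S ζ ζ * ζ x + α x := by
    intro x hx
    have e1 := congrFun hζs x
    rw [Pi.smul_apply, smul_eq_mul] at e1
    have e2 : α x = χ x - a * (∑ θ ∈ cfclass S θ₁, θ) x := by
      rw [hα, Pi.sub_apply, Pi.sub_apply, Pi.smul_apply, Pi.smul_apply, res_of_mem _ hx.1,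
        Finset.sum_apply x (Irr 𝐅(S)), sum_Irr_apply_eq_zero_of_comm h.Fitting_comm hx.2, smul_zero,
        sub_zero, zsmul_eq_mul]
    rw [e2, e1]
    field_simp
    ring
  have horth : cfdot 𝐅(S) ζ α = 0 := by
    apply cfdot_symm_zero
    rw [hζs, cfdot_smul_right, cfdot_sum_right, Finset.sum_eq_zero, mul_zero]
    intro θ hθ
    refine hαo θ (hcl hθ) ?_
    obtain ⟨g, hg, rfl⟩ := mem_cfclass.1 hθ
    rwa [le_cfker_cfConj_iff ((MF_nml S).norm hg)]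
  have hNpos : 0 < cfnorm S ζ := SeqInd.cfnorm_pos hHS hζ
  have hζH : (Nat.card 𝐅(S) : ℝ) * cfnorm 𝐅(S) ζ = Nat.card S * cfnorm S ζ := by
    rw [card_mul_cfnorm, card_mul_cfnorm]
    refine (sum_fs_subset hHS fun x _ hx => ?_).symm
    rw [(mem_CFon.1 (SeqInd.mem_CFon hn hζ)).2 x hx, norm_zero, zero_pow two_ne_zero]
  refine ⟨α, b, hαZ, hαo, hαP, hval, ?_, ?_⟩
  · have e1 : ∑ x ∈ fs (sharp 𝐅(S)), ‖χ x‖ ^ 2 =
        ∑ x ∈ fs (sharp 𝐅(S)), ‖((((a / cfnorm S ζ : ℝ) : ℂ)) • ζ + α) x‖ ^ 2 :=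
      sum_fs_congr fun x hx => by
        rw [hval x hx, cfdot_self, Pi.add_apply, Pi.smul_apply, smul_eq_mul]; push_cast; rfl
    have e2 : ((((a / cfnorm S ζ : ℝ) : ℂ)) • ζ + α) 1 =
        ((a / cfnorm S ζ * deg ζ + b : ℝ) : ℂ) := by
      rw [Pi.add_apply, Pi.smul_apply, smul_eq_mul, hb, (SeqInd.isChar hHS hζ).apply_one]
      push_cast; rfl
    rw [e1, sum_sharp_norm_sq, sum_sharp_norm_sq, cfnorm_add_of_orth (by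
      rw [cfdot_smul_left, horth, mul_zero]), cfnorm_smul, e2, hb, mul_add, mul_left_comm, hζH,
      Complex.norm_real, Complex.norm_real, Complex.norm_intCast, Real.norm_eq_abs, Real.norm_eq_abs,
      sq_abs, sq_abs, sq_abs]
    field_simp
    ring
  · calc ((Nat.card 𝐇(S) : ℝ) - 1) * (b : ℝ) ^ 2 = ∑ x ∈ fs (sharp 𝐇(S)), ‖α x‖ ^ 2 := by
          rw [sum_sharp_norm_sq, card_mul_cfnorm, hb,
            sum_fs_congr (g := fun _ => (b : ℝ) ^ 2) fun x hx => by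
              rw [hαP x hx, Complex.norm_intCast, sq_abs],
            Finset.sum_const, card_fs_subgroup, Complex.norm_intCast, sq_abs, nsmul_eq_mul]
          ring
      _ ≤ _ := Finset.sum_le_sum_of_subset_of_nonneg
          (fs_subset_fs.2 (Set.sdiff_subset_sdiff_left (MF_le_Fitting S))) fun _ _ _ => by positivity

/-- The members of `calS₁` other than the `μ_j` have images orthogonal to the `η_ij`. -/
theorem cfdot_map_eta_of_ne_muj (hc : CoherentWith S ⊤ (seqIndD ⁅S, S⁆ S 𝐇(S) ⊥) (ftDade S) τ₁)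
    (hζ : ζ ∈ seqIndD 𝐅(S) S 𝐇(S) ⊥) (hne : ∀ j, j ≠ 1 → ζ ≠ muj S W₁ W₂ j) (i : LChar W₁)
    (j : LChar W₂) : cfdot ⊤ (τ₁ ζ) (eta ⊤ W₁ W₂ i j) = 0 := by
  have hd := Nml.der_self S
  rw [ZS.eq_sum_of_orth (H := S) (fun χ hχ ψ hψ => SeqInd.orth hd.le hd.norm hχ hψ)
    (fun χ hχ => SeqInd.cfdot_self_ne_zero hd.le hχ) (h.mem_ZS_of_mem_Fitting hζ), map_sum,
    cfdot_sum_left]
  refine Finset.sum_eq_zero fun χ hχ => ?_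
  rw [map_smul, cfdot_smul_left]
  rcases h.prDadeF.mem_Irr_or_eq_muj hχ with hi | ⟨k, hk, rfl⟩
  · rw [h.prDadeF.cfdot_map_eta (SeqInd.conjSub le_rfl le_rfl) hc hχ hi (h.star_ne_of_mem hχ),
      mul_zero]
  · rw [SeqInd.orth (Fitting_le S) (Fitting_nml S).norm hζ (h.muj_mem_Fitting hk) (hne k hk),
      zero_div, zero_mul]

theorem two_mul_u_le : 2 * ((U ⊓ 𝐂(𝐇(S))).relIndex U : ℝ) ≤ (Nat.card 𝐇(S) : ℝ) - 1 := by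
  have h1 := h.u_le
  have hp := h.three_le_p
  rw [Nat.le_div_iff_mul_le (by omega), ← h.card_MF] at h1
  have h2 : 0 < Nat.card 𝐇(S) := Nat.card_pos
  have h3 : (U ⊓ 𝐂(𝐇(S))).relIndex U * 2 ≤ (U ⊓ 𝐂(𝐇(S))).relIndex U * (Nat.card W₂ - 1) :=
    Nat.mul_le_mul_left _ (by omega)
  have h4 : 2 * (U ⊓ 𝐂(𝐇(S))).relIndex U + 1 ≤ Nat.card 𝐇(S) := by omega
  have h5 : (2 * (U ⊓ 𝐂(𝐇(S))).relIndex U + 1 : ℝ) ≤ Nat.card 𝐇(S) := by exact_mod_cast h4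
  linarith

theorem exists_W₁_W₂ : ∃ y ∈ W₁, ∃ x ∈ W₂, orderOf y = Nat.card W₁ ∧ x ≠ 1 ∧ y * x = x * y ∧
    y * x ∈ cycV W₁ W₂ ∧ y * x ∉ 𝐅(S) := by
  obtain ⟨⟨y, hy⟩, hy1⟩ := ne_bot_iff_exists_ne_one.1 h.cycTI.ne₁
  obtain ⟨⟨x, hx⟩, hx1⟩ := ne_bot_iff_exists_ne_one.1 h.cycTI.ne₂
  have hy1' : y ≠ 1 := fun e => hy1 (Subtype.ext e)
  have hx1' : x ≠ 1 := fun e => hx1 (Subtype.ext e)
  refine ⟨y, hy, x, hx, ?_, hx1', h.primeTI.comm₁₂ y hy x hx,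
    (h.cycTI.commProd.mul_mem_cycV hy hx).2 ⟨hy1', hx1'⟩, fun hm => hy1' ?_⟩
  · exact ((Nat.dvd_prime h.primes.1).1 (orderOf_dvd_card_of_mem hy)).resolve_left
      fun e => hy1' (orderOf_eq_one_iff.1 e)
  · exact h.primeTI.eq_one_of_mem hy
      ((Subgroup.mul_mem_cancel_right _ (h.primeTI.W₂_le hx)).1 (h.Fitting_le_der hm))

/-- Peterfalvi (13.6). -/
theorem sum_ind_Fitting_lb (hc : CoherentWith S ⊤ (seqIndD ⁅S, S⁆ S 𝐇(S) ⊥) (ftDade S) τ₁)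
    (hζ : ζ ∈ seqIndD ⁅S, S⁆ S 𝐇(S) ⊥) (hi : ζ ∈ Irr S) (hζ' : ζ ∈ seqIndD 𝐅(S) S 𝐇(S) ⊥) :
    (Nat.card S : ℝ) - (𝐅(S).relIndex S : ℝ) ^ 2 ≤ ∑ x ∈ fs (sharp 𝐅(S)), ‖τ₁ ζ x‖ ^ 2 := by
  have hZ := hc.mem_ZI ζ hζ
  obtain ⟨α, b, -, -, hb, hval, hsum, hle⟩ := h.split_Fitting hc hζ' hZ
    (fun ξ hξ hne => h.cfdot_map_Fitting hc hξ hζ' hne) (a := 1)
    (by rw [hc.iso ζ hζ ζ hζ, Irr.cfdot_self hi, Int.cast_one])
  obtain ⟨y, hy, x, hx, hyo, hx1, hyx, hV, hF⟩ := h.exists_W₁_W₂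
  have hxP := TypeP.W₂_le h.P hx
  obtain ⟨ω, hω, e⟩ := ZI.sub_eq_one_sub_mul hZ h.primes.1 (mem_top y) (mem_top x) hyo hyx
  obtain ⟨ω', hω', e'⟩ := ZI.sub_eq_one_sub_mul (Irr.mem_ZI hi) h.primes.1 (h.primeTI.W₁_le hy)
    (MF_le S hxP) hyo hyx
  rw [h.cycTI.eq_zero_of_orth_eta (ZI.mem_CF hZ) (fun i j => h.prDadeF.cfdot_map_eta
    (SeqInd.conjSub le_rfl le_rfl) hc hζ hi (h.star_ne_of_mem hζ) i j) _ hV,
    hval x ⟨MF_le_Fitting S hxP, hx1⟩, hb x hxP, Irr.cfdot_self hi] at e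
  rw [(mem_CFon.1 (SeqInd.mem_CFon (Fitting_nml S).norm hζ')).2 _ hF] at e'
  obtain ⟨n, rfl⟩ := prime_dvd_of_eq_one_sub_mul h.primes.1 (hω'.sub hω) (n := b)
    (by push_cast at e; linear_combination e' - e)
  rw [hsum, Irr.cfnorm_eq hi, deg_of_eq (h.apply_one_of_mem_Fitting hζ'), h.relIndex_Fitting]
  have h1 := h.two_mul_u_le
  have h2 := (int_le_sq n).1
  push_cast at hle ⊢
  have h3 : (0 : ℝ) ≤ (U ⊓ 𝐂(𝐇(S))).relIndex U := by positivity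
  have h4 : 2 * ((U ⊓ 𝐂(𝐇(S))).relIndex U : ℝ) * n ≤ ((Nat.card 𝐇(S) : ℝ) - 1) * (n : ℝ) ^ 2 :=
    (mul_le_mul_of_nonneg_left h2 (by positivity)).trans
      (mul_le_mul_of_nonneg_right h1 (by positivity))
  have h5 := mul_le_mul_of_nonneg_left h4 (sq_nonneg (Nat.card W₁ : ℝ))
  nlinarith

open Classical in
theorem cfdot_sum_eta (i : LChar W₁) (j k : LChar W₂) :
    cfdot ⊤ (∑ l, eta ⊤ W₁ W₂ l k) (eta ⊤ W₁ W₂ i j) = if k = j then 1 else 0 := by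
  rw [cfdot_sum_left]
  simp only [h.cycTI.cfdot_eta]
  split_ifs with e <;> simp [e]

/-- Peterfalvi (13.7). -/
theorem sum_eta10_lb {i : LChar W₁} (hi : i ≠ 1) :
    (Nat.card 𝐅(S) : ℝ) - 1 ≤ ∑ x ∈ fs (sharp 𝐅(S)), ‖eta ⊤ W₁ W₂ i 1 x‖ ^ 2 := by
  obtain ⟨τ₁, hc, hτ⟩ := h.exists_coherent_muj
  obtain ⟨k, hk, -⟩ := h.pcore_bot.exists_muj
  have ho : ∀ ξ ∈ seqIndD 𝐅(S) S 𝐇(S) ⊥, cfdot ⊤ (τ₁ ξ) (eta ⊤ W₁ W₂ i 1) = 0 := by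
    intro ξ hξ
    by_cases hne : ∀ j, j ≠ 1 → ξ ≠ muj S W₁ W₂ j
    · exact h.cfdot_map_eta_of_ne_muj hc hξ hne i 1
    push Not at hne
    obtain ⟨j, hj, rfl⟩ := hne
    rcases hτ j hj with e | e
    · rw [e, h.cfdot_sum_eta, if_neg hj]
    · rw [e, cfdot_neg_left, h.cfdot_sum_eta, if_neg (LChar.inv_ne_one' hj), neg_zero]
  have hZ := h.cycTI.eta_mem_ZI i 1
  obtain ⟨α, b, hα, -, hb, hval, hsum, hle⟩ := h.split_Fitting hc (h.muj_mem_Fitting hk) hZ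
    (fun ξ hξ _ => ho ξ hξ) (a := 0) (by rw [ho _ (h.muj_mem_Fitting hk), Int.cast_zero])
  have hb0 : b ≠ 0 := by
    rintro rfl
    obtain ⟨y, hy, x, hx, hyo, hx1, hyx, hV, -⟩ := h.exists_W₁_W₂
    have hxP := TypeP.W₂_le h.P hx
    obtain ⟨ω, hω, e⟩ := ZI.sub_eq_one_sub_mul hZ h.primes.1 (mem_top y) (mem_top x) hyo hyx
    obtain ⟨ω', hω', e'⟩ := ZI.sub_eq_one_sub_mul (Irr.mem_ZI (linChar_mem_Irr i)) h.primes.1 hy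
      W₁.one_mem hyo (by rw [mul_one, one_mul])
    rw [h.cycTI.eta_apply i 1 hV, h.cycTI.omega_mul i 1 hy hx, linChar_one, cf1_of_mem hx,
      hval x ⟨MF_le_Fitting S hxP, hx1⟩, hb x hxP] at e
    rw [mul_one, linChar_apply_one] at e'
    have := prime_dvd_of_eq_one_sub_mul h.primes.1 (hω.sub hω') (n := 1)
      (by push_cast at e ⊢; linear_combination e - e')
    have := Int.le_of_dvd one_pos this
    have := h.three_le_q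
    omega
  have hα1 : α 1 = b := hb 1 (one_mem _)
  rw [hsum]
  simp only [Int.cast_zero, mul_zero, zero_mul, zero_pow two_ne_zero, zero_div, sub_zero, zero_add]
  have hs := sum_sharp_norm_sq 𝐅(S) α
  obtain ⟨n, hn⟩ := ZI.exists_cfnorm_nat hα
  have hn1 := ZI.one_le_cfnorm hα fun e => hb0 (by
    rw [e, Pi.zero_apply] at hα1; exact_mod_cast hα1.symm)
  rw [hn] at hn1
  have hn1' : 1 ≤ n := by exact_mod_cast hn1
  rcases hn1'.eq_or_lt with rfl | hn2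
  · obtain ⟨ε, θ, hε, hθ, e⟩ := (ZI.isDirr_of_cfnorm hα (by rw [hn, Nat.cast_one])).exists_sign
    have : ‖α 1‖ = 1 := by
      rw [e, Pi.smul_apply, Irr.apply_one_of_comm hθ h.Fitting_comm]
      rcases hε with rfl | rfl <;> simp
    rw [hs, hn, this]
    simp
  · rw [hn, hα1, Complex.norm_intCast, sq_abs] at hs
    have h1 := h.two_mul_u_le
    have h2 : (1 : ℝ) ≤ (U ⊓ 𝐂(𝐇(S))).relIndex U := by exact_mod_cast relIndex_pos _ _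
    have h3 : (2 : ℝ) ≤ n := by exact_mod_cast hn2
    have h4 := card_pos_real 𝐅(S)
    have h5 := sq_nonneg (b : ℝ)
    nlinarith

/-- Peterfalvi (13.8). -/
theorem sum_eta01_lb {j : LChar W₂} (hj : j ≠ 1) :
    (Nat.card ↥⁅S, S⁆ : ℝ) - ((U ⊓ 𝐂(𝐇(S))).relIndex U : ℝ) ^ 2 ≤
      ∑ x ∈ fs (sharp 𝐅(S)), ‖eta ⊤ W₁ W₂ 1 j x‖ ^ 2 := by
  obtain ⟨τ₁, hc, hτ⟩ := h.exists_coherent_muj
  have hq0 := card_ne_zero W₁
  have hjj : j⁻¹ ≠ j := LChar.inv_ne (mFT_odd W₂) hj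
  have hss : ∀ k l : LChar W₂, cfdot ⊤ (∑ i, eta ⊤ W₁ W₂ i k) (∑ i, eta ⊤ W₁ W₂ i l) =
      Nat.card W₁ * cfdot ⊤ (∑ i, eta ⊤ W₁ W₂ i k) (eta ⊤ W₁ W₂ 1 l) := fun k l => by
    rw [cfdot_sum_right]
    simp only [h.cfdot_sum_eta]
    rw [Finset.sum_const, Finset.card_univ, h.cycTI.card_LChar₁, nsmul_eq_mul]
  -- a reducible character whose image is `± ∑ η_ij`
  obtain ⟨k, hk, a, ha, hτk⟩ : ∃ k, k ≠ 1 ∧ ∃ a : ℤ, (a = 1 ∨ a = -1) ∧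
      τ₁ (muj S W₁ W₂ k) = a • ∑ i, eta ⊤ W₁ W₂ i j := by
    rcases hτ j hj with e | e
    · exact ⟨j, hj, 1, Or.inl rfl, by rw [e, one_smul]⟩
    rcases hτ j⁻¹ (LChar.inv_ne_one' hj) with e' | e'
    · have := h.cfdot_map_Fitting hc (h.muj_mem_Fitting (LChar.inv_ne_one' hj))
        (h.muj_mem_Fitting hj) fun e => hjj ((h.primeTI.muj_inj _ _).1 e)
      rw [e, e', cfdot_neg_right, hss, h.cfdot_sum_eta, if_pos rfl, mul_one, neg_eq_zero] at this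
      exact absurd this hq0
    · exact ⟨j⁻¹, LChar.inv_ne_one' hj, -1, Or.inr rfl, by rw [e', LChar.inv_inv, neg_smul, one_smul]⟩
  have ha0 : (a : ℂ) ≠ 0 := by rcases ha with rfl | rfl <;> simp
  obtain ⟨α, b, -, -, -, -, hsum, hle⟩ := h.split_Fitting hc (h.muj_mem_Fitting hk)
    (h.cycTI.eta_mem_ZI 1 j) (fun ξ hξ hne => by
      by_cases hne' : ∀ l, l ≠ 1 → ξ ≠ muj S W₁ W₂ l
      · exact h.cfdot_map_eta_of_ne_muj hc hξ hne' 1 j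
      push Not at hne'
      obtain ⟨l, hl, rfl⟩ := hne'
      have := h.cfdot_map_Fitting hc hξ (h.muj_mem_Fitting hk) hne
      rw [hτk, cfdot_zsmul_right] at this
      rcases hτ l hl with e | e
      · rw [e, hss] at this
        rw [e]
        simpa [ha0, hq0] using this
      · rw [e, cfdot_neg_left, hss] at this
        rw [e, cfdot_neg_left]
        simpa [ha0, hq0] using this) (a := a)
    (by rw [hτk, cfdot_zsmul_left, h.cfdot_sum_eta, if_pos rfl, mul_one])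
  have hcard : (Nat.card S : ℝ) = Nat.card ↥⁅S, S⁆ * Nat.card W₁ := by
    exact_mod_cast (TypeP.sd_der h.P).card.symm
  rw [hsum, h.primeTI.cfnorm_muj, deg_of_eq (h.apply_one_of_mem_Fitting (h.muj_mem_Fitting hk)),
    h.relIndex_Fitting, hcard]
  have h1 := h.two_mul_u_le
  have h2 := int_le_sq b
  have h3 : (0 : ℝ) ≤ (U ⊓ 𝐂(𝐇(S))).relIndex U := by positivity
  have hq := card_pos_real W₁
  have h4 : 2 * ((U ⊓ 𝐂(𝐇(S))).relIndex U : ℝ) * (b : ℝ) ^ 2 ≤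
      ((Nat.card 𝐇(S) : ℝ) - 1) * (b : ℝ) ^ 2 := mul_le_mul_of_nonneg_right h1 (by positivity)
  have h5 := mul_le_mul_of_nonneg_left h2.1 h3
  have h6 := mul_le_mul_of_nonneg_left h2.2 h3
  push_cast
  rcases ha with rfl | rfl
  · field_simp
    push_cast
    nlinarith
  · field_simp
    push_cast
    nlinarith

end FTP

end Cfsg.Lib.BG.Z.PF
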