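import Cfsg.Agent.Lib.ZB.Max
import Cfsg.Agent.Lib.PF.Sec8Fcore
import Cfsg.Agent.Lib.ZQ.Defs8
import Cfsg.Agent.Lib.PF.Sec1Brauer
import Cfsg.Agent.Lib.BG.Fcore
import Cfsg.Agent.Lib.BG.T15_2Aux
import Cfsg.Agent.Lib.Frobenius.Theorem
import Cfsg.Agent.S1496

/-!
# Peterfalvi (8.1)-(8.5): `M_F`, groups of type `F` and of type `P` (no minimality hypothesis)
-/

set_option autoImplicit false
set_option linter.unusedVariables false

namespace Cfsg.Lib.BG.Z.PF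

open Subgroup
open Cfsg.Lib.PF
open scoped Cfsg.Lib.Transfer

variable {G : Type*} [Group G] [Finite G] {M N U U₁ U₀ W₁ W₂ E : Subgroup G}

/-! ### `M_F` -/

omit [Finite G] in
theorem uniq_iff_existsUnique {H : Subgroup G} : Uniq H ↔ ∃! L : Subgroup G, Mx L ∧ H ≤ L :=
  ⟨fun ⟨L, h⟩ => ⟨L, ⟨h.max, h.le⟩, fun N hN => h.uniq N hN.1 hN.2⟩,
    fun ⟨L, h, hu⟩ => ⟨L, h.1, h.2, fun N h1 h2 => hu N ⟨h1, h2⟩⟩⟩

/-! ### Conjugation invariance -/

omit [Finite G] in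
theorem supportR_of_le' {x : G} (h : 𝐂[x] ≤ M) : supportR M x = ⊥ := dif_neg fun h' => h'.1 h

omit [Finite G] in
theorem supportR_of_uniqMax' {x : G} {L : Subgroup G} (h : ¬ 𝐂[x] ≤ M) (hL : UniqMax 𝐂[x] L) :
    supportR M x = 𝐇(L) ⊓ 𝐂[x] := by
  have h' : ¬ 𝐂[x] ≤ M ∧ ∃! L : Subgroup G, Mx L ∧ 𝐂[x] ≤ L := ⟨h, uniq_iff_existsUnique.1 hL.uniq'⟩
  rw [supportR, dif_pos h', hL.eq (Classical.choose_spec h'.2.exists).1 (Classical.choose_spec h'.2.exists).2]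

omit [Finite G] in
theorem FTP.conj (g : G) (h : FTP M U W₁ W₂) : FTP (g ⋆ M) (g ⋆ U) (g ⋆ W₁) (g ⋆ W₂) :=
  ⟨mmax_conj h.max g, isTypePWith_conj g h.P⟩

omit [Finite G] in
theorem isOfTypeII_conj (g : G) : IsOfTypeII (g ⋆ M) ↔ IsOfTypeII M :=
  conj_iff_of_imp (fun g M ⟨W₁, U, W₂, h, h1, h2, h3, h4, h5, h6, h7⟩ =>
    ⟨g ⋆ W₁, g ⋆ U, g ⋆ W₂, isTypePWith_conj g h, fun e => h1 (Transfer.conj_eq_bot_iff.1 e),
      by rwa [Transfer.card_conj], conj_Fitting g M ▸ isTISubset_conj g h3, (abelian_conj g).2 h4,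
      by rwa [← Transfer.conj_normalizer, Transfer.conj_le_conj_iff, PiGrp.conj_iff],
      Transfer.conj_commutator g M M ▸ isOfTypeF_conj g h6,
      by rw [← Transfer.conj_commutator, ← conj_MF, ← conj_MF, h7]⟩) g M

omit [Finite G] in
theorem isOfTypeIII_conj (g : G) : IsOfTypeIII (g ⋆ M) ↔ IsOfTypeIII M :=
  conj_iff_of_imp (fun g M ⟨W₁, U, W₂, h, h1, h2, h3, h4, h5⟩ =>
    ⟨g ⋆ W₁, g ⋆ U, g ⋆ W₂, isTypePWith_conj g h, fun e => h1 (Transfer.conj_eq_bot_iff.1 e),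
      by rwa [Transfer.card_conj], conj_Fitting g M ▸ isTISubset_conj g h3, (abelian_conj g).2 h4,
      by rwa [← Transfer.conj_normalizer, Transfer.conj_le_conj_iff, PiGrp.conj_iff]⟩) g M

omit [Finite G] in
theorem isOfTypeIV_conj (g : G) : IsOfTypeIV (g ⋆ M) ↔ IsOfTypeIV M :=
  conj_iff_of_imp (fun g M ⟨W₁, U, W₂, h, h1, h2, h3, h4, h5⟩ =>
    ⟨g ⋆ W₁, g ⋆ U, g ⋆ W₂, isTypePWith_conj g h, fun e => h1 (Transfer.conj_eq_bot_iff.1 e),
      by rwa [Transfer.card_conj], conj_Fitting g M ▸ isTISubset_conj g h3, by rwa [abelian_conj],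
      by rwa [← Transfer.conj_normalizer, Transfer.conj_le_conj_iff, PiGrp.conj_iff]⟩) g M

omit [Finite G] in
theorem conj_typeCore (g : G) (M : Subgroup G) : g ⋆ typeCore M = typeCore (g ⋆ M) := by
  unfold typeCore
  rw [isOfTypeIII_conj, isOfTypeIV_conj]
  split_ifs
  · exact Transfer.conj_commutator g M M
  · exact conj_MF g M

omit [Finite G] in
theorem conj_mem_typeA1 {g x : G} : g * x * g⁻¹ ∈ typeA1 (g ⋆ M) ↔ x ∈ typeA1 M := by
  simp only [typeA1, ← conj_typeCore, Set.mem_diff, SetLike.mem_coe, Transfer.conj_mem_conj, Set.mem_singleton_iff,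
    conj_eq_one_iff]

omit [Finite G] in
theorem conj_mem_ftA {g x : G} : g * x * g⁻¹ ∈ ftA (g ⋆ M) ↔ x ∈ ftA M := by
  by_cases h : IsOfTypeP M
  · rw [mem_ftA_of_typeP h, mem_ftA_of_typeP ((isOfTypeP_conj g).2 h), ← Transfer.conj_commutator, ← conj_typeCore,
      Transfer.conj_mem_conj, Ne, conj_eq_one_iff, exists_comm_conj_iff]
  · rw [mem_ftA_of_typeI h, mem_ftA_of_typeI ((typeI_conj g).2 h), ← conj_MF, Transfer.conj_mem_conj, Ne,
      conj_eq_one_iff, exists_comm_conj_iff]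

omit [Finite G] in
theorem conj_mem_ftA0 {g x : G} : g * x * g⁻¹ ∈ ftA0 (g ⋆ M) ↔ x ∈ ftA0 M := by
  have key : ∀ (g x : G) (M : Subgroup G), x ∈ ftA0 M → g * x * g⁻¹ ∈ ftA0 (g ⋆ M) := by
    rintro g x M (h | ⟨W₁, U, W₂, h, m, hm, w, hw, h1, h2, rfl⟩)
    · exact Or.inl (conj_mem_ftA.2 h)
    · refine Or.inr ⟨_, _, _, isTypePWith_conj g h, g * m * g⁻¹, Transfer.conj_mem_conj.2 hm, g * w * g⁻¹, ?_,
        by rwa [Transfer.conj_mem_conj], by rwa [Transfer.conj_mem_conj], by group⟩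
      rwa [← Transfer.conj_sup, Transfer.conj_mem_conj]
  refine ⟨fun h => ?_, key g x M⟩
  have := key g⁻¹ _ _ h
  rw [Transfer.inv_conj_conj] at this
  simpa [mul_assoc] using this

omit [Finite G] in
theorem conj_supportR (g x : G) (M : Subgroup G) :
    g ⋆ supportR M x = supportR (g ⋆ M) (g * x * g⁻¹) := by
  by_cases h : 𝐂[x] ≤ M
  · rw [supportR_of_le' h, supportR_of_le' (conj_cent1 g x ▸ Transfer.conj_mono g h), Subgroup.map_bot]
  by_cases hL : ∃ L, UniqMax 𝐂[x] L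
  · obtain ⟨L, hL⟩ := hL
    rw [supportR_of_uniqMax' h hL, supportR_of_uniqMax' (by rwa [← conj_cent1, Transfer.conj_le_conj_iff])
      (conj_cent1 g x ▸ hL.conj g), Transfer.conj_inf, conj_MF, conj_cent1]
  · rw [supportR, dif_neg fun h' => hL (uniq_iff_existsUnique.2 h'.2), Subgroup.map_bot, supportR,
      dif_neg fun h' => hL ((Uniq.conj_iff g).1 (by rw [conj_cent1]; exact uniq_iff_existsUnique.2 h'.2))]

omit [Finite G] in
theorem tildeOf_eq (M : Subgroup G) (A : Set G) : tildeOf M A = ftSupp M A := by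
  ext g
  exact ⟨fun ⟨a, ha, r, hr, y, e⟩ => ⟨a, ha, r, hr, y⁻¹, by rw [e]; group⟩,
    fun ⟨a, ha, r, hr, y, e⟩ => ⟨a, ha, r, hr, y⁻¹, by rw [← e]; group⟩⟩

omit [Finite G] in
theorem ftSupp_conj (g : G) (M : Subgroup G) {A B : Set G} (h : ∀ x, g * x * g⁻¹ ∈ B ↔ x ∈ A) :
    ftSupp (g ⋆ M) B = ftSupp M A := by
  ext y
  constructor
  · rintro ⟨b, hb, u, hu, x, e⟩
    obtain ⟨a, rfl⟩ : ∃ a, b = g * a * g⁻¹ := ⟨g⁻¹ * b * g, by group⟩
    rw [← conj_supportR, Transfer.mem_conj] at hu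
    refine ⟨a, (h a).1 hb, _, hu, g⁻¹ * x, ?_⟩
    rw [show g⁻¹ * x * y * (g⁻¹ * x)⁻¹ = g⁻¹ * (x * y * x⁻¹) * g by group, e]
    group
  · rintro ⟨a, ha, u, hu, x, e⟩
    refine ⟨_, (h a).2 ha, g * u * g⁻¹, by rwa [← conj_supportR, Transfer.conj_mem_conj], g * x, ?_⟩
    rw [conj_mul, ← e]
    group

omit [Finite G] in
theorem ftSupp_typeA1_conj (g : G) (M : Subgroup G) :
    ftSupp (g ⋆ M) (typeA1 (g ⋆ M)) = ftSupp M (typeA1 M) :=
  ftSupp_conj g M fun _ => conj_mem_typeA1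

omit [Finite G] in
theorem ftSupp_ftA_conj (g : G) (M : Subgroup G) :
    ftSupp (g ⋆ M) (ftA (g ⋆ M)) = ftSupp M (ftA M) :=
  ftSupp_conj g M fun _ => conj_mem_ftA

omit [Finite G] in
theorem supportR_of_le {x : G} (h : 𝐂[x] ≤ M) : supportR M x = ⊥ :=
  supportR_of_le' h

omit [Finite G] in
theorem supportR_of_uniqMax {x : G} {L : Subgroup G} (h : ¬ 𝐂[x] ≤ M) (hL : UniqMax 𝐂[x] L) :
    supportR M x = 𝐇(L) ⊓ 𝐂[x] :=
  supportR_of_uniqMax' h hL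

/-! ### Type `F` -/

/-! ### Type `P` -/


end Cfsg.Lib.BG.Z.PF
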