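import Cfsg.Agent.Lib.PF.Sec9Core
import Cfsg.Agent.Lib.ZQ.Sec8Type
import Cfsg.Agent.Lib.PF.Sec9CoreAux
import Cfsg.Agent.Lib.BG.T02_6
import Cfsg.Agent.Lib.Perm.FieldOf

/-!
# Peterfalvi (9.3)-(9.7): the chief factor `H/H₀` of a maximal subgroup of type II, III or IV

Notation: `H = 𝐇(M)`, `C = centMod U H H₀`, `q = |W₁|`, `u = |U : C|`.
-/

set_option autoImplicit false
set_option linter.unusedVariables false

namespace Cfsg.Lib.BG.Z.PF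

open Subgroup
open Cfsg.Lib.PF
open scoped Cfsg.Lib.Transfer
open Cfsg.Lib.PF.A9

variable {G : Type*} [Group G] [Finite G] [Sz G] {M U W₁ W₂ H₀ H₁ : Subgroup G} {p : ℕ}
  {lam : G → ℂ}

omit [Finite G] [Sz G] in
theorem FTP.U_le₉ (h : FTP M U W₁ W₂) : U ≤ M := le_sup_left.trans (TypeP.sd_Fcore h.P).right_le

omit [Finite G] [Sz G] in
theorem FTP.W₁_le₉ (h : FTP M U W₁ W₂) : W₁ ≤ M := le_sup_right.trans (TypeP.sd_Fcore h.P).right_le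

omit [Finite G] [Sz G] in
theorem FTP.norm_H₉ (h : FTP M U W₁ W₂) : U ⊔ W₁ ≤ 𝐍(𝐇(M)) := (TypeP.sd_Fcore h.P).norm

omit [Finite G] [Sz G] in
theorem FTP.norm_U₉ (h : FTP M U W₁ W₂) : U ⊔ W₁ ≤ 𝐍(U) := sup_le_norm_left h.P.U_normal

omit [Sz G] in
theorem FTP.relIndex_eq₉ (h : FTP M U W₁ W₂) (hU : U ≠ ⊥) (hc : Chief M H₀ 𝐇(M))
    (hC : 𝐇(M) ⊓ 𝐂(U) ≤ H₀) : H₀.relIndex 𝐇(M) = H₀.relIndex W₂ ^ Nat.card W₁ := by
  have := relIndex_eq_pow (TypeP.frob h.P hU) h.norm_H₉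
    ((TypeP.sd_Fcore h.P).right_le.trans hc.nmlV.norm) hc.lt.le (TypeP.coprime_Fcore h.P)
    (nil_sol (MF_nil M)) hC
  rwa [TypeP.cent_core h.P] at this

/-- Peterfalvi (9.3), type II. -/
theorem FTP.typeII_core (h : FTP M U W₁ W₂) (h2 : IsOfTypeII M) :
    𝐇(M) ⊓ 𝐂(U) = ⊥ ∧ Nat.card 𝐇(M) = Nat.card W₂ ^ Nat.card W₁ := by
  obtain ⟨h5, -, hn, -⟩ := h.typeII h2
  have hU := (h.typeII_IV h5).1
  have h1 : 𝐇(M) ⊓ 𝐂(U) = ⊥ := by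
    by_contra hne
    have e : centralizer (sharp U) = 𝐂(U) := by
      ext x
      simp only [mem_centralizer_iff]
      refine ⟨fun hx y hy => ?_, fun hx y hy => hx y hy.1⟩
      by_cases h1 : y = 1
      · simp [h1]
      · exact hx y ⟨hy, h1⟩
    obtain ⟨x, hx, hx1⟩ := exists_ne_one hU
    have := (typeI_II_facts h.max (Or.inr ⟨h2, TypeP.sd_core h.P⟩)).2 (sharp U) le_rfl ⟨x, hx, hx1⟩
      (by rwa [e])
    rw [e] at this
    have hD : PiGrp (DD G) U := D_of_inf_cent h.max.MF_D hne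
    exact hn ⟨this.ge (cent_le_norm U) (loc_norm hU hD), hD⟩
  refine ⟨h1, ?_⟩
  have := relIndex_eq_pow (TypeP.frob h.P hU) h.norm_H₉ (N := ⊥) (by rw [norm_bot]; exact le_top) bot_le
    (TypeP.coprime_Fcore h.P) (nil_sol (MF_nil M)) h1.le
  rwa [relIndex_bot_left, relIndex_bot_left, TypeP.cent_core h.P] at this

/-- Peterfalvi (9.3), types III and IV. -/
theorem FTP.typeIII_IV_core (h : FTP M U W₁ W₂) (h2 : ¬ IsOfTypeII M) (h5 : ¬ IsOfTypeV M) :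
    𝐇(M) ⊓ 𝐂(U ⊔ W₁) = ⊥ ∧
      Nat.card 𝐇(M) = Nat.card W₂ ^ Nat.card W₁ * Nat.card ↥(𝐇(M) ⊓ 𝐂(U)) := by
  have hU := (h.typeII_IV h5).1
  have e := Frobenius_Wielandt_fixpoint (TypeP.frob h.P hU) h.norm_H₉ (TypeP.coprime_Fcore h.P)
    (nil_sol (MF_nil M))
  rw [TypeP.cent_core h.P] at e
  have hle : 𝐇(M) ⊓ 𝐂(U ⊔ W₁) ≤ W₂ :=
    (inf_le_inf_left _ (cent_anti le_sup_right)).trans (TypeP.cent_core h.P).le
  rcases eq_bot_or_eq_of_prime (h.W₂_prime_of_not_typeII h2) hle with h1 | h1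
  · refine ⟨h1, ?_⟩
    rwa [h1, card_bot, one_pow, one_mul] at e
  · rw [h1] at e
    have := Nat.eq_of_mul_eq_mul_left (pow_pos Nat.card_pos _) e
    exact absurd (cent_symm ((eq_of_le_of_card_le inf_le_left this.le).ge.trans inf_le_right))
      (TypeP.not_le_cent h.P hU)

/-- Peterfalvi (9.4), (9.6). -/
theorem FTP.exists_pcore (h : FTP M U W₁ W₂) (h5 : ¬ IsOfTypeV M) :
    ∃ H₀ p, PCore M U W₁ W₂ H₀ p := by
  have hU := (h.typeII_IV h5).1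
  have hsd := TypeP.sd_Fcore h.P
  have hCn : U ⊔ W₁ ≤ 𝐍(𝐇(M) ⊓ 𝐂(U)) := norm_inf h.norm_H₉ (norm_cent h.norm_U₉)
  have hle : ⁅𝐇(M), 𝐇(M)⁆ ⊔ (𝐇(M) ⊓ 𝐂(U)) ≤ 𝐇(M) := sup_le (der_le _) inf_le_left
  have hN : Nml (⁅𝐇(M), 𝐇(M)⁆ ⊔ (𝐇(M) ⊓ 𝐂(U))) M := ⟨hle.trans (MF_le M), hsd.sup.ge.trans
    (sup_le (norm_of_comm_le_of_le le_sup_left hle) (norm_sup (norm_der h.norm_H₉) hCn))⟩
  have hlt : ⁅𝐇(M), 𝐇(M)⁆ ⊔ (𝐇(M) ⊓ 𝐂(U)) < 𝐇(M) := by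
    refine lt_of_le_of_ne hle fun e => TypeP.not_le_cent h.P hU (cent_symm ?_)
    exact (Core.eq_of_le_sup_frattiniOf (Core.commutator_le_frattiniOf_of_isNilpotent (MF_nil M))
      inf_le_left e.ge).ge.trans inf_le_right
  obtain ⟨H₀, hc, hge⟩ := exists_chief_ge hN (MF_nml M) hlt
  obtain ⟨p, hp, -, hpow, k, hk, e⟩ := hc.elem (nil_sol (MF_nil M))
  refine ⟨H₀, p, h, h5, hc, le_sup_right.trans hge, hp, ?_⟩
  have e' := h.relIndex_eq₉ hU hc (le_sup_right.trans hge)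
  have hd := relIndex_dvd_of_cyclic h.primeTI.cyclic₂
    (((TypeP.W₂_le h.P).trans (MF_le M)).trans hc.nmlV.norm) fun x hx => hpow x (TypeP.W₂_le h.P hx)
  rcases (Nat.dvd_prime hp).1 hd with h1 | h1
  · rw [h1, one_pow] at e'
    exact absurd (relIndex_eq_one.1 e') (not_le_of_gt hc.lt)
  · rw [e', h1]

namespace PCore

variable (h : PCore M U W₁ W₂ H₀ p)
include h

theorem U_ne₉ : U ≠ ⊥ := (h.ftp.typeII_IV h.notV).1

omit [Finite G] [Sz G] in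
theorem H₀_le₉ : H₀ ≤ 𝐇(M) := h.chief.lt.le

omit [Finite G] [Sz G] in
theorem norm_H₀₉ : M ≤ 𝐍(H₀) := h.chief.nmlV.norm

omit [Finite G] [Sz G] in
theorem U_norm_H₀₉ : U ≤ 𝐍(H₀) := h.ftp.U_le₉.trans h.norm_H₀₉

omit [Finite G] [Sz G] in
theorem H_norm_H₀₉ : 𝐇(M) ≤ 𝐍(H₀) := (MF_le M).trans h.norm_H₀₉

omit [Finite G] [Sz G] in
theorem W₁_norm_H₀₉ : W₁ ≤ 𝐍(H₀) := h.ftp.W₁_le₉.trans h.norm_H₀₉

omit [Finite G] [Sz G] in
theorem U_norm_H₉ : U ≤ 𝐍(𝐇(M)) := le_sup_left.trans h.ftp.norm_H₉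

omit [Finite G] [Sz G] in
theorem W₁_norm_H₉ : W₁ ≤ 𝐍(𝐇(M)) := le_sup_right.trans h.ftp.norm_H₉

omit [Finite G] [Sz G] in
theorem W₁_norm_U₉ : W₁ ≤ 𝐍(U) := h.ftp.P.U_normal

omit [Finite G] [Sz G] in
theorem H_inf_U₉ : 𝐇(M) ⊓ U = ⊥ := (TypeP.sd_core h.ftp.P).inf

theorem q_prime : (Nat.card W₁).Prime := (h.ftp.typeII_IV h.notV).2.1

theorem p_dvd₉ : p ∣ Nat.card 𝐇(M) :=
  (dvd_pow_self p h.q_prime.ne_zero).trans (h.index ▸ BG.relIndex_dvd_card H₀ 𝐇(M))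

theorem p_odd : Odd p := Odd.of_dvd_nat (mFT_odd _) h.p_dvd₉

theorem p_ne_q : p ≠ Nat.card W₁ := fun e =>
  h.prime.one_lt.ne' (Nat.eq_one_of_dvd_coprimes (TypeP.coprime_Fcore h.ftp.P) h.p_dvd₉
    (e ▸ card_dvd le_sup_right))

/-- `H/H₀` is elementary abelian. -/
theorem der_le : ⁅𝐇(M), 𝐇(M)⁆ ≤ H₀ := by
  obtain ⟨_, -, h1, -⟩ := h.chief.elem (nil_sol (MF_nil M))
  exact h1

theorem pow_mem {x : G} (hx : x ∈ 𝐇(M)) : x ^ p ∈ H₀ := by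
  obtain ⟨r, hr, -, h1, k, hk, e⟩ := h.chief.elem (nil_sol (MF_nil M))
  rw [h.index] at e
  have : p = r := (Nat.prime_dvd_prime_iff_eq h.prime hr).1
    (h.prime.dvd_of_dvd_pow (e ▸ dvd_pow_self p h.q_prime.ne_zero))
  exact this ▸ h1 x hx

/-- Peterfalvi (9.6). -/
theorem mem_of_fixed {x : G} (hx : x ∈ 𝐇(M)) (hf : ∀ u ∈ U, u * x * u⁻¹ * x⁻¹ ∈ H₀) : x ∈ H₀ := by
  have := fixed_mod h.U_norm_H₉ h.U_norm_H₀₉ h.H_norm_H₀₉
    (coprime_mono (TypeP.coprime_Fcore h.ftp.P).symm le_sup_left le_rfl)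
    (Or.inr (nil_sol (MF_nil M))) hx hf
  rwa [sup_eq_left.2 h.cent_le] at this

theorem relIndex_W₂ : H₀.relIndex W₂ = p := by
  have := h.ftp.relIndex_eq₉ h.U_ne₉ h.chief h.cent_le
  rw [h.index] at this
  exact (Nat.pow_left_injective h.q_prime.ne_zero this).symm

theorem eq_card_W₂ (hp : (Nat.card W₂).Prime) : p = Nat.card W₂ ∧ W₂ ⊓ H₀ = ⊥ := by
  have e := h.relIndex_W₂
  rcases eq_bot_or_eq_of_prime hp (inf_le_left : W₂ ⊓ H₀ ≤ W₂) with h1 | h1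
  · refine ⟨?_, h1⟩
    rw [← e, ← inf_relIndex_right, inf_comm, h1, relIndex_bot_left]
  · rw [relIndex_eq_one.2 (inf_eq_left.1 h1)] at e
    exact absurd e h.prime.one_lt.ne

theorem C_lt : centMod U 𝐇(M) H₀ < U := by
  refine lt_of_le_of_ne (centMod_le _ _ _) fun e => not_le_of_gt h.chief.lt fun x hx => ?_
  exact h.mem_of_fixed hx fun u hu => centMod_rel (e.ge hu) hx

theorem cent_le_C : U ⊓ 𝐂(𝐇(M)) ≤ centMod U 𝐇(M) H₀ := 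
  le_centMod_iff.2 ⟨inf_le_left, inf_le_left.trans h.U_norm_H₀₉,
    (comm_eq_bot_iff.2 inf_le_right).le.trans bot_le⟩

theorem der_le_C : ⁅U, U⁆ ≤ centMod U 𝐇(M) H₀ := 
  (le_inf (BG.der_le U) (TypeP.der_le_cent h.ftp.P)).trans h.cent_le_C

theorem norm_C : U ⊔ W₁ ≤ 𝐍(centMod U 𝐇(M) H₀) := 
  norm_centMod h.ftp.norm_U₉ h.ftp.norm_H₉ (sup_le h.U_norm_H₀₉ h.W₁_norm_H₀₉)

/-- Coq `Ptype_Fcore_extensions_normal`: `H₀ K ⊴ M` for every `U W₁`-invariant `K ≤ C`. -/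
theorem nml_H₀_sup {K : Subgroup G} (hK : K ≤ centMod U 𝐇(M) H₀) (hn : U ⊔ W₁ ≤ 𝐍(K)) :
    Nml (H₀ ⊔ K) M := by
  have hKU := hK.trans (centMod_le _ _ _)
  refine ⟨sup_le h.chief.nmlV.le (hKU.trans h.ftp.U_le₉), (TypeP.sd_Fcore h.ftp.P).sup.ge.trans
    (sup_le ?_ (norm_sup (sup_le h.U_norm_H₀₉ h.W₁_norm_H₀₉) hn))⟩
  exact norm_sup_of_comm_le (hKU.trans h.U_norm_H₀₉) h.H_norm_H₀₉
    ((commutator_mono le_rfl hK).trans (centMod_comm' _ _ _))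

theorem nml_H_sup {K : Subgroup G} (hK : K ≤ U) (hn : U ⊔ W₁ ≤ 𝐍(K)) : Nml (𝐇(M) ⊔ K) M := 
  ⟨sup_le (MF_le M) (hK.trans h.ftp.U_le₉), (TypeP.sd_Fcore h.ftp.P).sup.ge.trans
    (sup_le (le_norm_of_le le_sup_left) (norm_sup h.ftp.norm_H₉ hn))⟩

theorem H₀_sup_inf {K : Subgroup G} (hK : K ≤ U) : (H₀ ⊔ K) ⊓ 𝐇(M) = H₀ := by
  rw [modular_left h.H₀_le₉ (hK.trans h.U_norm_H₀₉), eq_bot_mono h.H_inf_U₉
    (le_inf inf_le_right (inf_le_left.trans hK)), sup_bot_eq]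

theorem der_HC_le : ⁅𝐇(M) ⊔ centMod U 𝐇(M) H₀, 𝐇(M) ⊔ centMod U 𝐇(M) H₀⁆ ≤
    H₀ ⊔ ⁅centMod U 𝐇(M) H₀, centMod U 𝐇(M) H₀⁆ := by
  have hN := (h.nml_H₀_sup (BG.der_le _) (norm_der h.norm_C)).norm
  have h1 := (MF_le M).trans hN
  have h2 := ((centMod_le U 𝐇(M) H₀).trans h.ftp.U_le₉).trans hN
  rw [← quo_abelian_iff (sup_le h1 h2), quo_sup h1 h2]
  exact abelian_sup ((quo_abelian_iff h1).2 (h.der_le.trans le_sup_left))
    ((quo_abelian_iff h2).2 le_sup_right)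
    ((quo_le_cent_iff h1 h2).2 ((centMod_comm' _ _ _).trans le_sup_left))

omit [Sz G] in
theorem relIndex_H_sup₉ {K : Subgroup G} (hK : K ≤ U) :
    (𝐇(M) ⊔ K).relIndex ⁅M, M⁆ = K.relIndex U := by
  have hsd := TypeP.sd_core h.ftp.P
  have e1 := card_mul_relIndex (sup_le hsd.left_le (hK.trans hsd.right_le))
  rw [← hsd.card, ← (SD.of_norm (hK.trans h.U_norm_H₉)
    (eq_bot_mono hsd.inf (inf_le_inf_left _ hK))).card, ← card_mul_relIndex hK, ← mul_assoc] at e1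
  exact Nat.eq_of_mul_eq_mul_left (Nat.mul_pos Nat.card_pos Nat.card_pos) e1

theorem relIndex_HC : (𝐇(M) ⊔ centMod U 𝐇(M) H₀).relIndex ⁅M, M⁆ =
    (centMod U 𝐇(M) H₀).relIndex U := h.relIndex_H_sup₉ (centMod_le _ _ _)

/-- `U W₁ / C` is a Frobenius group. -/
theorem frob_mod_C {w x : G} (hw : w ∈ W₁) (hw1 : w ≠ 1) (hx : x ∈ U)
    (hf : w * x * w⁻¹ * x⁻¹ ∈ centMod U 𝐇(M) H₀) : x ∈ centMod U 𝐇(M) H₀ := by
  have hU := le_sup_left.trans h.norm_C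
  have hW := le_sup_right.trans h.norm_C
  have hw' : qm (centMod U 𝐇(M) H₀) w ≠ 1 := fun e => hw1 (mem_bot.1
    ((TypeP.sd_compl h.ftp.P).inf ▸ ⟨centMod_le _ _ _ ((qm_eq_one_iff (hW hw)).1 e), hw⟩))
  have := semiReg_quo (TypeP.semiReg h.ftp.P) h.W₁_norm_U₉ _ _ (qm_mem hW hw) hw'
  rw [← qm_eq_one_iff (hU hx), ← mem_bot, ← this]
  exact ⟨qm_mem hU hx, mem_cent1.2 ((qm_comm_iff (hW hw) (hU hx)).2 hf).symm⟩

theorem q_dvd_u_sub_one : Nat.card W₁ ∣ (centMod U 𝐇(M) H₀).relIndex U - 1 := by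
  have hU := le_sup_left.trans h.norm_C
  have hW := le_sup_right.trans h.norm_C
  have := regular_norm_dvd_pred (quo_norm h.W₁_norm_U₉ _)
    (semiReg_quo (TypeP.semiReg h.ftp.P) h.W₁_norm_U₉ (centMod U 𝐇(M) H₀))
  rwa [card_quo hU, card_quo_of_disjoint hW (eq_bot_mono (TypeP.sd_compl h.ftp.P).inf
    (inf_le_inf_right _ (centMod_le _ _ _)))] at this

/-- Peterfalvi (9.7)(a), existence of the decomposition. -/
theorem exists_nGal (hG : ¬ PGalois U 𝐇(M) H₀) : ∃ H₁ lam, NGal U W₁ 𝐇(M) H₀ H₁ lam p := by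
  classical
  have : ∃ N : Subgroup G, U ≤ 𝐍(N) ∧ H₀ < N ∧ N < 𝐇(M) := by
    by_contra hne
    refine hG fun N h1 h2 h3 => ?_
    by_contra h4
    push Not at h4
    exact hne ⟨N, h1, lt_of_le_of_ne h2 h4.1.symm, lt_of_le_of_ne h3 h4.2⟩
  obtain ⟨H₁, ⟨hU, h₀, h₁⟩, hmin⟩ := (wellFounded_lt (α := Subgroup G)).has_min
    {N | U ≤ 𝐍(N) ∧ H₀ < N ∧ N < 𝐇(M)} this
  have := Fintype.ofFinite W₁
  have hw₀ : ∀ w : W₁, (w : G) ⋆ H₀ = H₀ := fun w => conj_eq_of_norm (h.W₁_norm_H₀₉ w.2)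
  have hwH : ∀ w : W₁, (w : G) ⋆ 𝐇(M) = 𝐇(M) := fun w => conj_eq_of_norm (h.W₁_norm_H₉ w.2)
  have z₀ : ∀ w : W₁, H₀ ≤ (w : G) ⋆ H₁ := fun w => (hw₀ w).ge.trans (S14.conj_mono _ h₀.le)
  have z₁ : ∀ w : W₁, (w : G) ⋆ H₁ ≤ 𝐇(M) := fun w => (S14.conj_mono _ h₁.le).trans (hwH w).le
  have zU : ∀ (w : W₁) {K : Subgroup G}, U ≤ 𝐍(K) → U ≤ 𝐍((w : G) ⋆ K) := fun w K hK =>
    conj_norm_of_norm (h.W₁_norm_U₉ w.2) hK
  have key := exists_relIndex_pow h.der_le h.H₀_le₉ h.U_norm_H₀₉ (Z := fun w : W₁ => (w : G) ⋆ H₁)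
    (d := H₀.relIndex H₁) z₀ z₁ (fun w => zU w hU)
    (fun w => by
      have e1 := card_mul_relIndex (z₀ w)
      rw [S14.card_conj, ← card_mul_relIndex h₀.le] at e1
      exact Nat.eq_of_mul_eq_mul_left Nat.card_pos e1)
    (fun w K h1 h2 h3 => by
      have h4 : (w : G)⁻¹ ⋆ K ≤ H₁ := S14.le_conj_iff.1 h3
      rcases h2.eq_or_lt with e | e
      · exact Or.inl e.symm
      · refine Or.inr (le_antisymm h3 (S14.conj_le_iff.2 ?_))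
        by_contra hn
        refine hmin _ ⟨zU w⁻¹ h1, ?_, h4.trans_lt h₁⟩ (lt_of_le_of_ne h4 fun e => hn e.ge)
        refine lt_of_le_of_ne ((hw₀ w⁻¹).ge.trans (S14.conj_mono _ h2)) fun e' => e.ne ?_
        rw [← hw₀ w⁻¹] at e'
        exact S14.conj_inj.1 e')
  have hle : ∀ S : Finset W₁, H₀ ⊔ S.sup (fun w : W₁ => (w : G) ⋆ H₁) ≤ 𝐇(M) := fun S =>
    sup_le h.H₀_le₉ (Finset.sup_le fun w _ => z₁ w)
  have hgen : ⨆ w ∈ W₁, w ⋆ H₁ = 𝐇(M) := by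
    have h1 : H₁ ≤ ⨆ w ∈ W₁, w ⋆ H₁ := (S14.conj_one H₁).ge.trans (le_iSup₂_of_le 1 W₁.one_mem le_rfl)
    have h2 : ⨆ w ∈ W₁, w ⋆ H₁ ≤ 𝐇(M) := iSup₂_le fun w hw => z₁ ⟨w, hw⟩
    refine (h.chief.min _ ((TypeP.sd_Fcore h.ftp.P).sup.ge.trans (sup_le (norm_of_comm_le_of_le
      (h.der_le.trans (h₀.le.trans h1)) h2) (sup_le ?_ ?_))) (h₀.le.trans h1) h2).resolve_left
      fun e => not_le_of_gt h₀ (h1.trans e.le)
    · exact norm_of_conj_le fun a ha => conj_iSup₂_le fun w hw =>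
        (conj_eq_of_norm (zU ⟨w, hw⟩ hU ha)).le.trans (le_iSup₂_of_le w hw le_rfl)
    · exact norm_of_conj_le fun a ha => conj_iSup₂_le fun w hw =>
        (S14.conj_conj a w H₁).le.trans (le_iSup₂_of_le (a * w) (W₁.mul_mem ha hw) le_rfl)
  have huniv : H₀ ⊔ Finset.univ.sup (fun w : W₁ => (w : G) ⋆ H₁) = 𝐇(M) := le_antisymm (hle _)
    (hgen.ge.trans (iSup₂_le fun w hw => le_sup_of_le_right
      (Finset.le_sup (f := fun w : W₁ => (w : G) ⋆ H₁) (Finset.mem_univ ⟨w, hw⟩))))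
  have hd : H₀.relIndex H₁ = p := by
    obtain ⟨k, -, e⟩ := key Finset.univ
    rw [huniv, h.index] at e
    have e' := relIndex_mul_relIndex H₀ H₁ 𝐇(M) h₀.le h₁.le
    rw [h.index] at e'
    obtain ⟨d, hd, e''⟩ := (Nat.dvd_prime_pow h.prime).1 (Dvd.intro _ e')
    rw [e'', ← pow_mul] at e
    have hq := Nat.pow_right_injective h.prime.two_le e
    rcases (Nat.dvd_prime h.q_prime).1 (Dvd.intro _ hq.symm) with h1 | h1
    · rw [e'', h1, pow_one]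
    · rw [e'', h1] at e'
      have := Nat.eq_of_mul_eq_mul_left (pow_pos h.prime.pos _) (e'.trans (mul_one _).symm)
      exact absurd (relIndex_eq_one.1 this) (not_le_of_gt h₁)
  obtain ⟨k, hk, e⟩ := key (Finset.univ.erase 1)
  set N := H₀ ⊔ (Finset.univ.erase (1 : W₁)).sup (fun w : W₁ => (w : G) ⋆ H₁) with hN
  have hNw : ∀ w ∈ W₁, w ≠ 1 → w ⋆ H₁ ≤ N := fun w hw h1 => le_sup_of_le_right
    (Finset.le_sup (f := fun w : W₁ => (w : G) ⋆ H₁) (b := ⟨w, hw⟩)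
      (Finset.mem_erase.2 ⟨fun e => h1 (congrArg Subtype.val e), Finset.mem_univ _⟩))
  have hn : ¬ H₁ ≤ N := fun hn => by
    have : N = 𝐇(M) := le_antisymm (hle _) (hgen.ge.trans (iSup₂_le fun w hw => by
      by_cases h1 : w = 1
      · rwa [h1, S14.conj_one]
      · exact hNw w hw h1))
    rw [this, h.index, hd] at e
    rw [Finset.card_erase_of_mem (Finset.mem_univ _), Finset.card_univ, ← Nat.card_eq_fintype_card,
      ← Nat.pow_right_injective h.prime.two_le e] at hk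
    have := h.q_prime.pos
    omega
  obtain ⟨g, hg, hg'⟩ := SetLike.not_le_iff_exists.1 hn
  obtain ⟨lam, hl, hl₁, hl₂⟩ := exists_Irr_le_cfker_not_mem (hle _)
    (norm_of_comm_le_of_le (h.der_le.trans le_sup_left) (hle _)) hg'
  exact ⟨H₁, lam, h₀.le, h₁.le, hd, hU, hgen, hl,
    Irr.apply_one_of_commutator_le hl (h.der_le.trans (le_sup_left.trans hl₁)),
    le_sup_left.trans hl₁, fun e => hl₂ (e hg), fun w hw h1 => (hNw w hw h1).trans hl₁⟩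

section NonGalois

variable (hN : NGal U W₁ 𝐇(M) H₀ H₁ lam p)
include hN

omit [Sz G] in
theorem nGal_not_le₉ : ¬ H₁ ≤ H₀ := fun e => h.prime.one_lt.ne' (hN.index ▸ relIndex_eq_one.2 e)

omit [Sz G] in
theorem nGal_ker_inf₉ : cfker lam ⊓ H₁ = H₀ :=
  (eq_or_eq_of_prime_index (hN.index ▸ h.prime) (le_inf hN.ker₀ hN.le₀) inf_le_right).resolve_right
    fun e => hN.not_ker (inf_eq_right.1 e)

omit [Sz G] in
theorem nGal_conj_le₉ {w : G} (hw : w ∈ W₁) : w ⋆ H₁ ≤ 𝐇(M) :=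
  conj_le_of_norm hN.le (h.W₁_norm_H₉ hw)

theorem nGal_not_pGalois : ¬ PGalois U 𝐇(M) H₀ := fun hG => by
  rcases hG H₁ hN.norm hN.le₀ hN.le with e | e
  · exact h.nGal_not_le₉ hN e.le
  · have := hN.index
    rw [e, h.index] at this
    exact h.q_prime.one_lt.ne' (Nat.pow_right_injective h.prime.two_le (this.trans (pow_one p).symm))

/-- `U₁ = C_U(H₁/H₀)` is the inertia group of `lam` in `U`. -/
theorem nGal_inertia : U ⊓ inertia lam = centMod U H₁ H₀ := by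
  have hc := Irr.isChar hN.mem
  have hrel : ∀ u ∈ U, ∀ x ∈ 𝐇(M), (u * x * u⁻¹ * x⁻¹ ∈ cfker lam ↔ lam (u * x * u⁻¹) = lam x) := by
    intro u hu x hx
    have h1 := conj_mem_of_norm (h.U_norm_H₉ hu) hx
    have h2 := hc.map_mul_of_apply_one hN.one (𝐇(M).mul_mem h1 (inv_mem hx)) hx
    rw [inv_mul_cancel_right] at h2
    rw [Irr.mem_cfker_iff hN.mem, hN.one, h2]
    have h3 : lam x ≠ 0 := fun e => by simpa [e] using hc.norm_apply_of_apply_one hN.one hx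
    exact (mul_eq_right₀ h3).symm
  refine le_antisymm (fun u hu => (mem_centMod h.U_norm_H₀₉).2 ⟨hu.1, fun x hx => ?_⟩) ?_
  · rw [← h.nGal_ker_inf₉ hN]
    exact ⟨(hrel u hu.1 x (hN.le hx)).2 (mem_inertia_iff.1 hu.2 x),
      H₁.mul_mem (conj_mem_of_norm (hN.norm hu.1) hx) (H₁.inv_mem hx)⟩
  · have hU := centMod_le U H₁ H₀
    have : ⁅centMod U H₁ H₀, ⨆ w ∈ W₁, w ⋆ H₁⁆ ≤ cfker lam := by
      refine comm_iSup₂_le (fun w hw => (h.nGal_conj_le₉ hN hw).trans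
        (CF.le_normalizer_cfker hc.mem_CF)) fun w hw => ?_
      by_cases h1 : w = 1
      · rw [h1, S14.conj_one]; exact (centMod_comm _ _ _).trans hN.ker₀
      · exact (comm_le_right (hU.trans (conj_norm_of_norm (h.W₁_norm_U₉ hw) hN.norm))).trans
          (hN.ker_conj w hw h1)
    rw [hN.gen] at this
    exact fun u hu => ⟨hU hu, mem_inertia_of hc.mem_CF (h.U_norm_H₉ (hU hu)) fun x hx =>
      (hrel u (hU hu) x hx).1 (this (comm_mem_comm hu hx))⟩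

theorem nGal_C_le : centMod U 𝐇(M) H₀ ≤ centMod U H₁ H₀ := centMod_anti hN.le

theorem nGal_der_le : ⁅U, U⁆ ≤ centMod U H₁ H₀ := h.der_le_C.trans (h.nGal_C_le hN)

omit [Sz G] hN in
theorem conj_U₁₉ {w : G} (hw : w ∈ W₁) : w ⋆ centMod U H₁ H₀ = centMod U (w ⋆ H₁) H₀ := by
  rw [conj_centMod, conj_eq_of_norm (h.W₁_norm_U₉ hw), conj_eq_of_norm (h.W₁_norm_H₀₉ hw)]

theorem nGal_iInf : ⨅ w ∈ W₁, w ⋆ centMod U H₁ H₀ = centMod U 𝐇(M) H₀ := by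
  have hle : ∀ w ∈ W₁, ⨅ w ∈ W₁, w ⋆ centMod U H₁ H₀ ≤ centMod U (w ⋆ H₁) H₀ := fun w hw =>
    (iInf₂_le w hw).trans (h.conj_U₁₉ hw).le
  have hU := (hle 1 W₁.one_mem).trans (centMod_le _ _ _)
  refine le_antisymm (le_centMod_iff.2 ⟨hU, hU.trans h.U_norm_H₀₉, ?_⟩) (le_iInf₂ fun w hw => ?_)
  · rw [← hN.gen]
    exact comm_iSup₂_le (fun w hw => (h.nGal_conj_le₉ hN hw).trans h.H_norm_H₀₉) fun w hw =>
      (le_centMod_iff.1 (hle w hw)).2.2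
  · rw [h.conj_U₁₉ hw]; exact centMod_anti (h.nGal_conj_le₉ hN hw)

omit [Sz G] in
theorem nGal_exists_hom₉ : ∃ χ : U →* ZMod p, (∀ x : U, χ x = 1 ↔ (x : G) ∈ centMod U H₁ H₀) ∧
    ∀ x : U, ∀ y ∈ H₁, x * y * (x : G)⁻¹ * (y ^ (χ x).val)⁻¹ ∈ H₀ := by
  have := Fact.mk h.prime
  have hU := h.U_norm_H₀₉
  have hH := hN.le.trans h.H_norm_H₀₉
  have hc : Nat.card (quo H₁ H₀) = p := (card_quo hH).trans hN.index
  obtain ⟨χ, hχ⟩ := exists_cyclic_character (cyclic_of_prime (hc ▸ h.prime)) hc (quo_norm hN.norm H₀)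
  have h1 : ∀ (x : U) (k : ℕ), χ (qmHom hU x) = k → ∀ y ∈ H₁, x * y * (x : G)⁻¹ * (y ^ k)⁻¹ ∈ H₀ := by
    intro x k hk y hy
    have := hχ (qmHom hU x) k (by simpa using hk) _ (qm_mem hH hy)
    rwa [coe_qmHom, ← qm_conj (hU x.2) (hH hy), zpow_natCast, ← qm_pow (hH hy), qm_eq_iff
      (hH (conj_mem_of_norm (hN.norm x.2) hy)) (hH (H₁.pow_mem hy k))] at this
  have h2 : ∀ x : U, ∀ y ∈ H₁, x * y * (x : G)⁻¹ * (y ^ (χ (qmHom hU x)).val)⁻¹ ∈ H₀ :=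
    fun x => h1 x _ (ZMod.natCast_zmod_val _).symm
  refine ⟨χ.comp (qmHom hU), fun x => ⟨fun e => (mem_centMod hU).2 ⟨x.2, fun y hy => ?_⟩,
    fun e => ?_⟩, h2⟩
  · simpa using h1 x 1 (by simpa using e) y hy
  · obtain ⟨y, hy, hy'⟩ := SetLike.not_le_iff_exists.1 (h.nGal_not_le₉ hN)
    have e1 := (qm_eq_iff (hH (conj_mem_of_norm (hN.norm x.2) hy)) (hH (H₁.pow_mem hy _))).2 (h2 x y hy)
    have e2 := (qm_eq_iff (hH (conj_mem_of_norm (hN.norm x.2) hy)) (hH hy)).2 (centMod_rel e hy)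
    rw [e2, qm_pow (hH hy)] at e1
    have ho : orderOf (qm H₀ y) = p := by
      rw [← hc, ← zpowers_eq_of_prime (hc ▸ h.prime) (qm_mem hH hy)
        (fun e => hy' ((qm_eq_one_iff (hH hy)).1 e)), Nat.card_zpowers]
    have e3 := pow_eq_pow_iff_modEq.1 ((pow_one _).trans e1)
    rw [ho, ← ZMod.natCast_eq_natCast_iff, ZMod.natCast_zmod_val] at e3
    simpa using e3.symm

/-- The action of `U` on the line `H₁/H₀` is by a character `f` of `U` with values in `𝔽_p^×`. -/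
theorem nGal_exists_scalar : ∃ f : G → ZMod p, (∀ x ∈ U, ∀ y ∈ U, f (x * y) = f x * f y) ∧
    (∀ x ∈ U, f x = 1 ↔ x ∈ centMod U H₁ H₀) ∧
    ∀ x ∈ U, ∀ y ∈ H₁, x * y * x⁻¹ * (y ^ (f x).val)⁻¹ ∈ H₀ := by
  classical
  obtain ⟨χ, h1, h2⟩ := h.nGal_exists_hom₉ hN
  refine ⟨fun x => if hx : x ∈ U then χ ⟨x, hx⟩ else 1, fun x hx y hy => ?_, fun x hx => ?_,
    fun x hx => ?_⟩
  · simp only [dif_pos hx, dif_pos hy, dif_pos (U.mul_mem hx hy)]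
    exact χ.map_mul ⟨x, hx⟩ ⟨y, hy⟩
  · simp only [dif_pos hx]; exact h1 ⟨x, hx⟩
  · simp only [dif_pos hx]; exact h2 ⟨x, hx⟩

/-- Peterfalvi (9.7)(a): with `a = |U : U₁|`, `a > 1`, `a ∣ p - 1`, `U/U₁` is cyclic and `U/C`
embeds in a product of `q - 1` cyclic groups of order `a`. -/
theorem nGal_facts : 1 < (centMod U H₁ H₀).relIndex U ∧ (centMod U H₁ H₀).relIndex U ∣ p - 1 ∧
    (∃ x ∈ U, U = centMod U H₁ H₀ ⊔ zpowers x) ∧
    (∀ x ∈ U, x ^ (centMod U H₁ H₀).relIndex U ∈ centMod U 𝐇(M) H₀) ∧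
    (centMod U 𝐇(M) H₀).relIndex U ∣ (centMod U H₁ H₀).relIndex U ^ (Nat.card W₁ - 1) := by
  have := Fact.mk h.prime
  obtain ⟨χ, h1, -⟩ := h.nGal_exists_hom₉ hN
  have h2 : ∀ x : U, χ.toHomUnits x = 1 ↔ (x : G) ∈ centMod U H₁ H₀ := fun x => by
    rw [← h1, Units.ext_iff]; rfl
  have e := relIndex_eq_card_range _ h2
  have h3 : ∀ x : U, (∀ w : W₁, χ.toHomUnits (cj h.W₁_norm_U₉ w x) = 1) ↔
      (x : G) ∈ centMod U 𝐇(M) H₀ := fun x => by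
    simp only [← h.nGal_iInf hN, mem_iInf, S14.mem_conj, h2, coe_cj, Subtype.forall]
  refine ⟨?_, ?_, exists_gen_of_hom (centMod_le _ _ _) _ h2, fun x hx => ?_, ?_⟩
  · refine lt_of_le_of_ne (relIndex_pos _ _) fun e => h.nGal_not_le₉ hN fun y hy => ?_
    exact h.mem_of_fixed (hN.le hy) fun u hu => centMod_rel (relIndex_eq_one.1 e.symm hu) hy
  · rw [e, ← ZMod.card_units p, ← Nat.card_eq_fintype_card]
    exact card_subgroup_dvd_card _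
  · refine (h3 (⟨x, hx⟩ ^ _)).1 fun w => ?_
    rw [map_pow, map_pow, e]
    exact congrArg Subtype.val (pow_card_eq_one' (G := χ.toHomUnits.range) (x := ⟨_, _, rfl⟩))
  · rw [e]
    refine relIndex_dvd_pow h.W₁_norm_U₉ (coprime_comm_eq_of_cent_bot h.W₁_norm_U₉
      (regular_norm_coprime h.W₁_norm_U₉ (TypeP.semiReg h.ftp.P)).symm
      (Or.inr (nil_sol h.ftp.P.U_nilpotent)) ?_) _ h3
    exact SemiReg.cent (TypeP.semiReg h.ftp.P) le_rfl h.ftp.P.W₁_ne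

end NonGalois

/-- Peterfalvi (9.7)(b), the numerical part: `U/C` is cyclic of order prime to `p - 1` and dividing
`(p^q - 1)/(p - 1)`, and it acts regularly on `H/H₀`. -/
theorem pGalois_facts (hG : PGalois U 𝐇(M) H₀) :
    (∃ x ∈ U, U = centMod U 𝐇(M) H₀ ⊔ zpowers x) ∧
    ((centMod U 𝐇(M) H₀).relIndex U).Coprime (p - 1) ∧
    (centMod U 𝐇(M) H₀).relIndex U ∣ (p ^ Nat.card W₁ - 1) / (p - 1) ∧
    ∀ x ∈ U, ∀ y ∈ 𝐇(M), x * y * x⁻¹ * y⁻¹ ∈ H₀ → x ∈ centMod U 𝐇(M) H₀ ∨ y ∈ H₀ := by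
  have hU := h.U_norm_H₀₉
  have hH := h.H_norm_H₀₉
  obtain ⟨v, hv, hv1⟩ := exists_ne_one (mt (quo_eq_bot_iff hH).1 (not_le_of_gt h.chief.lt))
  obtain ⟨F, _, _, f, ψ, hF, -⟩ := Perm.exists_fieldCoord ((quo_abelian_iff hH).2 h.der_le)
    (quo_norm h.U_norm_H₉ H₀) (by
      rw [← quo_comm hU hU, quo_le_cent_iff ((BG.der_le U).trans hU) hH]
      exact (le_centMod_iff.1 h.der_le_C).2.2)
    (fun W hW hn => by
      rcases hG (copre H₀ W) (norm_copre hU hn) (le_copre W)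
        (copre_le_of_le_quo ⟨h.H₀_le₉, hH⟩ hW) with e | e
      · exact Or.inl (copre_eq_self_iff.1 e)
      · exact Or.inr (by rw [← e, quo_copre])) hv hv1
  have hc : Nat.card F = p ^ Nat.card W₁ := by rw [hF.card_eq, card_quo hH, h.index]
  have h1 : ∀ x ∈ U, ψ (qm H₀ x) = 1 ↔ x ∈ centMod U 𝐇(M) H₀ := fun x hx => by
    rw [hF.psi_eq_one_iff (qm_mem hU hx), qm_mem_cent_iff hH hU hx]
  have h2 : ∀ x : U, (hF.psiHom.comp (qmHom hU)) x = 1 ↔ (x : G) ∈ centMod U 𝐇(M) H₀ := fun x => by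
    rw [← h1 x x.2, Units.ext_iff]; rfl
  have e := relIndex_eq_card_range _ h2
  have hcop : ((centMod U 𝐇(M) H₀).relIndex U).Coprime (p - 1) := by
    refine Nat.coprime_of_dvd fun r hr hd hd' => ?_
    have := Fact.mk hr
    rw [e] at hd
    obtain ⟨⟨_, x, rfl⟩, hx⟩ := exists_prime_orderOf_dvd_card' r hd
    have h3 : ψ (qm H₀ x) ^ (p - 1) = 1 := congrArg (fun t => (t.1 : F))
      (orderOf_dvd_iff_pow_eq_one.1 (hx ▸ hd'))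
    have h4 : ψ (qm H₀ x) ^ p = ψ (qm H₀ x) := by
      rw [← Nat.sub_add_cancel h.prime.pos, pow_succ, h3, one_mul]
    obtain ⟨n, hn⟩ := (exists_intCast_of_pow h.prime hc).1 h4
    obtain ⟨w, hw, hw1⟩ := exists_ne_one h.ftp.P.W₁_ne
    have hw₀ := h.W₁_norm_H₀₉ hw
    obtain ⟨c, σ, -, -, hσ⟩ := hF.exists_semilinear
      (quo_norm h.W₁_norm_H₉ H₀ (qm_mem h.W₁_norm_H₀₉ hw))
      (quo_norm h.W₁_norm_U₉ H₀ (qm_mem h.W₁_norm_H₀₉ hw))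
    have h5 := hσ _ (qm_mem hU x.2)
    have h6 := conj_mem_of_norm (h.W₁_norm_U₉ hw) x.2
    rw [← hn, map_intCast, hn, ← qm_conj hw₀ (hU x.2)] at h5
    have h7 : (x : G) ∈ centMod U 𝐇(M) H₀ := by
      refine h.frob_mod_C hw hw1 x.2 ((h1 _ (U.mul_mem h6 (inv_mem x.2))).1 ?_)
      rw [qm_mul (hU h6) (hU (inv_mem x.2)), qm_inv (hU x.2), hF.psi_mul (qm_mem hU h6)
        (inv_mem (qm_mem hU x.2)), hF.psi_inv (qm_mem hU x.2), h5,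
        mul_inv_cancel₀ (hF.psi_ne_zero (qm_mem hU x.2))]
    rw [← h2] at h7
    exact hr.one_lt.ne' (hx.symm.trans (orderOf_eq_one_iff.2 (Subtype.ext h7)))
  refine ⟨exists_gen_of_hom (centMod_le _ _ _) _ h2, hcop, ?_, fun x hx y hy hxy => ?_⟩
  · refine hcop.dvd_of_dvd_mul_left ?_
    rw [Nat.mul_div_cancel' (Nat.sub_one_dvd_pow_sub_one p _), e, ← hc, ← Nat.card_units]
    exact card_subgroup_dvd_card _
  · by_cases hy' : y ∈ H₀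
    · exact Or.inr hy'
    · exact Or.inl ((h1 x hx).1 (hF.psi_eq_one_of_fix (qm_mem hU hx) (qm_mem hH hy)
        (mt (qm_eq_one_iff (hH hy)).1 hy') ((qm_conj_eq_iff (hU hx) (hH hy)).2 hxy)))

end PCore

/-- Peterfalvi (9.7)(b), the field structure, when `H₀ = 1` (needed for (14.2) only). -/
theorem PCore.exists_field (h : PCore M U W₁ W₂ ⊥ p) (hG : PGalois U 𝐇(M) ⊥) :
    ∃ (F : Type) (_ : Field F) (_ : Fintype F) (f ψ : G → F), Fintype.card F = p ^ Nat.card W₁ ∧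
      Set.BijOn f (𝐇(M) : Set G) Set.univ ∧ (∀ x ∈ 𝐇(M), ∀ y ∈ 𝐇(M), f (x * y) = f x + f y) ∧
      (∀ u ∈ U, ψ u ≠ 0 ∧ ∀ x ∈ 𝐇(M), f (u * x * u⁻¹) = ψ u * f x) ∧
      (∀ u ∈ U, ∀ v ∈ U, ψ (u * v) = ψ u * ψ v) ∧ (∀ u ∈ U, ψ u = 1 → u ∈ 𝐂(𝐇(M))) ∧
      ∀ x ∈ 𝐇(M), x ∈ W₂ ↔ f x ^ p = f x := by
  have hW : Nat.card W₂ = p := relIndex_bot_left (H := W₂) ▸ h.relIndex_W₂
  have hle := TypeP.W₂_le h.ftp.P
  obtain ⟨v, hv, hv1⟩ := exists_ne_one (ne_bot_of_prime (hW ▸ h.prime))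
  obtain ⟨F, _, _, f, ψ, hF, h1⟩ := Perm.exists_fieldCoord (abelian_iff_der.2 (le_bot_iff.1 h.der_le))
    h.U_norm_H₉ (TypeP.der_le_cent h.ftp.P) (fun W hW hn => hG W hn bot_le hW) (hle hv) hv1
  have hc : Nat.card F = p ^ Nat.card W₁ := by rw [hF.card_eq, ← h.index, relIndex_bot_left]
  refine ⟨F, _, _, f, ψ, Nat.card_eq_fintype_card.symm.trans hc, hF.bij, hF.add,
    fun u hu => ⟨hF.psi_ne_zero hu, hF.conj u hu⟩, fun u hu v hv => hF.psi_mul hu hv,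
    fun u hu => (hF.psi_eq_one_iff hu).1, fun x hx => ?_⟩
  rw [exists_intCast_of_pow h.prime hc, ← zpowers_eq_of_prime (hW ▸ h.prime) hv hv1, mem_zpowers_iff]
  refine exists_congr fun n => ⟨fun e => ?_, fun e => hF.inj (zpow_mem (hle hv) n) hx ?_⟩
  · rw [← e, hF.map_zpow (hle hv), h1, mul_one]
  · rw [← e, hF.map_zpow (hle hv), h1, mul_one]

end Cfsg.Lib.BG.Z.PF
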