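import Cfsg.Agent.Lib.PF.Sec9CharAux
import Cfsg.Agent.Lib.ZQ.Sec9Core
import Cfsg.Agent.Lib.ZQ.Sec8Dade
import Cfsg.Agent.Lib.ZB.Max

/-!
# Auxiliary results for Peterfalvi (9.8)-(9.10): characters of `M' = H U` over a linear character
of `H/H₀`
-/

set_option autoImplicit false
set_option linter.unusedVariables false

namespace Cfsg.Lib.BG.Z.PF

open Subgroup
open Cfsg.Lib.PF
open scoped Cfsg.Lib.Transfer Classical

section General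

variable {X : Type*} [Group X] [Finite X] {H U K A B I J : Subgroup X} {lam θ : X → ℂ}

end General

variable {G : Type*} [Group G] [Finite G] [Sz G] {M U W₁ W₂ H₀ H₁ I : Subgroup G} {p : ℕ}
  {lam lam' θ : G → ℂ}

namespace PCore

variable (h : PCore M U W₁ W₂ H₀ p)
include h

omit [Finite G] [Sz G] in
theorem sdK : SD 𝐇(M) U ⁅M, M⁆ := TypeP.sd_core h.ftp.P

omit [Finite G] [Sz G] in
theorem U_le_M : U ≤ M := h.sdK.right_le.trans (BG.der_le M)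

omit [Finite G] [Sz G] in
theorem W₁_le_M : W₁ ≤ M := (TypeP.sd_der h.ftp.P).right_le

theorem lin_of_le_cfker (hl : lam ∈ Irr 𝐇(M)) (h₀ : H₀ ≤ cfker lam) : lam 1 = 1 :=
  Irr.apply_one_of_commutator_le hl (h.der_le.trans h₀)

theorem C_le_inertia (hl : lam ∈ Irr 𝐇(M)) (h₀ : H₀ ≤ cfker lam) :
    centMod U 𝐇(M) H₀ ≤ U ⊓ inertia lam :=
  le_inf (centMod_le _ _ _) (PCore.centMod_le_inertia (Irr.mem_CF hl) h₀ h.sdK.norm h.chief.lt.le)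

theorem U_norm_of_C_le (h1 : centMod U 𝐇(M) H₀ ≤ I) (h2 : I ≤ U) : U ≤ 𝐍(I) :=
  le_normalizer_of_commutator_le (h.der_le_C.trans h1) h2

/-- If the subgroup `[I, H] H₀` is `H₀` or `H`, then `I ≤ C`. -/
theorem le_C_of_inertia (hl : lam ∈ Irr 𝐇(M)) (h₀ : H₀ ≤ cfker lam) (h₁ : ¬ 𝐇(M) ≤ cfker lam)
    (hI : I ≤ U ⊓ inertia lam) (hc : ⁅I, 𝐇(M)⁆ ⊔ H₀ = H₀ ∨ ⁅I, 𝐇(M)⁆ ⊔ H₀ = 𝐇(M)) :
    I ≤ centMod U 𝐇(M) H₀ := by
  rcases hc with hc | hc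
  · exact fun x hx => (mem_centMod (h.U_le_M.trans h.chief.nmlV.norm)).2
      ⟨(hI hx).1, fun y hy => hc.le (mem_sup_left (comm_mem_comm hx hy))⟩
  · exact absurd (hc.ge.trans (sup_le (commutator_le_cfker_of_inertia hl (h.lin_of_le_cfker hl h₀)
      ((hI.trans inf_le_left).trans h.sdK.norm) (hI.trans inf_le_right)) h₀)) h₁

theorem pGalois_inertia_le (hG : PGalois U 𝐇(M) H₀) (hl : lam ∈ Irr 𝐇(M)) (h₀ : H₀ ≤ cfker lam)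
    (h₁ : ¬ 𝐇(M) ≤ cfker lam) : U ⊓ inertia lam ≤ centMod U 𝐇(M) H₀ :=
  h.le_C_of_inertia hl h₀ h₁ le_rfl (hG _ (norm_sup (norm_comm
    (h.U_norm_of_C_le (h.C_le_inertia hl h₀) inf_le_left) h.sdK.norm)
    (h.U_le_M.trans h.chief.nmlV.norm)) le_sup_right
    (sup_le (comm_le_right (inf_le_left.trans h.sdK.norm)) h.chief.lt.le))

omit [Sz G] in
/-- A constituent of the restriction to `H` of a character of `M'/H₀`. -/
theorem exists_constituent (hθ : θ ∈ Irr ⁅M, M⁆) (h₀ : H₀ ≤ cfker θ) :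
    ∃ lam ∈ Irr 𝐇(M), cfdot 𝐇(M) θ lam ≠ 0 ∧ H₀ ≤ cfker lam ∧
      ∀ A : Subgroup G, A ≤ 𝐇(M) → ⁅M, M⁆ ≤ 𝐍(A) → A ≤ cfker lam → A ≤ cfker θ := by
  obtain ⟨lam, hl, hne⟩ := Irr.exists_res_constituent h.sdK.left_le hθ
  exact ⟨lam, hl, hne, (Irr.isChar hθ).le_cfker_of_res h.sdK.left_le h.chief.lt.le h₀ hl hne,
    fun A hA hn hk => Irr.le_cfker_of_over h.sdK.left_le hA hn hθ hne (Irr.isChar hl) hk⟩

/-- The inertia group in `U` of a constituent of an `M`-invariant character is `C`. -/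
theorem inertia_le_C_of_invariant (hθ : θ ∈ Irr ⁅M, M⁆) (hM : M ≤ inertia θ) (hl : lam ∈ Irr 𝐇(M))
    (hne : cfdot 𝐇(M) θ lam ≠ 0) (h₀ : H₀ ≤ cfker lam) (h₁ : ¬ 𝐇(M) ≤ cfker lam) :
    U ⊓ inertia lam ≤ centMod U 𝐇(M) H₀ := by
  have hU := h.U_norm_of_C_le (h.C_le_inertia hl h₀) inf_le_left
  have hW : W₁ ≤ 𝐍(U ⊓ inertia lam) := le_norm_iff.2 fun w hw x hx => by
    have hwH := (MF_nml M).norm (h.W₁_le_M hw)
    have h1 : cfConj w lam ∈ cfclass ⁅M, M⁆ lam :=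
      Irr.mem_cfclass_of_over h.sdK.left_le h.sdK.nml.norm hθ hl (Irr.cfConj_mem hwH hl) hne (by
        rwa [← mem_inertia.1 (hM (h.W₁_le_M hw)), cfdot_cfConj hwH])
    obtain ⟨k, hk, e⟩ := mem_cfclass.1 h1
    obtain ⟨a, ha, y, hy, rfl⟩ := h.sdK.mem hk
    rw [cfConj_mul, CF.cfConj_eq (Irr.mem_CF hl) ha] at e
    refine mem_inf.2 ⟨conj_mem_of_norm (h.ftp.P.U_normal hw) hx.1, ?_⟩
    rw [← mem_inertia_cfConj, ← e, mem_inertia_cfConj]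
    exact (conj_mem_of_norm (hU hy) hx).2
  refine h.le_C_of_inertia hl h₀ h₁ le_rfl (h.chief.min _ (norm_sup ?_ h.chief.nmlV.norm) le_sup_right
    (sup_le (comm_le_right (inf_le_left.trans h.sdK.norm)) h.chief.lt.le))
  rw [← (TypeP.sd_Fcore h.ftp.P).sup]
  refine sup_le ?_ (norm_comm (sup_le hU hW) ?_)
  · rw [(TypeP.sd_Fcore h.ftp.P).sup]
    exact right_norm_comm _ _
  · rw [(TypeP.sd_Fcore h.ftp.P).sup]
    exact (TypeP.sd_Fcore h.ftp.P).norm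

/-- A character of `M'/H₀C'` over a character of `H` with inertia group `C` in `U`. -/
theorem isIndLin_of_inertia_le (hθ : θ ∈ Irr ⁅M, M⁆)
    (h₀ : H₀ ⊔ ⁅centMod U 𝐇(M) H₀, centMod U 𝐇(M) H₀⁆ ≤ cfker θ) (hl : lam ∈ Irr 𝐇(M))
    (hne : cfdot 𝐇(M) θ lam ≠ 0) (hI : U ⊓ inertia lam ≤ centMod U 𝐇(M) H₀) :
    θ 1 = (centMod U 𝐇(M) H₀).relIndex U ∧ IsIndLin (𝐇(M) ⊔ centMod U 𝐇(M) H₀) ⁅M, M⁆ θ := by
  obtain ⟨ψ, hψ, e, h1⟩ := exists_ind_eq_of_inertia_le h.sdK hθ hl hne hI (centMod_le _ _ _)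
  have hT : 𝐇(M) ⊔ centMod U 𝐇(M) H₀ ≤ ⁅M, M⁆ :=
    sup_le h.sdK.left_le ((centMod_le _ _ _).trans h.sdK.right_le)
  have h2 : ψ 1 = 1 := Irr.apply_one_of_commutator_le hψ
    ((Irr.isChar hθ).le_cfker_of_res hT (BG.der_le _) (h.der_HC_le.trans h₀) hψ (by
      rw [← cfdot_ind_right hT ψ (Irr.mem_CF hθ), e, Irr.cfdot_self hθ]
      exact one_ne_zero))
  exact ⟨by rw [h1, h2, mul_one], ψ, hψ, h2, e.symm⟩

/-- The character of `M'` induced from the extension of `lam` to `H I` with `I` in its kernel. -/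
theorem exists_ind_of_inertia (hl : lam ∈ Irr 𝐇(M)) (h₀ : H₀ ≤ cfker lam)
    (h₁ : ¬ 𝐇(M) ≤ cfker lam) (hI : U ⊓ inertia lam = I) :
    ∃ χ ∈ Irr ⁅M, M⁆, cfdot 𝐇(M) χ lam = 1 ∧ χ 1 = I.relIndex U ∧ IsIndLin (𝐇(M) ⊔ I) ⁅M, M⁆ χ ∧
      ind ⁅M, M⁆ M χ ∈ seqIndD ⁅M, M⁆ M 𝐇(M) (H₀ ⊔ centMod U 𝐇(M) H₀) := by
  have hIU : I ≤ U := hI.ge.trans inf_le_left
  have hd : 𝐇(M) ⊓ I = ⊥ := eq_bot_mono h.sdK.inf (inf_le_inf_left _ hIU)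
  have hCI := hI ▸ h.C_le_inertia hl h₀
  obtain ⟨hξ, hξ1⟩ := cfProd_mem_Irr_of_inertia (hIU.trans h.sdK.norm) hd hl (h.lin_of_le_cfker hl h₀)
    (hI.ge.trans inf_le_right) (cf1_mem_Irr I) (cf1_one I)
  have hr := res_cfProd_cf1 hd (Irr.mem_CF hl)
  obtain ⟨h2, h3, h4⟩ := ind_mem_Irr_of_inertia_le h.sdK hξ hξ1 (by rw [hr, hI]) hIU
  rw [hr] at h4
  have hT : 𝐇(M) ⊔ I ≤ ⁅M, M⁆ := sup_le h.sdK.left_le (hIU.trans h.sdK.right_le)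
  refine ⟨_, h2, h4, h3, ⟨_, hξ, hξ1, rfl⟩, SeqInd.ind_mem h2 ?_ fun h5 => h₁ ?_⟩
  · refine (le_cfker_ind_iff hT (sup_le_sup h.chief.lt.le hCI) ((BG.der_le M).trans
      (h.nml_H₀_sup le_rfl h.norm_C).norm) (Irr.isChar hξ)).2 (sup_le (fun x hx => ?_) fun x hx => ?_)
    · rw [Irr.mem_cfker_iff hξ, hξ1, ← res_of_mem (cfProd _ _ _) (h.chief.lt.le hx), hr, cfker_apply (h₀ hx),
        h.lin_of_le_cfker hl h₀]
    · have := cfProd_mul (φ := lam) hd (cf1_mem_CF I).1 (one_mem _) (hCI hx)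
      rw [Irr.mem_cfker_iff hξ, hξ1, ← one_mul x, this, h.lin_of_le_cfker hl h₀, cf1_of_mem (hCI hx),
        mul_one]
  · exact (Irr.isChar h2).le_cfker_of_res h.sdK.left_le le_rfl h5 hl (h4 ▸ one_ne_zero)

section NonGalois

variable (hN : NGal U W₁ 𝐇(M) H₀ H₁ lam p)
include hN

theorem nGal_K_norm : ⁅M, M⁆ ≤ 𝐍(H₁) :=
  h.sdK.sup.ge.trans (sup_le (le_normalizer_of_commutator_le (h.der_le.trans hN.le₀) hN.le) hN.norm)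

theorem nGal_K_norm_conj {w : G} (hw : w ∈ W₁) : ⁅M, M⁆ ≤ 𝐍(w ⋆ H₁) := by
  rw [← Transfer.conj_normalizer, ← (Nml.der_self M).conj_eq (h.W₁_le_M hw)]
  exact Transfer.conj_mono w (h.nGal_K_norm hN)

omit [Sz G] in
theorem nGal_conj_le {w : G} (hw : w ∈ W₁) : w ⋆ H₁ ≤ 𝐇(M) :=
  conj_le_of_norm hN.le ((MF_nml M).norm (h.W₁_le_M hw))

theorem nGal_inertia_le (hl : lam' ∈ Irr 𝐇(M)) (h₀ : H₀ ≤ cfker lam') (h₁ : ¬ H₁ ≤ cfker lam') :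
    U ⊓ inertia lam' ≤ centMod U H₁ H₀ := fun x hx => by
  rcases eq_or_eq_of_relIndex_prime h.prime hN.index (le_inf hN.le₀ h₀) inf_le_left with e | e
  · refine (mem_centMod (h.U_le_M.trans h.chief.nmlV.norm)).2 ⟨hx.1, fun y hy => e.le ⟨?_, ?_⟩⟩
    · exact H₁.mul_mem (conj_mem_of_norm (hN.norm hx.1) hy) (H₁.inv_mem hy)
    · exact conj_mul_inv_mem_cfker hl (h.lin_of_le_cfker hl h₀) (h.sdK.norm hx.1) hx.2 (hN.le hy)
  · exact absurd (e.ge.trans inf_le_right) h₁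

theorem nGal_inertia_le_conj (hl : lam' ∈ Irr 𝐇(M)) (h₀ : H₀ ≤ cfker lam') {w : G} (hw : w ∈ W₁)
    (h₁ : ¬ H₁ ≤ cfker (cfConj w lam')) : U ⊓ inertia lam' ≤ w ⋆ centMod U H₁ H₀ := fun x hx => by
  refine Transfer.mem_conj.2 (h.nGal_inertia_le hN (Irr.cfConj_mem ((MF_nml M).norm (h.W₁_le_M hw)) hl)
    ((le_cfker_cfConj_iff (h.chief.nmlV.norm (h.W₁_le_M hw))).2 h₀) h₁
    (mem_inf.2 ⟨conj_mem_of_norm' (h.ftp.P.U_normal hw) hx.1, ?_⟩))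
  rw [mem_inertia_cfConj]
  simpa [mul_assoc] using hx.2

end NonGalois

end PCore

end Cfsg.Lib.BG.Z.PF
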